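import Cfsg.Agent.SuzukiType.Local.Odd
import Mathlib.GroupTheory.SchurZassenhaus
import Mathlib.GroupTheory.SpecificGroups.Alternating

/-!
The normalizer of a Sylow subgroup for the prime seven.
-/

set_option autoImplicit false
set_option maxRecDepth 100000
set_option maxHeartbeats 1000000
set_option linter.unusedSectionVars false
set_option linter.style.haveILetI false

namespace Cfsg.Lib.SuzukiType

open Subgroup
open Cfsg.Lib.InvolCalc (sq_of_order_two order_two_of_mul_self ne_one_of_order_two)

universe u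

theorem FourCent.Hyp.iso_alt {H : Type u} [Group H] [Finite H] (h : FourCent.Hyp H) (h12 : Nat.card H = 12) :
    Nonempty (H ≃* alternatingGroup (Fin 4)) := by
  classical
  haveI : Fact (Nat.Prime 3) := ⟨Nat.prime_three⟩
  haveI : Fact (Nat.Prime 2) := ⟨Nat.prime_two⟩
  obtain ⟨s, hs⟩ := exists_prime_orderOf_dvd_card' (G := H) 3 (by rw [h12]; norm_num)
  set S := zpowers s with hS
  have hSc : Nat.card ↥S = 3 := by rw [hS, Nat.card_zpowers, hs]
  have hidx : Nat.card (H ⧸ S) = 4 := by
    have := card_eq_card_quotient_mul_card_subgroup S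
    rw [h12, hSc] at this
    omega
  obtain ⟨eF⟩ : Nonempty ((H ⧸ S) ≃ Fin 4) := ⟨Finite.equivFinOfCardEq hidx⟩
  let f : H →* Equiv.Perm (Fin 4) := (eF.permCongrHom).toMonoidHom.comp (MulAction.toPermHom H (H ⧸ S))
  have hker : f.ker = ⊥ := by
    show ((eF.permCongrHom).toMonoidHom.comp (MulAction.toPermHom H (H ⧸ S))).ker = ⊥
    rw [← MonoidHom.comap_ker, (MonoidHom.ker_eq_bot_iff _).mpr (show Function.Injective eF.permCongrHom.toMonoidHom from
      eF.permCongrHom.injective), MonoidHom.comap_bot, ← normalCore_eq_ker]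
    by_contra hne
    have hle := normalCore_le S
    have hcard : Nat.card ↥S.normalCore = 3 := by
      have hd := card_dvd_of_le hle
      rw [hSc] at hd
      rcases (Nat.dvd_prime Nat.prime_three).mp hd with r | r
      · exact absurd (card_eq_one.mp r) hne
      · exact r
    have heq : S.normalCore = S := eq_of_le_of_card_ge hle (by rw [hcard, hSc])
    have hN : S.Normal := heq ▸ normalCore_normal S
    obtain ⟨a, b, ha, hb, hab, hne'⟩ := h.four
    have key : ∀ x : H, orderOf x = 2 → x * s * x⁻¹ = s⁻¹ := by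
      intro x hx
      have hm := hN.conj_mem s (mem_zpowers s) x
      have hne1 : x * s * x⁻¹ ≠ s := fun e => by
        have hc : Commute s x := (mul_inv_eq_iff_eq_mul.mp e).symm
        have h2 := orderOf_dvd_of_pow_eq_one (show s ^ 2 = 1 by rw [pow_two]; exact h.exponent hx hc)
        rw [hs] at h2
        norm_num at h2
      have hne0 : x * s * x⁻¹ ≠ 1 := fun e => by
        rw [conj_eq_one_iff.mp e, orderOf_one] at hs
        norm_num at hs
      rw [hS, mem_zpowers_iff_mem_range_orderOf, hs] at hm
      simp only [Finset.mem_image, Finset.mem_range] at hm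
      obtain ⟨i, hi, e⟩ := hm
      interval_cases i
      · exact absurd (e.symm.trans (pow_zero s)) hne0
      · exact absurd (e.symm.trans (pow_one s)) hne1
      · rw [← e]
        exact eq_inv_of_mul_eq_one_left (by rw [← pow_succ, show 2 + 1 = orderOf s from hs.symm, pow_orderOf_eq_one])
    have hcm : Commute s (a * b) := by
      refine ((mul_inv_eq_iff_eq_mul.mp ?_).symm : Commute s (a * b))
      rw [show a * b * s * (a * b)⁻¹ = a * (b * s * b⁻¹) * a⁻¹ by group, key b hb,
        show a * s⁻¹ * a⁻¹ = (a * s * a⁻¹)⁻¹ by group, key a ha, inv_inv]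
    have hab2 : orderOf (a * b) = 2 := order_two_of_mul_self
      (by rw [hab.symm.mul_mul_mul_comm, sq_of_order_two ha, sq_of_order_two hb, one_mul]) fun e => hne' (by
        rw [← Cfsg.Lib.InvolCalc.inv_of_order_two hb]; exact eq_inv_of_mul_eq_one_left e)
    have h2 := orderOf_dvd_of_pow_eq_one (show s ^ 2 = 1 by rw [pow_two]; exact h.exponent hab2 hcm)
    rw [hs] at h2
    norm_num at h2
  have hinj : Function.Injective f := (MonoidHom.ker_eq_bot_iff f).mp hker
  have hr : f.range = alternatingGroup (Fin 4) := by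
    refine Equiv.Perm.eq_alternatingGroup_of_index_eq_two ?_
    have := f.range.card_mul_index
    rw [← Nat.card_congr (MonoidHom.ofInjective hinj).toEquiv, h12, Nat.card_eq_fintype_card (α := Equiv.Perm (Fin 4)),
      Fintype.card_perm, Fintype.card_fin] at this
    norm_num [Nat.factorial] at this
    omega
  exact ⟨(MonoidHom.ofInjective hinj).trans (MulEquiv.subgroupCongr hr)⟩

variable {G : Type u} [Group G] [Finite G] {z : G}

namespace Four

variable (d : Four z)

include d in
theorem fact_seven : (Nat.card G).factorization 7 = 1 :=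
  factorization_one (by norm_num) Nat.card_pos.ne' (by rw [d.card_G]; norm_num) (by rw [d.card_G]; norm_num)

theorem seven_main {b : G} (hb : orderOf b = 7) (hbt : Commute b d.t) :
    Nonempty (↥(centralizer ({b} : Set G)) ≃* Multiplicative (ZMod 7) × alternatingGroup (Fin 4)) ∧
      Nat.card ↥(normalizer (zpowers b : Set G)) = 504 := by
  classical
  obtain ⟨h, hh, hC⟩ := d.local_order (Or.inr rfl) hb hbt
  obtain ⟨e, he, hN, -⟩ := norm_zpowers (by norm_num) hb
  have hs := sylow_count (by norm_num) hb d.fact_seven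
  have hm := (normalizer (zpowers b : Set G)).card_mul_index
  rw [hN, hC, d.card_G] at hm
  have hsol : h = 12 ∧ e = 6 := by
    have h6 := Nat.le_of_dvd (by norm_num) he
    rcases hh with rfl | rfl | rfl <;> interval_cases e <;> omega
  obtain ⟨rfl, rfl⟩ := hsol
  refine ⟨?_, by rw [hN, hC]⟩
  set C := centralizer ({b} : Set G) with hCdef
  set b' : ↥C := ⟨b, mem_Cs.mpr (Commute.refl b)⟩ with hb'
  set N : Subgroup ↥C := zpowers b' with hNdef
  have hcen : ∀ w : ↥C, ∀ n ∈ N, Commute n w := by
    intro w n hn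
    have hwb : Commute w b' := Subtype.ext (mem_Cs.mp w.2).eq
    exact (commute_of_mem_zpowers hwb hn).symm
  haveI : N.Normal := ⟨fun n hn g => by rw [(hcen g n hn).symm.eq, mul_inv_cancel_right]; exact hn⟩
  have hNc : Nat.card ↥N = 7 := by rw [hNdef, Nat.card_zpowers, hb', Subgroup.orderOf_mk, hb]
  have hq : Nat.card (↥C ⧸ N) = 12 := by
    have := card_eq_card_quotient_mul_card_subgroup N
    rw [hC, hNc] at this
    omega
  obtain ⟨eA⟩ := (d.local_hyp (Or.inr rfl) hb hbt N rfl).iso_alt hq
  obtain ⟨L, hL⟩ := exists_right_complement'_of_coprime (N := N) (by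
    rw [hNc, show N.index = 12 from hq]; norm_num)
  let f : ↥N × ↥L →* ↥C :=
    { toFun := fun u => u.1.1 * u.2.1
      map_one' := mul_one _
      map_mul' := fun u v => by
        show u.1.1 * v.1.1 * (u.2.1 * v.2.1) = u.1.1 * u.2.1 * (v.1.1 * v.2.1)
        rw [(hcen u.2.1 v.1.1 v.1.2).mul_mul_mul_comm] }
  have hf : Function.Bijective f := hL
  let eL : ↥L ≃* (↥C ⧸ N) := (IsComplement'.QuotientMulEquiv hL.symm).symm
  haveI : Fact (Nat.Prime 7) := ⟨by norm_num⟩
  let eN : ↥N ≃* Multiplicative (ZMod 7) := mulEquivOfPrimeCardEq (p := 7) hNc (by simp)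
  exact ⟨(MulEquiv.ofBijective f hf).symm.trans (MulEquiv.prodCongr eN (eL.trans eA))⟩

include d in
theorem seven (B : Sylow 7 G) :
    Nonempty (↥(centralizer ((B : Subgroup G) : Set G)) ≃* Multiplicative (ZMod 7) × alternatingGroup (Fin 4)) ∧
      Nat.card ↥(normalizer ((B : Subgroup G) : Set G)) = 504 := by
  haveI : Fact (Nat.Prime 7) := ⟨by norm_num⟩
  obtain ⟨b, hb, hbt⟩ := d.exists_elem (p := 7) (Or.inr rfl)
  let P : Sylow 7 G := Sylow.ofCard (zpowers b) (by rw [d.fact_seven, pow_one, Nat.card_zpowers, hb])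
  obtain ⟨g, hg⟩ := MulAction.exists_smul_eq G P B
  have hB : (B : Subgroup G) = (zpowers b).map (MulAut.conj g).toMonoidHom := by
    rw [← hg]
    rfl
  obtain ⟨⟨e1⟩, e2⟩ := d.seven_main hb hbt
  have hC : (centralizer ({b} : Set G)).map (MulAut.conj g).toMonoidHom =
      centralizer ((B : Subgroup G) : Set G) := by
    rw [hB, ← centralizer_zpowers b]
    ext x
    simp only [mem_map_equiv, MulAut.conj_symm_apply, mem_centralizer_iff, SetLike.mem_coe]
    constructor
    · intro hx w hw
      have h1 := hx _ hw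
      calc w * x = g * ((g⁻¹ * w * g) * (g⁻¹ * x * g)) * g⁻¹ := by group
        _ = x * w := by rw [h1]; group
    · intro hx w hw
      have h1 := hx (g * w * g⁻¹) (by rwa [show g⁻¹ * (g * w * g⁻¹) * g = w by group])
      calc w * (g⁻¹ * x * g) = g⁻¹ * (g * w * g⁻¹ * x) * g := by group
        _ = g⁻¹ * x * g * w := by rw [h1]; group
  refine ⟨⟨((((centralizer ({b} : Set G)).equivMapOfInjective (MulAut.conj g).toMonoidHom
    (MulAut.conj g).injective).trans (MulEquiv.subgroupCongr hC)).symm).trans e1⟩, ?_⟩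
  rw [hB, ← map_equiv_normalizer_eq, card_map_of_injective (MulAut.conj g).injective]
  exact e2

end Four

end Cfsg.Lib.SuzukiType
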