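import Cfsg.Agent.SuzukiType.Local.Five
import Cfsg.Agent.InvolCalc.Dihedral
import Mathlib.GroupTheory.Perm.Finite
import Mathlib.GroupTheory.SpecificGroups.Dihedral

/-!
The Sylow normalizer for the prime five modulo its Sylow subgroup, and the two classes of lines.
-/

set_option autoImplicit false
set_option maxRecDepth 100000
set_option maxHeartbeats 1000000
set_option linter.unusedSectionVars false
set_option linter.style.haveILetI false

namespace Cfsg.Lib.SuzukiType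

open Subgroup

universe u

theorem sym_three_invert : ∀ s r : Equiv.Perm (Fin 3),
    s * s = 1 → s ≠ 1 → r * r * r = 1 → r ≠ 1 → s * r * s = r⁻¹ := by decide

/-- A group of order 24 with a central cyclic kernel of order four over the symmetric group of degree three. -/
theorem quot_struct {W X : Type*} [Group W] [Finite W] [Group X] (f : W →* X) (ψ : X ≃* Equiv.Perm (Fin 3))
    (hW : Nat.card W = 24) {c τ : W} (hc : orderOf c = 4) (hcen : ∀ w, Commute c w) (hker : f.ker = zpowers c)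
    (hτ : orderOf τ = 2) (hτf : f τ ≠ 1) :
    Nonempty (W ≃* Multiplicative (ZMod 4) × Equiv.Perm (Fin 3)) := by
  classical
  haveI : Fact (Nat.Prime 3) := ⟨Nat.prime_three⟩
  haveI : Finite X := Finite.of_equiv _ ψ.symm.toEquiv
  obtain ⟨σ, hσ⟩ := exists_prime_orderOf_dvd_card' (G := W) 3 (by rw [hW]; norm_num)
  have hσf : f σ ≠ 1 := fun e => by
    have h := orderOf_dvd_of_mem_zpowers (show σ ∈ zpowers c from hker ▸ MonoidHom.mem_ker.mpr e)
    rw [hσ, hc] at h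
    norm_num at h
  have hσ3 : σ ^ 3 = 1 := hσ ▸ pow_orderOf_eq_one σ
  have hττ : τ * τ = 1 := by rw [← pow_two, ← hτ, pow_orderOf_eq_one]
  have hinv : f (τ * σ * τ) = f σ⁻¹ := by
    apply ψ.injective
    have := sym_three_invert (ψ (f τ)) (ψ (f σ)) (by rw [← map_mul, ← map_mul, hττ, map_one, map_one])
      ((map_ne_one_iff ψ ψ.injective).mpr hτf)
      (by rw [← map_mul, ← map_mul, ← map_mul, ← map_mul, ← pow_two, ← pow_succ, hσ3, map_one, map_one])
      ((map_ne_one_iff ψ ψ.injective).mpr hσf)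
    simpa only [map_mul, map_inv] using this
  set ζ := σ * (τ * σ * τ) with hζdef
  have hζ : ζ ∈ zpowers c := by
    rw [← hker, MonoidHom.mem_ker, hζdef, map_mul, hinv, map_inv, mul_inv_cancel]
  have hζc : ∀ w, Commute ζ w := fun w => (commute_of_mem_zpowers (hcen w).symm hζ).symm
  have hζ1 : ζ = 1 := by
    have h4 : ζ ^ 4 = 1 := orderOf_dvd_iff_pow_eq_one.mp (hc ▸ orderOf_dvd_of_mem_zpowers hζ)
    have e : τ * σ * τ⁻¹ = σ⁻¹ * ζ := by rw [inv_eq_of_mul_eq_one_right hττ, hζdef]; group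
    have h3 : τ * σ ^ 3 * τ⁻¹ = (σ⁻¹ * ζ) ^ 3 := by rw [← conj_pow, e]
    rw [hσ3, mul_one, mul_inv_cancel, (hζc σ⁻¹).symm.mul_pow, inv_pow, hσ3, inv_one, one_mul] at h3
    rw [pow_succ, ← h3, one_mul] at h4
    exact h4
  have hinv' : τ * σ * τ = σ⁻¹ := eq_inv_of_mul_eq_one_right hζ1
  have hts : orderOf (τ * σ) = 2 := by
    apply Cfsg.Lib.InvolCalc.order_two_of_mul_self
    · rw [← mul_assoc, hinv', inv_mul_cancel]
    · intro e
      rw [eq_inv_of_mul_eq_one_right e, orderOf_inv, hτ] at hσ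
      norm_num at hσ
  have hne : τ ≠ τ * σ := fun e => by
    rw [left_eq_mul] at e
    rw [e, orderOf_one] at hσ
    norm_num at hσ
  obtain ⟨eD⟩ := Cfsg.Lib.InvolCalc.exists_dihedral_equiv hτ hts hne
  set S := closure ({τ, τ * σ} : Set W) with hS
  have hSc : Nat.card ↥S = 6 := by
    rw [Nat.card_congr eD.toEquiv, DihedralGroup.nat_card, ← mul_assoc, hττ, one_mul, hσ]
  have hτS : τ ∈ S := subset_closure (by simp)
  have hσS : σ ∈ S := by
    have := mul_mem hτS (subset_closure (show τ * σ ∈ ({τ, τ * σ} : Set W) by simp))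
    rwa [← mul_assoc, hττ, one_mul] at this
  set fS := f.comp S.subtype with hfS
  have hX : Nat.card X = 6 := by
    rw [Nat.card_congr ψ.toEquiv, Nat.card_perm, Nat.card_eq_fintype_card, Fintype.card_fin]; rfl
  have hrange : fS.range = ⊤ := by
    refine eq_top_of_card_eq _ ?_
    have hd := card_subgroup_dvd_card fS.range
    rw [hX] at hd
    have d2 : 2 ∣ Nat.card ↥fS.range := by
      have h := orderOf_dvd_natCard (⟨f τ, ⟨⟨τ, hτS⟩, rfl⟩⟩ : ↥fS.range)
      rw [← Subgroup.orderOf_coe] at h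
      rwa [Cfsg.Lib.InvolCalc.order_two_of_mul_self (by rw [← map_mul, hττ, map_one]) hτf] at h
    have d3 : 3 ∣ Nat.card ↥fS.range := by
      have h := orderOf_dvd_natCard (⟨f σ, ⟨⟨σ, hσS⟩, rfl⟩⟩ : ↥fS.range)
      rw [← Subgroup.orderOf_coe, orderOf_eq_prime (by rw [← map_pow, hσ3, map_one]) hσf] at h
      exact h
    rw [hX]
    exact Nat.dvd_antisymm hd ((by norm_num : Nat.Coprime 2 3).mul_dvd_of_dvd_of_dvd d2 d3)
  have hbij : Function.Bijective fS := by
    have hs := MonoidHom.range_eq_top.mp hrange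
    exact (Nat.bijective_iff_surjective_and_card fS).mpr ⟨hs, by rw [hSc, hX]⟩
  let φ : ↥(zpowers c) × ↥S →* W :=
    MonoidHom.noncommCoprod (zpowers c).subtype S.subtype
      fun m s => commute_of_mem_zpowers (hcen s.1).symm m.2 |>.symm
  have hφ : Function.Injective φ := by
    rw [injective_iff_map_eq_one]
    rintro ⟨m, s⟩ h
    have h' : (m : W) * (s : W) = 1 := h
    have hs : s = 1 := hbij.1 (by
      have := congrArg f h'
      rw [map_mul, MonoidHom.mem_ker.mp (hker.symm ▸ m.2 : (m : W) ∈ f.ker), one_mul, map_one] at this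
      rw [map_one]
      exact this)
    subst hs
    rw [OneMemClass.coe_one, mul_one] at h'
    exact Prod.ext (Subtype.ext h') rfl
  have hφb : Function.Bijective φ := (Nat.bijective_iff_injective_and_card φ).mpr
    ⟨hφ, by rw [Nat.card_prod, Nat.card_zpowers, hc, hSc, hW]⟩
  exact ⟨(MulEquiv.ofBijective φ hφb).symm.trans (MulEquiv.prodCongr
    (mulEquivOfCyclicCardEq (by rw [Nat.card_zpowers, hc, Nat.card_congr Multiplicative.toAdd, Nat.card_zmod]))
    ((MulEquiv.ofBijective fS hbij).trans ψ))⟩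

namespace Four

variable {G : Type u} [Group G] [Finite G] {z : G} (d : Four z)

include d in
/-- The two classes of lines and the quotient of one Sylow normalizer. -/
theorem five_main : ∃ P : Sylow 5 G,
    (∃ A B : Subgroup G, Nat.card A = 5 ∧ Nat.card B = 5 ∧ (∀ g : G, A.map (MulAut.conj g).toMonoidHom ≠ B) ∧
      ∀ C : Subgroup G, Nat.card C = 5 →
        ∃ g : G, C.map (MulAut.conj g).toMonoidHom = A ∨ C.map (MulAut.conj g).toMonoidHom = B) ∧
    Nat.card ↥(normalizer ((P : Subgroup G) : Set G)) = 600 ∧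
    Nonempty (↥(normalizer ((P : Subgroup G) : Set G)) ⧸
      (P : Subgroup G).subgroupOf (normalizer ((P : Subgroup G) : Set G)) ≃*
        Multiplicative (ZMod 4) × Equiv.Perm (Fin 3)) := by
  classical
  haveI : Fact (Nat.Prime 5) := ⟨by norm_num⟩
  obtain ⟨b, hb, hbt⟩ := d.exists_elem (Or.inl rfl)
  obtain ⟨P, hP⟩ := (IsPGroup.of_card (p := 5) (n := 1) (show Nat.card ↥(zpowers b) = 5 ^ 1 by
    rw [Nat.card_zpowers, hb, pow_one])).exists_le_sylow
  have hbP : b ∈ (P : Subgroup G) := hP (mem_zpowers b)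
  obtain ⟨hN600, a, haP, hao, hab, hSa, hcov⟩ := d.five_count hb hbt P hbP
  obtain ⟨h50, hCP, -⟩ := d.five_local hb hbt P hbP
  set N := normalizer ((P : Subgroup G) : Set G) with hN
  refine ⟨P, ⟨zpowers a, zpowers b, by rw [Nat.card_zpowers, hao], by rw [Nat.card_zpowers, hb], ?_, ?_⟩, hN600, ?_⟩
  · intro g e
    rw [map_conj_zpowers] at e
    exact hab g (e ▸ mem_zpowers _)
  · intro C hC
    obtain ⟨x, hx, rfl⟩ := card_five_zpowers hC
    obtain ⟨g, hg⟩ := d.exists_conj_mem P hx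
    have hgo : orderOf (g * x * g⁻¹) = 5 := by
      rw [show g * x * g⁻¹ = MulAut.conj g x from rfl, MulEquiv.orderOf_eq, hx]
    have hg1 : g * x * g⁻¹ ≠ 1 := fun e => by rw [e, orderOf_one] at hgo; norm_num at hgo
    by_cases hcj : IsConj b (g * x * g⁻¹)
    · obtain ⟨h, hh⟩ := isConj_iff.mp hcj
      refine ⟨h⁻¹ * g, Or.inr ?_⟩
      rw [map_conj_zpowers, conj_comp, ← hh]
      congr 1
      group
    · obtain ⟨n, -, hn⟩ := hcov _ hg hg1 hcj
      have hno : orderOf (n * a * n⁻¹) = 5 := by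
        rw [show n * a * n⁻¹ = MulAut.conj n a from rfl, MulEquiv.orderOf_eq, hao]
      obtain ⟨-, he⟩ := order_five_of_mem hno hn hg1
      refine ⟨n⁻¹ * g, Or.inl ?_⟩
      have hstep : zpowers (n⁻¹ * g * x * (n⁻¹ * g)⁻¹) =
          (zpowers (g * x * g⁻¹)).map (MulAut.conj n⁻¹).toMonoidHom := by
        rw [map_conj_zpowers, conj_comp]
      rw [map_conj_zpowers, hstep, he, map_conj_zpowers]
      congr 1
      group
  -- the action on the three lines of the first kind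
  set Sa := N ⊓ normalizer (zpowers a : Set G) with hSadef
  set Sa' := Sa.subgroupOf N with hSa'
  have hSac : Nat.card ↥Sa' = 200 := by
    rw [hSa', Nat.card_congr (subgroupOfEquivOfLe inf_le_left).toEquiv]; exact hSa
  have hq3 : Nat.card (↥N ⧸ Sa') = 3 := by
    have h := card_eq_card_quotient_mul_card_subgroup Sa'
    rw [hN600, hSac] at h
    omega
  let eq3 : ↥N ⧸ Sa' ≃ Fin 3 := Finite.equivFinOfCardEq hq3
  let ρ : ↥N →* Equiv.Perm (↥N ⧸ Sa') := MulAction.toPermHom ↥N (↥N ⧸ Sa')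
  have hfixline : ∀ w ∈ ρ.ker, ∀ n ∈ N, (w : G) * (n * a * n⁻¹) * (w : G)⁻¹ ∈ zpowers (n * a * n⁻¹) := by
    intro w hw n hn
    have h := Equiv.congr_fun (MonoidHom.mem_ker.mp hw) (QuotientGroup.mk (⟨n, hn⟩ : ↥N))
    rw [MulAction.toPermHom_apply, MulAction.toPerm_apply, MulAction.Quotient.smul_mk, Equiv.Perm.coe_one, id,
      QuotientGroup.eq, mem_subgroupOf] at h
    have h2 := (mem_inf.mp h).2
    have h3 : (((w • (⟨n, hn⟩ : ↥N))⁻¹ * ⟨n, hn⟩ : ↥N) : G) = n⁻¹ * (w : G)⁻¹ * n := by simp [mul_assoc]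
    rw [h3] at h2
    have h4 := (mem_normalizer_iff.mp (inv_mem h2) a).mp (mem_zpowers a)
    rw [← map_conj_zpowers]
    refine mem_map.mpr ⟨_, h4, ?_⟩
    show n * _ * n⁻¹ = _
    group
  obtain ⟨n1, hn1, n2, hn2, h01, h02, h12⟩ : ∃ n1 ∈ N, ∃ n2 ∈ N, n1 * a * n1⁻¹ ∉ zpowers a ∧
      n2 * a * n2⁻¹ ∉ zpowers a ∧ n2 * a * n2⁻¹ ∉ zpowers (n1 * a * n1⁻¹) := by
    set i0 := eq3 (QuotientGroup.mk 1) with hi0
    obtain ⟨j1, j2, d1, d2, d3⟩ :=
      (by decide : ∀ i : Fin 3, ∃ j1 j2 : Fin 3, j1 ≠ i ∧ j2 ≠ i ∧ j2 ≠ j1) i0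
    have key : ∀ p q : ↥N ⧸ Sa', (q.out : G) * a * (q.out : G)⁻¹ ∈ zpowers ((p.out : G) * a * (p.out : G)⁻¹) →
        p = q := by
      intro p q h
      rw [← map_conj_zpowers] at h
      obtain ⟨y, hy, e⟩ := mem_map.mp h
      change (p.out : G) * y * (p.out : G)⁻¹ = _ at e
      rw [← QuotientGroup.out_eq' p, ← QuotientGroup.out_eq' q]
      refine QuotientGroup.eq.mpr (mem_subgroupOf.mpr (mem_inf.mpr ⟨mul_mem (inv_mem p.out.2) q.out.2,
        Cfsg.Lib.ZStarApps.mem_normalizer_of_maps fun w hw => ?_⟩))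
      obtain ⟨i, rfl⟩ := hw
      show ((p.out : G)⁻¹ * q.out) * a ^ i * ((p.out : G)⁻¹ * q.out)⁻¹ ∈ zpowers a
      rw [← conj_zpow, show ((p.out : G)⁻¹ * q.out) * a * ((p.out : G)⁻¹ * q.out)⁻¹ =
        (p.out : G)⁻¹ * ((q.out : G) * a * (q.out : G)⁻¹) * p.out by group, ← e]
      refine zpow_mem ?_ i
      rwa [show (p.out : G)⁻¹ * ((p.out : G) * y * (p.out : G)⁻¹) * p.out = y by group]
    have key1 : ∀ q : ↥N ⧸ Sa', (q.out : G) * a * (q.out : G)⁻¹ ∈ zpowers a → eq3 q = i0 := by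
      intro q h
      rw [hi0, ← QuotientGroup.out_eq' q]
      congr 1
      refine QuotientGroup.eq.mpr (mem_subgroupOf.mpr ?_)
      refine mem_inf.mpr ⟨mul_mem (inv_mem q.out.2) (one_mem _), ?_⟩
      rw [Subgroup.coe_mul, Subgroup.coe_inv, Subgroup.coe_one, mul_one]
      refine inv_mem (Cfsg.Lib.ZStarApps.mem_normalizer_of_maps fun w hw => ?_)
      obtain ⟨i, rfl⟩ := hw
      show (q.out : G) * a ^ i * (q.out : G)⁻¹ ∈ zpowers a
      rw [← conj_zpow]
      exact zpow_mem h i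
    refine ⟨_, (eq3.symm j1).out.2, _, (eq3.symm j2).out.2, fun h => d1 ?_, fun h => d2 ?_, fun h => d3 ?_⟩
    · simpa using key1 _ h
    · simpa using key1 _ h
    · simpa using (congrArg eq3 (key _ _ h)).symm
  set a1 := n1 * a * n1⁻¹ with ha1
  set a2 := n2 * a * n2⁻¹ with ha2
  have ha1o : orderOf a1 = 5 := by
    rw [ha1, show n1 * a * n1⁻¹ = MulAut.conj n1 a from rfl, MulEquiv.orderOf_eq, hao]
  have ha1P : a1 ∈ (P : Subgroup G) := (mem_normalizer_iff.mp hn1 a).mp haP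
  have ha2P : a2 ∈ (P : Subgroup G) := (mem_normalizer_iff.mp hn2 a).mp haP
  have hcm : Commute a a1 := d.P_comm P haP ha1P
  let co : Fin 5 × Fin 5 → ↥(P : Subgroup G) := fun u =>
    ⟨a ^ u.1.1 * a1 ^ u.2.1, mul_mem (pow_mem haP _) (pow_mem ha1P _)⟩
  have hco : Function.Bijective co := by
    refine (Nat.bijective_iff_injective_and_card co).mpr ⟨?_, by
      rw [Nat.card_prod, Nat.card_eq_fintype_card, Fintype.card_fin, d.card_P P]⟩
    rintro ⟨i, j⟩ ⟨i', j'⟩ e
    have e' : a ^ i.1 * a1 ^ j.1 = a ^ i'.1 * a1 ^ j'.1 := congrArg Subtype.val e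
    have e2 : a1 ^ ((j.1 : ℤ) - j'.1) = a ^ ((i'.1 : ℤ) - i.1) := by
      rw [zpow_sub, zpow_sub, zpow_natCast, zpow_natCast, zpow_natCast, zpow_natCast,
        ((Commute.refl a).pow_pow i'.1 i.1).inv_right.eq]
      calc a1 ^ j.1 * (a1 ^ j'.1)⁻¹ = (a ^ i.1)⁻¹ * (a ^ i.1 * a1 ^ j.1) * (a1 ^ j'.1)⁻¹ := by group
        _ = (a ^ i.1)⁻¹ * a ^ i'.1 := by rw [e']; group
    have hj : j = j' := by
      by_contra hjj
      have hne : a1 ^ ((j.1 : ℤ) - j'.1) ≠ 1 := by
        rw [Ne, ← orderOf_dvd_iff_zpow_eq_one, ha1o]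
        have := Fin.val_ne_of_ne hjj
        omega
      obtain ⟨-, he⟩ := order_five_of_mem ha1o (zpow_mem (mem_zpowers _) _) hne
      exact h01 (zpowers_le.mpr (e2 ▸ zpow_mem (mem_zpowers a) _) (he.symm ▸ mem_zpowers a1))
    subst hj
    have hi := mul_right_cancel e'
    rw [pow_eq_pow_iff_modEq, hao] at hi
    unfold Nat.ModEq at hi
    have := i.2; have := i'.2
    have : i = i' := Fin.ext (by omega)
    rw [this]
  obtain ⟨⟨α, β⟩, hαβ⟩ := hco.2 ⟨a2, ha2P⟩
  have ha2e : a2 = a ^ α.1 * a1 ^ β.1 := (congrArg Subtype.val hαβ).symm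
  have hα : α.1 ≠ 0 := fun e => h12 (by
    rw [ha2e, e, pow_zero, one_mul]; exact pow_mem (mem_zpowers _) _)
  have hβ : β.1 ≠ 0 := fun e => h02 (by
    rw [ha2e, e, pow_zero, mul_one]; exact pow_mem (mem_zpowers _) _)
  have hscal : ∀ w ∈ ρ.ker, ∀ i : ℕ, (w : G) * a * (w : G)⁻¹ = a ^ i →
      ∀ x ∈ (P : Subgroup G), (w : G) * x * (w : G)⁻¹ = x ^ i := by
    intro w hw i hi x hx
    have hpw : ∀ y : G, orderOf y = 5 → (w : G) * y * (w : G)⁻¹ ∈ zpowers y →
        ∃ j : ℕ, (w : G) * y * (w : G)⁻¹ = y ^ j := by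
      intro y hy hm
      rw [mem_zpowers_iff_mem_range_orderOf] at hm
      simp only [Finset.mem_image, Finset.mem_range] at hm
      obtain ⟨j, -, e⟩ := hm
      exact ⟨j, e.symm⟩
    obtain ⟨j, hj⟩ := hpw a1 ha1o (hfixline w hw n1 hn1)
    obtain ⟨l, hl⟩ := hpw a2 (by rw [ha2, show n2 * a * n2⁻¹ = MulAut.conj n2 a from rfl, MulEquiv.orderOf_eq, hao])
      (hfixline w hw n2 hn2)
    have hsplit : ∀ p q : ℕ, (w : G) * (a ^ p * a1 ^ q) * (w : G)⁻¹ = a ^ (i * p) * a1 ^ (j * q) := by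
      intro p q
      have e1 : (w : G) * a ^ p * (w : G)⁻¹ = a ^ (i * p) := conj_pow.symm.trans (by rw [hi, ← pow_mul])
      have e2 : (w : G) * a1 ^ q * (w : G)⁻¹ = a1 ^ (j * q) := conj_pow.symm.trans (by rw [hj, ← pow_mul])
      rw [← e1, ← e2]
      group
    rw [ha2e, hsplit, (hcm.pow_pow _ _).mul_pow, ← pow_mul, ← pow_mul] at hl
    have huniq : ∀ p q p' q' : ℕ, a ^ p * a1 ^ q = a ^ p' * a1 ^ q' → p % 5 = p' % 5 ∧ q % 5 = q' % 5 := by
      intro p q p' q' e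
      have := hco.1 (a₁ := (⟨p % 5, Nat.mod_lt _ (by norm_num)⟩, ⟨q % 5, Nat.mod_lt _ (by norm_num)⟩))
        (a₂ := (⟨p' % 5, Nat.mod_lt _ (by norm_num)⟩, ⟨q' % 5, Nat.mod_lt _ (by norm_num)⟩)) (Subtype.ext (by
          show a ^ (p % 5) * a1 ^ (q % 5) = a ^ (p' % 5) * a1 ^ (q' % 5)
          have m0 : ∀ m : ℕ, a ^ (m % 5) = a ^ m := fun m => by rw [← hao, pow_mod_orderOf]
          have m1 : ∀ m : ℕ, a1 ^ (m % 5) = a1 ^ m := fun m => by rw [← ha1o, pow_mod_orderOf]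
          rw [m0, m1, m0, m1, e]))
      exact ⟨congrArg (fun u => u.1.1) this, congrArg (fun u => u.2.1) this⟩
    obtain ⟨u1, u2⟩ := huniq _ _ _ _ hl
    have h5 : ∀ m p q : ℕ, m ≠ 0 → m < 5 → (p * m) % 5 = (m * q) % 5 → p % 5 = q % 5 := by
      intro m p q h0 h5 e
      rw [Nat.mul_mod, Nat.mul_mod m q, Nat.mod_eq_of_lt h5] at e
      have := Nat.mod_lt p (show 0 < 5 by norm_num)
      have := Nat.mod_lt q (show 0 < 5 by norm_num)
      interval_cases m <;> omega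
    have hil := h5 _ _ _ hα α.2 u1
    have hjl := h5 _ _ _ hβ β.2 u2
    have hja : a1 ^ j = a1 ^ i := by
      rw [pow_eq_pow_iff_modEq, ha1o]
      exact hjl.trans hil.symm
    obtain ⟨⟨p, q⟩, hpq⟩ := hco.2 ⟨x, hx⟩
    rw [show x = a ^ p.1 * a1 ^ q.1 from (congrArg Subtype.val hpq).symm, hsplit,
      (hcm.pow_pow _ _).mul_pow, ← pow_mul, ← pow_mul, pow_mul a1 j, hja, ← pow_mul, mul_comm i, mul_comm i]
  have hexp : ∀ w ∈ ρ.ker, ∃ i : ℕ, (w : G) * a * (w : G)⁻¹ = a ^ i := by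
    intro w hw
    have hm := hfixline w hw 1 (one_mem _)
    rw [inv_one, mul_one, one_mul, mem_zpowers_iff_mem_range_orderOf] at hm
    simp only [Finset.mem_image, Finset.mem_range] at hm
    obtain ⟨i, -, e⟩ := hm
    exact ⟨i, e.symm⟩
  -- the kernel
  set P' := (P : Subgroup G).subgroupOf N with hP'
  have hP'k : P' ≤ ρ.ker := by
    intro w hw
    refine MonoidHom.mem_ker.mpr (Equiv.ext fun q => ?_)
    rw [MulAction.toPermHom_apply, MulAction.toPerm_apply, Equiv.Perm.coe_one, id, ← QuotientGroup.out_eq' q,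
      MulAction.Quotient.smul_mk, QuotientGroup.eq, mem_subgroupOf]
    refine mem_inf.mpr ⟨SetLike.coe_mem _, ?_⟩
    have hc : Commute ((q.out : G)⁻¹ * (w : G)⁻¹ * q.out) a := by
      refine d.P_comm P ?_ haP
      have := (mem_normalizer_iff.mp (inv_mem q.out.2) ((w : G)⁻¹)).mp (inv_mem (mem_subgroupOf.mp hw))
      rwa [inv_inv] at this
    rw [show (((w • q.out)⁻¹ * q.out : ↥N) : G) = (q.out : G)⁻¹ * (w : G)⁻¹ * q.out by simp [mul_assoc]]
    exact centralizer_le_normalizer _ (centralizer_zpowers a ▸ mem_Cs.mpr hc)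
  set Kc := ρ.ker.map N.subtype with hKc
  have hKcard : Nat.card ↥Kc = Nat.card ↥ρ.ker := card_map_of_injective N.subtype_injective
  have hrng : Nat.card ↥ρ.range ∣ 6 := by
    have h := card_subgroup_dvd_card ρ.range
    rw [Nat.card_perm, hq3] at h
    exact h
  have hprod : Nat.card ↥ρ.ker * Nat.card ↥ρ.range = 600 := by
    rw [← hN600, ← index_ker]
    exact ρ.ker.card_mul_index
  have horb : Nat.card {y : G // ∃ h ∈ Kc, h * a * h⁻¹ = y} * 25 = Nat.card ↥Kc := by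
    have h := orbit_mul_stab Kc a
    have hst : Kc ⊓ centralizer ({a} : Set G) = (P : Subgroup G) := by
      refine le_antisymm (fun x hx => ?_) (fun x hx => ?_)
      · obtain ⟨w, hw, rfl⟩ := mem_map.mp (mem_inf.mp hx).1
        refine hCP _ fun y hy => ?_
        have := hscal w hw 1 (by rw [pow_one, (mem_Cs.mp (mem_inf.mp hx).2 : Commute (w : G) a).eq, mul_inv_cancel_right]) y hy
        rw [pow_one] at this
        exact mul_inv_eq_iff_eq_mul.mp this
      · exact mem_inf.mpr ⟨mem_map.mpr ⟨⟨x, le_normalizer hx⟩, hP'k (mem_subgroupOf.mpr hx), rfl⟩,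
          mem_Cs.mpr (d.P_comm P hx haP)⟩
    rw [hst, d.card_P P] at h
    exact h
  have hset : ∀ y, (∃ h ∈ Kc, h * a * h⁻¹ = y) → y ∈ zpowers a ∧ y ≠ 1 := by
    rintro y ⟨h, hh, rfl⟩
    obtain ⟨w, hw, rfl⟩ := mem_map.mp hh
    obtain ⟨i, hi⟩ := hexp w hw
    exact ⟨hi ▸ pow_mem (mem_zpowers a) i, fun e => by rw [conj_eq_one_iff.mp e, orderOf_one] at hao; norm_num at hao⟩
  have h4 : Nat.card {y : G // y ∈ zpowers a ∧ y ≠ 1} = 4 := by
    have h' := Set.ncard_sdiff_singleton_of_mem (s := (zpowers a : Set G)) (a := 1) (one_mem _)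
    rw [← Nat.card_coe_set_eq, ← Nat.card_coe_set_eq] at h'
    rw [show Nat.card ↥(zpowers a : Set G) = 5 from (Nat.card_zpowers a).trans hao] at h'
    exact h'
  let inc : {y : G // ∃ h ∈ Kc, h * a * h⁻¹ = y} → {y : G // y ∈ zpowers a ∧ y ≠ 1} := fun y => ⟨y.1, hset y.1 y.2⟩
  have hinc : Function.Injective inc := fun y y' e => Subtype.ext (congrArg (fun v => v.1) e)
  have hle := Nat.card_le_card_of_injective inc hinc
  rw [h4] at hle
  have hrle := Nat.le_of_dvd (by norm_num) hrng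
  have hk100 : Nat.card ↥ρ.ker = 100 ∧ Nat.card ↥ρ.range = 6 := by
    constructor <;> nlinarith
  have hincb : Function.Bijective inc :=
    (Nat.bijective_iff_injective_and_card inc).mpr ⟨hinc, by rw [h4]; omega⟩
  obtain ⟨⟨_, h, hh, rfl⟩, he⟩ := hincb.2 ⟨a ^ 2, pow_mem (mem_zpowers a) 2, pow_five_ne hao (by norm_num) (by norm_num)⟩
  obtain ⟨c0, hc0, rfl⟩ := mem_map.mp hh
  have hc0a : (c0 : G) * a * (c0 : G)⁻¹ = a ^ 2 := congrArg Subtype.val he
  have hc0x := hscal c0 hc0 2 hc0a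
  haveI : P'.Normal := normal_subgroupOf_iff_le_normalizer le_normalizer |>.mpr le_rfl
  set π := QuotientGroup.mk' P' with hπ
  have hπ1 : ∀ w : ↥N, π w = 1 ↔ (w : G) ∈ (P : Subgroup G) := fun w =>
    (QuotientGroup.eq_one_iff w).trans mem_subgroupOf
  let f : ↥N ⧸ P' →* Equiv.Perm (↥N ⧸ Sa') := QuotientGroup.lift P' ρ hP'k
  have hfπ : ∀ w, f (π w) = ρ w := fun w => rfl
  have hW : Nat.card (↥N ⧸ P') = 24 := by
    have h := card_eq_card_quotient_mul_card_subgroup P'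
    have hPc : Nat.card ↥P' = 25 :=
      (Nat.card_congr (subgroupOfEquivOfLe le_normalizer).toEquiv).trans (d.card_P P)
    rw [hN600, hPc] at h
    omega
  have hker4 : Nat.card ↥f.ker = 4 := by
    have h : Nat.card ↥f.ker * Nat.card ↥f.range = 24 := by
      rw [← index_ker, f.ker.card_mul_index, hW]
    have hr : f.range = ρ.range := by
      ext y
      exact ⟨fun ⟨w, hw⟩ => by obtain ⟨w, rfl⟩ := QuotientGroup.mk'_surjective P' w; exact ⟨w, hw⟩,
        fun ⟨w, hw⟩ => ⟨π w, hw⟩⟩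
    rw [hr, hk100.2] at h
    omega
  have hcm' : π c0 ∈ f.ker := MonoidHom.mem_ker.mpr ((hfπ c0).trans (MonoidHom.mem_ker.mp hc0))
  have hco4 : orderOf (π c0) = 4 := by
    have hd : orderOf (π c0) ∣ 4 := by
      have h := orderOf_dvd_natCard (⟨π c0, hcm'⟩ : ↥f.ker)
      rwa [Subgroup.orderOf_mk, hker4] at h
    have h2 : π c0 ^ 2 ≠ 1 := by
      intro e
      rw [← map_pow, hπ1, Subgroup.coe_pow] at e
      have := d.P_comm P e haP
      have h' : (c0 : G) ^ 2 * a * ((c0 : G) ^ 2)⁻¹ = a ^ 4 := by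
        rw [pow_two, conj_comp, hc0a, ← conj_pow, hc0a, ← pow_mul]
      rw [this.eq, mul_inv_cancel_right] at h'
      exact pow_five_ne hao (i := 3) (by norm_num) (by norm_num)
        (mul_left_cancel (a := a) (by rw [← pow_succ', mul_one]; exact h'.symm))
    obtain ⟨j, hj, hje⟩ := (Nat.dvd_prime_pow Nat.prime_two).mp (show orderOf (π c0) ∣ 2 ^ 2 from hd)
    interval_cases j
    · exact absurd (orderOf_dvd_iff_pow_eq_one.mp (by rw [hje]; norm_num)) h2
    · exact absurd (orderOf_dvd_iff_pow_eq_one.mp (by rw [hje]; norm_num)) h2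
    · simpa using hje
  have hkerc : f.ker = zpowers (π c0) :=
    (eq_of_le_of_card_ge (zpowers_le.mpr hcm') (by rw [Nat.card_zpowers, hco4, hker4])).symm
  have hcen : ∀ w, Commute (π c0) w := by
    intro w
    obtain ⟨w, rfl⟩ := QuotientGroup.mk'_surjective P' w
    show π c0 * π w = π w * π c0
    rw [← map_mul, ← map_mul]
    refine (inv_mul_eq_one.mp ?_).symm
    rw [← map_inv, ← map_mul, hπ1]
    refine hCP _ fun y hy => ?_
    have hy' : (w : G) * y * (w : G)⁻¹ ∈ (P : Subgroup G) := (mem_normalizer_iff.mp w.2 y).mp hy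
    have e2 := hc0x _ hy'
    rw [conj_pow, ← hc0x y hy] at e2
    simp only [Subgroup.coe_mul, Subgroup.coe_inv]
    refine mul_inv_eq_iff_eq_mul.mp ?_
    calc ((w : G) * c0)⁻¹ * ((c0 : G) * w) * y * (((w : G) * c0)⁻¹ * ((c0 : G) * w))⁻¹
        = ((w : G) * c0)⁻¹ * ((c0 : G) * ((w : G) * y * (w : G)⁻¹) * (c0 : G)⁻¹) * ((w : G) * c0) := by group
      _ = y := by rw [e2]; group
  haveI : Fact (Nat.Prime 2) := ⟨Nat.prime_two⟩
  obtain ⟨τ, hτ⟩ := exists_prime_orderOf_dvd_card' (G := ↥(centralizer ({b} : Set G) ⊓ N)) 2 (by rw [h50]; norm_num)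
  rw [← Subgroup.orderOf_coe] at hτ
  have hτP : (τ : G) ∉ (P : Subgroup G) := fun h => by
    have := orderOf_dvd_natCard (⟨(τ : G), h⟩ : ↥(P : Subgroup G))
    rw [Subgroup.orderOf_mk, hτ, d.card_P P] at this
    norm_num at this
  set τ' : ↥N := ⟨(τ : G), (mem_inf.mp τ.2).2⟩ with hτ'
  refine quot_struct f (eq3.permCongrHom) hW hco4 hcen hkerc (τ := π τ') ?_ ?_
  · apply Cfsg.Lib.InvolCalc.order_two_of_mul_self
    · rw [← map_mul, hπ1]
      show (τ : G) * (τ : G) ∈ _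
      rw [← pow_two, ← hτ, pow_orderOf_eq_one]
      exact one_mem _
    · rw [Ne, hπ1]; exact hτP
  · rw [hfπ]
    intro e
    have hm : τ' ∈ ρ.ker := MonoidHom.mem_ker.mpr e
    obtain ⟨i, hi⟩ := hexp τ' hm
    have hb1 := hscal τ' hm i hi b hbP
    rw [show (τ' : G) * b * (τ' : G)⁻¹ = b by
      rw [(mem_Cs.mp (mem_inf.mp τ.2).1 : Commute (τ : G) b).eq, mul_inv_cancel_right]] at hb1
    have hi1 : i % 5 = 1 := by
      have h := pow_eq_pow_iff_modEq.mp (hb1.symm.trans (pow_one b).symm)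
      rw [hb] at h
      exact h
    refine hτP (hCP _ fun y hy => ?_)
    have hyi : y ^ i = y := by
      have hy5 : y ^ 5 = 1 := by
        obtain ⟨⟨p, q⟩, hpq⟩ := hco.2 ⟨y, hy⟩
        have ha5 : a ^ 5 = 1 := orderOf_dvd_iff_pow_eq_one.mp (by rw [hao])
        have ha15 : a1 ^ 5 = 1 := orderOf_dvd_iff_pow_eq_one.mp (by rw [ha1o])
        rw [show y = a ^ p.1 * a1 ^ q.1 from (congrArg Subtype.val hpq).symm, (hcm.pow_pow _ _).mul_pow,
          ← pow_mul, ← pow_mul, mul_comm p.1, mul_comm q.1, pow_mul, pow_mul, ha5, ha15, one_pow, one_pow, one_mul]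
      rw [← Nat.mod_add_div i 5, hi1, pow_add, pow_one, pow_mul, hy5, one_pow, mul_one]
    exact mul_inv_eq_iff_eq_mul.mp ((hscal τ' hm i hi y hy).trans hyi)

end Four

end Cfsg.Lib.SuzukiType
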