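import Cfsg.Agent.SuzukiType.Local.Normal

/-!
The four-group is normal in the centralizer of the second involution.
-/

set_option autoImplicit false
set_option maxRecDepth 100000
set_option maxHeartbeats 1000000
set_option linter.unusedSectionVars false
set_option linter.style.haveILetI false

namespace Cfsg.Lib.SuzukiType

open Subgroup Cfsg.Lib.SuzukiType.Code Cfsg.Lib.SuzukiType.Local Cfsg.Lib.SuzukiType.Local.Frm

universe u

variable {G : Type u} [Group G] [Finite G] {z : G}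

namespace Four

variable (d : Four z)

/-- The centralizer of the second involution. -/
def Ct : Subgroup G := centralizer ({d.t} : Set G)

theorem mem_Ct {x : G} : x ∈ d.Ct ↔ Commute x d.t := mem_centralizer_singleton_iff

theorem S_le : d.S ≤ d.Ct := fun x hx => d.mem_Ct.mpr (d.mem_S.mp hx).2

theorem S1_le_Ct : d.S1 ≤ d.Ct := fun _ hx => d.S_le (d.S1_le hx)

theorem S_isP : IsPGroup 2 ↥d.S := IsPGroup.of_card (n := 9) (by rw [d.toSec.card_S]; norm_num)

theorem S1_isP : IsPGroup 2 ↥d.S1 := IsPGroup.of_card (n := 8) (by rw [d.toSec.card_S1]; norm_num)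

theorem z_S : z ∈ d.S := d.S1_le d.z_S1

theorem Zt_center {x : G} (hx : d.Zt x) (hS : x ∈ d.S) (hc : ∀ w ∈ d.S, Commute x w) : x = z := by
  have h1 := d.Zt_S hx (d.mem_S.mp hS).1
  have hM : x ∈ d.M := d.mem_M.mpr ⟨h1, fun w hw => hc w (d.S1_le hw)⟩
  obtain ⟨g', hg'⟩ := isConj_iff.mp hx.2
  rcases (d.M_facts hM).2.2 with h | h | h
  · exact absurd (conj_eq_one_iff.mp (hg'.trans h)) d.X.ne
  · rcases h with h | h | h
    · exact h
    · exfalso
      have h' := hc d.y d.y_S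
      rw [h] at h'
      have := d.y_s
      rw [← h'.eq, mul_inv_cancel_right] at this
      exact d.zs_ne.2.2 this.symm
    · exfalso
      have h' := hc d.y d.y_S
      rw [h] at h'
      have := d.y_s
      have h2 : d.y * (z * d.s) * d.y⁻¹ = d.s := by
        rw [show d.y * (z * d.s) * d.y⁻¹ = d.y * z * d.y⁻¹ * (d.y * d.s * d.y⁻¹) by group, d.y_C.eq,
          mul_inv_cancel_right, this, ← mul_assoc, d.X.zz, one_mul]
      rw [← h'.eq, mul_inv_cancel_right] at h2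
      exact d.zs_ne.2.2 h2
  · exact absurd (hx.2.trans h.symm) d.not_conj

/-- The centralizer of the pair of involutions is a Sylow subgroup of the centralizer of the second. -/
theorem S_max {P : Subgroup G} (hP : IsPGroup 2 ↥P) (hle : P ≤ d.Ct) (hSP : d.S ≤ P) : P = d.S := by
  haveI : Fact (Nat.Prime 2) := ⟨Nat.prime_two⟩
  by_contra hne
  haveI := hP.isNilpotent
  have hlt : d.S.subgroupOf P < ⊤ := by
    rw [lt_top_iff_ne_top, Ne, subgroupOf_eq_top]
    exact fun h => hne (le_antisymm h hSP)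
  obtain ⟨⟨x, hxP⟩, hxn, hxS⟩ := SetLike.exists_of_lt (Group.normalizerCondition_of_isNilpotent _ hlt)
  refine hxS (mem_subgroupOf.mpr ?_)
  have hn : ∀ w, w ∈ d.S → x * w * x⁻¹ ∈ d.S := fun w hw => by
    have := (mem_normalizer_iff.mp hxn ⟨w, hSP hw⟩).mp (mem_subgroupOf.mpr hw)
    exact mem_subgroupOf.mp this
  have hn' : ∀ w, w ∈ d.S → x⁻¹ * w * x ∈ d.S := fun w hw => by
    have := (mem_normalizer_iff.mp (inv_mem hxn) ⟨w, hSP hw⟩).mp (mem_subgroupOf.mpr hw)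
    have h' : x⁻¹ * w * x⁻¹⁻¹ ∈ d.S := mem_subgroupOf.mp this
    rwa [inv_inv] at h'
  have hxt := d.mem_Ct.mp (hle hxP)
  refine d.mem_S_of hxt (d.Zt_center (d.Zt_conj (d.Tri_conj (Or.inl rfl)) hxt) (hn z d.z_S) fun w hw => ?_)
  have hzw : Commute z (x⁻¹ * w * x) := (d.mem_S.mp (hn' w hw)).1.symm
  have := (Commute.conj_iff x).mpr hzw
  rwa [show x * (x⁻¹ * w * x) * x⁻¹ = w by group] at this

/-- Every `2`-subgroup of the centralizer moves into the Sylow subgroup. -/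
theorem exists_conj_S {P : Subgroup G} (hP : IsPGroup 2 ↥P) (hle : P ≤ d.Ct) :
    ∃ c, Commute c d.t ∧ ∀ p ∈ P, c * p * c⁻¹ ∈ d.S := by
  haveI : Fact (Nat.Prime 2) := ⟨Nat.prime_two⟩
  obtain ⟨P', hP'⟩ := (hP.comap_of_injective d.Ct.subtype Subtype.val_injective).exists_le_sylow
  obtain ⟨S', hS'⟩ := (d.S_isP.comap_of_injective d.Ct.subtype Subtype.val_injective).exists_le_sylow
  have hmap : (S' : Subgroup ↥d.Ct).map d.Ct.subtype = d.S :=
    d.S_max (S'.2.map _) (map_subtype_le _) fun x hx => ⟨⟨x, d.S_le hx⟩, hS' (mem_comap.mpr hx), rfl⟩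
  obtain ⟨c, hc⟩ := MulAction.exists_smul_eq ↥d.Ct P' S'
  refine ⟨c, d.mem_Ct.mp c.2, fun p hp => ?_⟩
  have hmem : c * ⟨p, hle hp⟩ * c⁻¹ ∈ ((c • P' : Sylow 2 ↥d.Ct) : Subgroup ↥d.Ct) := by
    rw [Sylow.coe_subgroup_smul]
    exact ⟨⟨p, hle hp⟩, hP' (mem_comap.mpr hp), rfl⟩
  rw [hc] at hmem
  have := mem_map_of_mem d.Ct.subtype hmem
  rw [hmap] at this
  exact this

theorem twoPow_isP {x : G} {k : ℕ} (hx : x ^ 2 ^ k = 1) : IsPGroup 2 ↥(zpowers x) := fun a => ⟨k, by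
  obtain ⟨i, hi⟩ := mem_zpowers_iff.mp a.2
  refine Subtype.ext ?_
  show (a : G) ^ 2 ^ k = 1
  rw [← hi, ← zpow_natCast, ← zpow_mul, mul_comm, zpow_mul, zpow_natCast, hx, one_zpow]⟩

theorem M_split {x : G} (hx : x ∈ d.M) : ∃ v ∈ d.U, ∃ e, d.InE e ∧ x = v * e := by
  classical
  let f : ↥d.U × {e : G // d.InE e} → ↥d.M := fun u => ⟨u.1 * u.2.1, mul_mem (d.mem_U.mp u.1.2).1 (d.InE_M u.2.2)⟩
  have hf : Function.Injective f := by
    rintro ⟨u, a⟩ ⟨v, b⟩ e
    have e' : (u : G) * a.1 = v * b.1 := congrArg Subtype.val e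
    have h1 : (v : G)⁻¹ * u = b.1 * a.1⁻¹ := by
      calc (v : G)⁻¹ * u = (v : G)⁻¹ * (u * a.1) * a.1⁻¹ := by group
        _ = _ := by rw [e']; group
    have hE : d.InE ((v : G)⁻¹ * u) := h1 ▸ d.E_cases b.2 _ (d.E_inv a.2)
    have h3 : u = v := Subtype.ext (inv_mul_eq_one.mp (hE.resolve_right (d.U_not_Tri (mul_mem (inv_mem v.2) u.2)))).symm
    subst h3
    exact Prod.ext rfl (Subtype.ext (mul_left_cancel e'))
  obtain ⟨⟨v, e⟩, hve⟩ := ((Nat.bijective_iff_injective_and_card f).mpr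
    ⟨hf, by rw [Nat.card_prod, d.card_U, d.card_InE, d.card_M]⟩).2 ⟨x, hx⟩
  exact ⟨v, v.2, e, e.2, (congrArg Subtype.val hve).symm⟩

/-- The centre of the Sylow subgroup misses the conjugates of the four-group's generators. -/
theorem no_central {a : G} (ha : a ∈ d.S) (hc : ∀ w ∈ d.S, Commute a w) (h1 : IsConj d.t a) :
    ¬ IsConj d.t (d.t * a) := by
  intro h2
  have hS1 : a ∈ d.S1 := by
    refine d.mem_S1.mpr ⟨⟨(d.mem_S.mp ha).1, hc d.s (d.mem_S.mpr ⟨d.sz, d.t_T.2.symm⟩)⟩, (d.mem_S.mp ha).2⟩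
  obtain ⟨v, hv, e, he, rfl⟩ := d.M_split (d.mem_M.mpr ⟨hS1, fun w hw => hc w (d.S1_le hw)⟩)
  have hy := hc d.y d.y_S
  have hv' : d.y * v * d.y⁻¹ = v := by
    have e1 : d.y * v * d.y⁻¹ * (d.y * e * d.y⁻¹) = v * e := by
      rw [show d.y * v * d.y⁻¹ * (d.y * e * d.y⁻¹) = d.y * (v * e) * d.y⁻¹ by group, ← hy.eq, mul_inv_cancel_right]
    have hE : d.InE (d.y * e * d.y⁻¹) := by
      rcases he with rfl | he
      · exact Or.inl (by simp)
      · exact Or.inr (d.S_Tri d.y_S he)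
    have h3 : v⁻¹ * (d.y * v * d.y⁻¹) = e * (d.y * e * d.y⁻¹)⁻¹ := by
      calc v⁻¹ * (d.y * v * d.y⁻¹) = v⁻¹ * (d.y * v * d.y⁻¹ * (d.y * e * d.y⁻¹)) * (d.y * e * d.y⁻¹)⁻¹ := by group
        _ = _ := by rw [e1]; group
    have hE' : d.InE (v⁻¹ * (d.y * v * d.y⁻¹)) := h3 ▸ d.E_cases he _ (d.E_inv hE)
    exact (inv_mul_eq_one.mp (hE'.resolve_right (d.U_not_Tri (mul_mem (inv_mem hv) (d.y_U hv))))).symm
  have zt : ∀ {w}, d.InE w → ¬ IsConj d.t w := fun {w} hw h => by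
    rcases hw with rfl | hw
    · obtain ⟨g', hg'⟩ := isConj_iff.mp h
      exact d.t_ne (conj_eq_one_iff.mp hg')
    · exact d.not_conj ((d.Tri_conj hw).2.trans h.symm)
  rcases d.U_cases hv with r | r | r | r
  · rw [r, one_mul] at h1; exact zt he h1
  · rw [r, ← mul_assoc, d.t_sq, one_mul] at h2; exact zt he h2
  · rw [r, d.y_u] at hv'; exact d.t_ne (mul_eq_right.mp hv')
  · rw [r, show d.y * (d.t * d.u) * d.y⁻¹ = d.y * d.t * d.y⁻¹ * (d.y * d.u * d.y⁻¹) by group, d.y_u, d.y_t.eq,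
      mul_inv_cancel_right, ← mul_assoc, d.t_sq, one_mul] at hv'
    exact d.t_ne (mul_eq_right.mp hv'.symm)

/-- A `2`-element centralizing the four-group moves into the centralizer of the pair. -/
theorem into_S1 {x : G} {k : ℕ} (hx : x ^ 2 ^ k = 1) (hxt : Commute x d.t) (hxu : Commute x d.u) :
    ∃ c, Commute c d.t ∧ Commute c d.u ∧ c * x * c⁻¹ ∈ d.S1 := by
  haveI : Fact (Nat.Prime 2) := ⟨Nat.prime_two⟩
  set H : Subgroup G := d.Ct ⊓ centralizer ({d.u} : Set G) with hH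
  have hmem : ∀ {w}, w ∈ H ↔ Commute w d.t ∧ Commute w d.u := fun {w} => by
    rw [hH, mem_inf, d.mem_Ct, mem_centralizer_singleton_iff]; rfl
  obtain ⟨S', hS'⟩ := (d.S1_isP.comap_of_injective H.subtype Subtype.val_injective).exists_le_sylow
  have hmapP : IsPGroup 2 ↥((S' : Subgroup ↥H).map H.subtype) := S'.2.map _
  have hle : (S' : Subgroup ↥H).map H.subtype ≤ d.Ct := (map_subtype_le _).trans inf_le_left
  have hge : d.S1 ≤ (S' : Subgroup ↥H).map H.subtype := fun w hw =>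
    ⟨⟨w, hmem.mpr ⟨(d.mem_S1.mp hw).2, d.S1_U hw d.u_U⟩⟩, hS' (mem_comap.mpr hw), rfl⟩
  have heq : (S' : Subgroup ↥H).map H.subtype = d.S1 := by
    by_contra hne
    obtain ⟨c, hct, hc⟩ := d.exists_conj_S hmapP hle
    set P := (S' : Subgroup ↥H).map H.subtype
    let f : ↥P → ↥d.S := fun w => ⟨c * w * c⁻¹, hc w w.2⟩
    have hf : Function.Injective f := fun a b e =>
      Subtype.ext (mul_left_cancel (mul_right_cancel (congrArg Subtype.val e)))
    have hcard : Nat.card ↥P = 512 := by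
      have h1 := Nat.card_le_card_of_injective f hf
      rw [d.toSec.card_S] at h1
      obtain ⟨i, hi⟩ := IsPGroup.iff_card.mp hmapP
      have h2 : Nat.card ↥P > 256 := by
        rw [← d.toSec.card_S1]
        exact lt_of_le_of_ne (card_le_of_le hge) fun e => hne (Subgroup.eq_of_le_of_card_ge hge e.ge).symm
      rw [hi] at h1 h2 ⊢
      have i1 : 8 < i := (Nat.pow_lt_pow_iff_right (a := 2) (by norm_num)).mp (by norm_num; exact h2)
      have i2 : i ≤ 9 := (Nat.pow_le_pow_iff_right (a := 2) (by norm_num)).mp (by norm_num; exact h1)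
      rw [show i = 9 by omega]; norm_num
    have hsurj := ((Nat.bijective_iff_injective_and_card f).mpr ⟨hf, by rw [hcard, d.toSec.card_S]⟩).2
    have hu'S : c * d.u * c⁻¹ ∈ d.S := hc _ (hge d.u_S1)
    have hcomm : ∀ w ∈ d.S, Commute (c * d.u * c⁻¹) w := fun w hw => by
      obtain ⟨⟨p, hp⟩, e⟩ := hsurj ⟨w, hw⟩
      rw [show w = c * p * c⁻¹ from (congrArg Subtype.val e).symm]
      refine (Commute.conj_iff c).mpr ?_
      obtain ⟨⟨q, hq⟩, -, rfl⟩ := hp
      exact (hmem.mp hq).2.symm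
    refine d.no_central hu'S hcomm
      ((d.U_conj d.u_U d.u_notTriv.1).trans (isConj_iff.mpr ⟨c, rfl⟩)) ?_
    have htu : d.t * d.u ≠ 1 := fun e => d.u_notTriv.2 (by
      rw [show d.u = d.t⁻¹ * (d.t * d.u) by group, e, mul_one]; exact inv_eq_of_mul_eq_one_right d.t_sq)
    refine (d.U_conj (mul_mem d.t_U d.u_U) htu).trans (isConj_iff.mpr ⟨c, ?_⟩)
    rw [show c * (d.t * d.u) * c⁻¹ = c * d.t * c⁻¹ * (c * d.u * c⁻¹) by group, hct.eq, mul_inv_cancel_right]
  obtain ⟨P', hP'⟩ := ((twoPow_isP hx).comap_of_injective H.subtype Subtype.val_injective).exists_le_sylow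
  obtain ⟨c, hc⟩ := MulAction.exists_smul_eq ↥H P' S'
  refine ⟨c, (hmem.mp c.2).1, (hmem.mp c.2).2, ?_⟩
  have hxH : x ∈ H := hmem.mpr ⟨hxt, hxu⟩
  have hm : c * ⟨x, hxH⟩ * c⁻¹ ∈ ((c • P' : Sylow 2 ↥H) : Subgroup ↥H) := by
    rw [Sylow.coe_subgroup_smul]
    exact ⟨⟨x, hxH⟩, hP' (mem_comap.mpr (mem_zpowers x)), rfl⟩
  rw [hc] at hm
  have := mem_map_of_mem H.subtype hm
  rw [heq] at this
  exact this

/-- The generator is isolated in the centralizer modulo the involution. -/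
theorem isolated {h : G} (hh : Commute h d.t) (hS : h * d.u * h⁻¹ ∈ d.S) :
    h * d.u * h⁻¹ = d.u ∨ h * d.u * h⁻¹ = d.t * d.u := by
  set x := h⁻¹ * z * h with hx
  have hxZ : d.Zt x := by
    have := d.Zt_conj (d.Tri_conj (Or.inl rfl)) hh.inv_left
    rwa [inv_inv] at this
  have hxu : Commute x d.u := by
    have h' : Commute z (h * d.u * h⁻¹) := (d.mem_S.mp hS).1.symm
    have h2 := (Commute.conj_iff h⁻¹).mpr h'
    rwa [inv_inv, show h⁻¹ * (h * d.u * h⁻¹) * h = d.u by group] at h2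
  obtain ⟨c, hct, hcu, hc⟩ := d.into_S1 (k := 1) (by rw [pow_one, pow_two]; exact d.Zt_sq hxZ) hxZ.1 hxu
  have hU := d.U_attached hc (d.Zt_conj hxZ hct).2 d.u_U (h * c⁻¹) (hh.mul_left hct.inv_left) (by rw [hx]; group)
  rw [conj_comp, show c⁻¹ * d.u * c⁻¹⁻¹ = d.u by rw [inv_inv, mul_assoc, ← hcu.eq, inv_mul_cancel_left]] at hU
  rcases d.U_cases hU with r | r | r | r
  · exact absurd (conj_eq_one_iff.mp r) d.u_notTriv.1
  · exact absurd (mul_left_cancel (mul_right_cancel (r.trans (by rw [hh.eq, mul_inv_cancel_right] : d.t = h * d.t * h⁻¹))))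
      d.u_notTriv.2
  · exact Or.inl r
  · exact Or.inr r

theorem t_pow (i : ℤ) : d.t ^ i = 1 ∨ d.t ^ i = d.t := by
  obtain ⟨k, rfl | rfl⟩ := Int.even_or_odd' i
  · exact Or.inl (by rw [zpow_mul, zpow_two, d.t_sq, one_zpow])
  · exact Or.inr (by rw [zpow_add, zpow_mul, zpow_two, d.t_sq, one_zpow, one_mul, zpow_one])

theorem mem_T2 {w : G} : w ∈ zpowers d.t ↔ w = 1 ∨ w = d.t := by
  refine ⟨fun h => ?_, fun h => h.elim (fun e => e ▸ one_mem _) fun e => e ▸ mem_zpowers _⟩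
  obtain ⟨i, rfl⟩ := mem_zpowers_iff.mp h
  exact d.t_pow i

/-- The four-group is normal in the centralizer of the second involution. -/
theorem normal_U {h : G} (hh : Commute h d.t) : h * d.u * h⁻¹ = d.u ∨ h * d.u * h⁻¹ = d.t * d.u := by
  classical
  let T2 : Subgroup ↥d.Ct := (zpowers d.t).subgroupOf d.Ct
  haveI hT2 : T2.Normal := ⟨fun n hn c => by
    have h2 : (c : G) * n * (c : G)⁻¹ = n := by
      rcases d.mem_T2.mp (mem_subgroupOf.mp hn) with e | e <;> rw [e]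
      · simp
      · rw [(d.mem_Ct.mp c.2).eq, mul_inv_cancel_right]
    have : c * n * c⁻¹ = n := Subtype.ext h2
    rwa [this]⟩
  let π : ↥d.Ct →* ↥d.Ct ⧸ T2 := QuotientGroup.mk' T2
  have hπ : ∀ a b : ↥d.Ct, π a = π b ↔ ((b : G) = a ∨ (b : G) = d.t * a) := fun a b => by
    rw [show π a = π b ↔ a⁻¹ * b ∈ T2 from QuotientGroup.eq, mem_subgroupOf]
    show (a : G)⁻¹ * (b : G) ∈ zpowers d.t ↔ _
    rw [d.mem_T2]
    refine or_congr (inv_mul_eq_one.trans eq_comm) ?_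
    rw [inv_mul_eq_iff_eq_mul, (d.mem_Ct.mp a.2).eq]
  have huC : d.u ∈ d.Ct := d.mem_Ct.mpr d.u_t
  let ub := π ⟨d.u, huC⟩
  have hub : orderOf ub = 2 := by
    refine orderOf_eq_prime ?_ fun e => ?_
    · rw [pow_two]
      show π ⟨d.u, huC⟩ * π ⟨d.u, huC⟩ = 1
      rw [← map_mul, ← map_one π]
      exact congrArg π (Subtype.ext d.u_sq)
    · rcases (hπ 1 ⟨d.u, huC⟩).mp ((map_one π).trans e.symm) with r | r
      · exact d.u_notTriv.1 r
      · exact d.u_notTriv.2 (r.trans (mul_one _))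
  have hiso : Cfsg.IsIsolatedInvolution ub := by
    refine ⟨hub, fun g' hc => ?_⟩
    obtain ⟨⟨a, ha⟩, rfl⟩ := QuotientGroup.mk'_surjective T2 g'
    set v := a * d.u * a⁻¹ with hv
    have hva : Commute a d.t := d.mem_Ct.mp ha
    have hvt : Commute v d.t := (hva.mul_left d.u_t).mul_left hva.inv_left
    have hc' := (hπ (⟨d.u, huC⟩ * ⟨v, d.mem_Ct.mpr hvt⟩) (⟨v, d.mem_Ct.mpr hvt⟩ * ⟨d.u, huC⟩)).mp (by
      rw [map_mul, map_mul]; exact hc)
    have hnorm : ∀ w ∈ d.U, v * w * v⁻¹ ∈ d.U := by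
      intro w hw
      have hu' : v * d.u * v⁻¹ ∈ d.U := by
        rcases hc' with e | e
        · have e' : v * d.u = d.u * v := e
          rw [e', mul_inv_cancel_right]; exact d.u_U
        · have e' : v * d.u = d.t * (d.u * v) := e
          rw [e', show d.t * (d.u * v) * v⁻¹ = d.t * d.u by group]; exact mul_mem d.t_U d.u_U
      have ht' : v * d.t * v⁻¹ = d.t := by rw [hvt.eq, mul_inv_cancel_right]
      rcases d.U_cases hw with r | r | r | r <;> rw [r]
      · simp [one_mem]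
      · rw [ht']; exact d.t_U
      · exact hu'
      · rw [show v * (d.t * d.u) * v⁻¹ = v * d.t * v⁻¹ * (v * d.u * v⁻¹) by group, ht']
        exact mul_mem d.t_U hu'
    haveI : Fact (Nat.Prime 2) := ⟨Nat.prime_two⟩
    have hUP : IsPGroup 2 ↥d.U := IsPGroup.of_card (n := 2) (by rw [d.card_U]; norm_num)
    have hvv : v * v = 1 := by
      rw [hv, show a * d.u * a⁻¹ * (a * d.u * a⁻¹) = a * (d.u * d.u) * a⁻¹ by group, d.u_sq]; simp
    have hvn : zpowers v ≤ normalizer (d.U : Set G) :=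
      zpowers_le.mpr (Cfsg.Lib.ZStarApps.mem_normalizer_of_maps hnorm)
    have hP : IsPGroup 2 ↥(d.U ⊔ zpowers v) :=
      hUP.to_sup_of_normal_left' (twoPow_isP (k := 1) (by rw [pow_one, pow_two]; exact hvv)) hvn
    have hUle : d.U ≤ d.Ct := fun w hw => d.S1_le_Ct (d.mem_M.mp (d.mem_U.mp hw).1).1
    obtain ⟨c, hct, hc2⟩ := d.exists_conj_S hP (sup_le hUle (zpowers_le.mpr (d.mem_Ct.mpr hvt)))
    have h1 := d.isolated hct (hc2 _ (mem_sup_left d.u_U))
    have hcv : c * v * c⁻¹ = c * a * d.u * (c * a)⁻¹ := by rw [hv]; group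
    have h2 := d.isolated (hct.mul_left hva) (hcv ▸ hc2 _ (mem_sup_right (mem_zpowers v)))
    rw [← hcv] at h2
    have hct' : c * d.t * c⁻¹ = d.t := by rw [hct.eq, mul_inv_cancel_right]
    have key : v = d.u ∨ v = d.t * d.u := by
      have hkey : c * v * c⁻¹ = c * d.u * c⁻¹ ∨ c * v * c⁻¹ = c * (d.t * d.u) * c⁻¹ := by
        rw [show c * (d.t * d.u) * c⁻¹ = c * d.t * c⁻¹ * (c * d.u * c⁻¹) by group, hct']
        rcases h1 with e1 | e1 <;> rcases h2 with e2 | e2 <;> rw [e1, e2]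
        · exact Or.inl rfl
        · exact Or.inr rfl
        · exact Or.inr (by rw [← mul_assoc, d.t_sq, one_mul])
        · exact Or.inl rfl
      exact hkey.imp (fun e => mul_left_cancel (mul_right_cancel e)) fun e => mul_left_cancel (mul_right_cancel e)
    have hh' := (hπ ⟨d.u, huC⟩ ⟨v, d.mem_Ct.mpr hvt⟩).mpr key
    show π ⟨a, ha⟩ * ub * (π ⟨a, ha⟩)⁻¹ = ub
    rw [← map_inv, ← map_mul, ← map_mul]
    exact hh'.symm
  have hz' := Cfsg.Lib.ZStarApps.zstarProp hiso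
  have hbot : Cfsg.pPrimeCore 2 (↥d.Ct ⧸ T2) = ⊥ := by
    set N := Cfsg.pPrimeCore 2 (↥d.Ct ⧸ T2) with hN
    haveI : N.Normal := Cfsg.Lib.Components.pPrimeCore_normal' 2
    have hodd : Odd (Nat.card N) := Cfsg.Lib.ZStarApps.odd_card_pPrimeCore
    have heC : ∀ {e}, d.Tri e → e ∈ d.Ct := fun he => d.mem_Ct.mpr (d.Tri_conj he).1
    let φ : ∀ {e}, d.Tri e → ↥N → ↥N := fun {e} he n => MulAut.conjNormal (π ⟨e, heC he⟩) n
    have fpf : ∀ {e} (he : d.Tri e) (n : ↥N), φ he n = n → n = 1 := by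
      intro e he n hn
      obtain ⟨⟨a, ha⟩, hae⟩ := QuotientGroup.mk'_surjective T2 (n : ↥d.Ct ⧸ T2)
      set m := orderOf (n : ↥d.Ct ⧸ T2) with hm
      have hmo : Odd m := by
        rw [hm, Subgroup.orderOf_coe]; exact hodd.of_dvd_nat (_root_.orderOf_dvd_natCard n)
      obtain ⟨j, hj⟩ := hmo
      have hat := d.mem_Ct.mp ha
      have ham : a ^ m = 1 ∨ a ^ m = d.t := by
        have hq := (hπ 1 (⟨a, ha⟩ ^ m)).mp (by
          rw [map_one, map_pow]
          show _ = π ⟨a, ha⟩ ^ m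
          rw [hae, hm, pow_orderOf_eq_one])
        simpa using hq
      have ha2 : (a ^ m) * (a ^ m) = 1 := by
        rcases ham with r | r <;> rw [r]
        · simp
        · exact d.t_sq
      set b := a ^ (m + 1) with hb
      have hbm : b ^ m = 1 := by
        rw [hb, ← pow_mul, show (m + 1) * m = (m + m) * (j + 1) by rw [hj]; ring, pow_mul, show a ^ (m + m) = 1 by rw [pow_add]; exact ha2, one_pow]
      have hbC : b ∈ d.Ct := pow_mem ha _
      have hbt := d.mem_Ct.mp hbC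
      have hbn : π ⟨b, hbC⟩ = n := by
        have e1 : (⟨b, hbC⟩ : ↥d.Ct) = ⟨a, ha⟩ ^ (m + 1) := Subtype.ext (by simp [hb])
        rw [e1, map_pow]
        show π ⟨a, ha⟩ ^ (m + 1) = _
        rw [hae, pow_succ, hm, pow_orderOf_eq_one, one_mul]
      have hfix := (hπ ⟨b, hbC⟩ (⟨e, heC he⟩ * ⟨b, hbC⟩ * (⟨e, heC he⟩ : ↥d.Ct)⁻¹)).mp (by
        have h' := congrArg Subtype.val hn
        simp only [φ, MulAut.conjNormal_apply] at h'
        rw [map_mul, map_mul, map_inv, hbn, h'])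
      have hfix' : e * b * e⁻¹ = b := by
        rcases hfix with r | r
        · exact r
        · exfalso
          have r' : e * b * e⁻¹ = d.t * b := r
          have h2 : (e * b * e⁻¹) ^ m = 1 := by rw [conj_pow, hbm]; simp
          rw [r', hbt.symm.mul_pow, hbm, mul_one, hj, pow_succ, pow_mul, pow_two, d.t_sq, one_pow, one_mul] at h2
          exact d.t_ne h2
      have hbe : Commute b e := (mul_inv_eq_iff_eq_mul.mp hfix').symm
      obtain ⟨w, hw, hwe⟩ := d.to_z (d.Tri_conj he)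
      have hS : w * b * w⁻¹ ∈ d.S := d.mem_S.mpr ⟨by
        have := (Commute.conj_iff w).mpr hbe
        rwa [hwe] at this, (hw.mul_left hbt).mul_left hw.inv_left⟩
      have h512 : orderOf b ∣ 512 := by
        rw [← d.toSec.card_S, show orderOf b = orderOf (w * b * w⁻¹) from ((MulAut.conj w).orderOf_eq b).symm,
          ← Subgroup.orderOf_mk _ hS]
        exact _root_.orderOf_dvd_natCard _
      have h2m : Nat.Coprime 512 m := by
        have : Nat.Coprime 2 m := (Nat.prime_two.coprime_iff_not_dvd).mpr fun hd => by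
          obtain ⟨c', hc'⟩ := hd; omega
        simpa using this.pow_left 9
      have hb1 : b = 1 := orderOf_eq_one_iff.mp
        (Nat.eq_one_of_dvd_coprimes h2m h512 (orderOf_dvd_of_pow_eq_one hbm))
      refine Subtype.ext ?_
      rw [← hbn, show (⟨b, hbC⟩ : ↥d.Ct) = 1 from Subtype.ext hb1, map_one]; rfl
    have inv_of : ∀ {e} (he : d.Tri e) (n : ↥N), φ he n = n⁻¹ := by
      intro e he n
      have hff : MonoidHom.FixedPointFree (MulAut.conjNormal (π ⟨e, heC he⟩) : MulAut ↥N) := fun n hn => fpf he n hn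
      have hinv : Function.Involutive (MulAut.conjNormal (π ⟨e, heC he⟩) : MulAut ↥N) := fun n => by
        rw [← MulAut.mul_apply]
        rw [← map_mul, ← map_mul, show (⟨e, heC he⟩ : ↥d.Ct) * ⟨e, heC he⟩ = 1 from
          Subtype.ext (d.Zt_sq (d.Tri_conj he)), map_one, map_one]
        rfl
      exact congrFun (MonoidHom.FixedPointFree.coe_eq_inv_of_involutive hff hinv) n
    refine eq_bot_iff.mpr fun n hn => ?_
    have hz1 := inv_of (e := z) (Or.inl rfl) ⟨n, hn⟩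
    have hs1 := inv_of (e := d.s) (Or.inr (Or.inl rfl)) ⟨n, hn⟩
    have hzs : φ (e := z * d.s) (Or.inr (Or.inr rfl)) ⟨n, hn⟩ = ⟨n, hn⟩ := by
      show MulAut.conjNormal (π ⟨z * d.s, _⟩) _ = _
      rw [show (⟨z * d.s, heC (Or.inr (Or.inr rfl))⟩ : ↥d.Ct) = ⟨z, heC (Or.inl rfl)⟩ * ⟨d.s, heC (Or.inr (Or.inl rfl))⟩
        from rfl, map_mul, map_mul, MulAut.mul_apply]
      simp only [φ] at hz1 hs1
      rw [hs1, map_inv, hz1, inv_inv]
    exact mem_bot.mpr (congrArg Subtype.val (fpf (e := z * d.s) (Or.inr (Or.inr rfl)) _ hzs))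
  have hhC : h ∈ d.Ct := d.mem_Ct.mpr hh
  have hc := hz' (π ⟨h, hhC⟩)
  rw [hbot, mem_bot] at hc
  have e : π ⟨h, hhC⟩ * ub * (π ⟨h, hhC⟩)⁻¹ = ub := by
    calc π ⟨h, hhC⟩ * ub * (π ⟨h, hhC⟩)⁻¹ = (ub * π ⟨h, hhC⟩ * ub⁻¹ * (π ⟨h, hhC⟩)⁻¹)⁻¹ * ub := by group
      _ = ub := by rw [hc, inv_one, one_mul]
  show h * d.u * h⁻¹ = d.u ∨ _
  have := (hπ ⟨d.u, huC⟩ (⟨h, hhC⟩ * ⟨d.u, huC⟩ * (⟨h, hhC⟩ : ↥d.Ct)⁻¹)).mp (by
    rw [map_mul, map_mul, map_inv]; exact e.symm)
  exact this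

end Four

end Cfsg.Lib.SuzukiType
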