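import Cfsg.Agent.SuzukiType.Local.Invol

/-!
The centralizer in the first involution centralizer of an involution of the second class.
-/

set_option autoImplicit false
set_option maxRecDepth 100000
set_option maxHeartbeats 1000000
set_option linter.unusedSectionVars false

namespace Cfsg.Lib.SuzukiType

open Subgroup Cfsg.Lib.SuzukiType.Code Cfsg.Lib.SuzukiType.Local Cfsg.Lib.SuzukiType.Local.Frm

universe u

variable {G : Type u} [Group G] [Finite G] {z : G}

/-- Orbit and stabiliser for conjugation inside a subgroup. -/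
theorem orbit_mul_stab (H : Subgroup G) (x : G) :
    Nat.card {y : G // ∃ h ∈ H, h * x * h⁻¹ = y} * Nat.card ↥(H ⊓ centralizer ({x} : Set G)) = Nat.card H := by
  classical
  let f : ↥H → {y : G // ∃ h ∈ H, h * x * h⁻¹ = y} := fun h => ⟨h * x * (h : G)⁻¹, h, h.2, rfl⟩
  have key : ∀ g g' : ↥H, g⁻¹ * g' ∈ (centralizer ({x} : Set G)).subgroupOf H ↔
      (g : G) * x * (g : G)⁻¹ = (g' : G) * x * (g' : G)⁻¹ := fun g g' => by
    rw [mem_subgroupOf, mem_centralizer_singleton_iff, Subgroup.coe_mul, Subgroup.coe_inv, mul_inv_eq_iff_eq_mul]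
    constructor
    · intro h
      calc (g : G) * x = (g : G) * (x * ((g : G)⁻¹ * g')) * (g' : G)⁻¹ * g := by group
        _ = _ := by rw [← h]; group
    · intro h
      calc (g : G)⁻¹ * g' * x = (g : G)⁻¹ * ((g' : G) * x * (g' : G)⁻¹ * g) * (g : G)⁻¹ * g' := by group
        _ = _ := by rw [← h]; group
  let φ : ↥H ⧸ (centralizer ({x} : Set G)).subgroupOf H → {y : G // ∃ h ∈ H, h * x * h⁻¹ = y} :=
    Quotient.lift f fun g g' h => Subtype.ext ((key g g').1 (QuotientGroup.leftRel_apply.1 h))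
  have hφ : Function.Bijective φ := by
    constructor
    · intro a b
      induction a using Quotient.inductionOn with
      | _ g => induction b using Quotient.inductionOn with
        | _ g' => exact fun h => Quotient.sound (QuotientGroup.leftRel_apply.2 ((key g g').2 (congrArg Subtype.val h)))
    · rintro ⟨y, h, hh, rfl⟩
      exact ⟨Quotient.mk'' ⟨h, hh⟩, rfl⟩
  have hst : Nat.card ↥((centralizer ({x} : Set G)).subgroupOf H) = Nat.card ↥(H ⊓ centralizer ({x} : Set G)) :=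
    Nat.card_congr ⟨fun g => ⟨g.1.1, g.1.2, g.2⟩, fun g => ⟨⟨g.1, g.2.1⟩, g.2.2⟩, fun _ => rfl, fun _ => rfl⟩
  rw [← Nat.card_congr (Equiv.ofBijective φ hφ), ← hst, ← card_eq_card_quotient_mul_card_subgroup]

theorem s_orbit_count : ((List.range 64).countP fun v => v != 0 && !qB v) = 27 := by decide +kernel

theorem W_card : (W.toFinset.filter fun _ => True).card = 16 := by decide +kernel

theorem pair_count : ((W.toFinset ×ˢ W.toFinset).filter fun u => qB u.1 = true ∧ qB u.2 = true ∧ pB u.1 u.2 = true).card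
    = 60 := by decide +kernel

theorem rho18_fix : ∀ v < 64, v ≠ 0 → qB v = false → (∃ y < 64, rho 18 y ^^^ y = v) → v = 1 := by decide +kernel

theorem rho18_ten : rho 18 10 ^^^ 10 = 1 := by decide +kernel

namespace Sec

variable (d : Sec z)

/-- The centralizer of the first involution. -/
def Cn (_d : Sec z) : Subgroup G := centralizer ({z} : Set G)

/-- The centralizer of the pair. -/
def Tn : Subgroup G := centralizer ({z} : Set G) ⊓ centralizer ({d.s} : Set G)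

theorem mem_Cn {x : G} : x ∈ d.Cn ↔ Commute x z := mem_centralizer_singleton_iff

theorem mem_Tn {x : G} : x ∈ d.Tn ↔ d.T x := by
  rw [Tn, mem_inf, mem_centralizer_singleton_iff, mem_centralizer_singleton_iff]; rfl

/-- The centralizer in the involution centralizer of the second involution. -/
def S : Subgroup G := centralizer ({z} : Set G) ⊓ centralizer ({d.t} : Set G)

theorem mem_S {x : G} : x ∈ d.S ↔ Commute x z ∧ Commute x d.t := by
  rw [S, mem_inf, mem_centralizer_singleton_iff, mem_centralizer_singleton_iff]; rfl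

/-- Its part centralizing the pair. -/
def S1 : Subgroup G := d.Tn ⊓ centralizer ({d.t} : Set G)

theorem mem_S1 {x : G} : x ∈ d.S1 ↔ d.T x ∧ Commute x d.t := by
  rw [S1, mem_inf, mem_Tn, mem_centralizer_singleton_iff]; rfl

theorem S1_le : d.S1 ≤ d.S := fun x hx => d.mem_S.mpr ⟨(d.mem_S1.mp hx).1.1, (d.mem_S1.mp hx).2⟩

include d in
theorem card_Om : Nat.card ↥Om = 25920 := by
  obtain ⟨hΩc, -⟩ := Cfsg.Lib.Leech.Co0Section.omega_six
  have hcoe : ∀ (q' : ((Fin 2 ⊕ Fin 2) ⊕ Fin 2 → ZMod 2) → ZMod 2), q' = ⇑qf →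
      Nat.card ↥(Cfsg.Omega (ZMod 2) q') = Nat.card ↥Om := fun q' e => by subst e; rfl
  rw [← hcoe _ (Cfsg.Lib.Classical.Refl.minusForm_coe 2 1 1).symm]
  exact hΩc

include d in
theorem card_C : Nat.card (centralizer ({z} : Set G)) = 3317760 := by
  have h := (d.μ.ker).card_mul_index
  rw [index_ker, d.rng, d.card_Om] at h
  have hk : Nat.card d.μ.ker = 128 := by
    rw [← d.card]
    exact Nat.card_congr ⟨fun c => ⟨c.1.1, (d.ker c.1).mp c.2⟩,
      fun q => ⟨⟨q.1, d.toCtx.q_C q.2⟩, (d.ker _).mpr q.2⟩, fun _ => rfl, fun _ => rfl⟩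
  rw [hk] at h
  exact h.symm

/-- Conjugation moves the noncentral involutions of the extraspecial group to the distinguished one. -/
theorem to_s {x : G} (hx : x ∈ d.Q) (h1 : x * x = 1) (h0 : d.π x ≠ 0) :
    ∃ c, Commute c z ∧ c * d.s * c⁻¹ = x := by
  obtain ⟨h, hh, he⟩ := trans_sing (d.π_lt x) h0 ((d.π_sq x hx).mp h1)
  obtain ⟨e, he', hem⟩ := d.toCtx.m_surj hh
  have e1 : d.π (e * d.s * e⁻¹) = d.π x := by rw [d.toCtx.act he' d.hs, hem, d.πs, he]
  obtain ⟨q, hq, hqe⟩ := d.toCtx.conj_to_code hx (d.toCtx.norm he' d.hs) (by rw [e1]; exact h0) e1.symm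
  exact ⟨q * e, (d.X.central q hq).mul_left he', by rw [show q * e * d.s * (q * e)⁻¹ = q * (e * d.s * e⁻¹) * q⁻¹ by group, hqe]⟩

theorem card_T : Nat.card ↥d.Tn = 61440 := by
  classical
  have h := orbit_mul_stab (centralizer ({z} : Set G)) d.s
  rw [d.card_C] at h
  have horb : Nat.card {y : G // ∃ h ∈ centralizer ({z} : Set G), h * d.s * h⁻¹ = y} = 54 := by
    have hset : ∀ y : G, (∃ h ∈ centralizer ({z} : Set G), h * d.s * h⁻¹ = y) ↔
        y ∈ d.Q ∧ Commute 1 y ∧ (d.π y ≠ 0 ∧ qB (d.π y) = false) := fun y => by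
      constructor
      · rintro ⟨h, hh, rfl⟩
        have hh' := Ctx.mem_C.mp hh
        refine ⟨d.toCtx.norm hh' d.hs, Commute.one_left _, ?_⟩
        rw [d.toCtx.act hh' d.hs, d.πs]
        refine ⟨fun e => ?_, by rw [cd_q _ (by norm_num)]; decide⟩
        have := congrArg (cd (d.toCtx.m h)⁻¹) e
        rw [cd_inv _ (by norm_num), cd_zero] at this
        exact absurd this (by norm_num)
      · rintro ⟨hy, -, h0, hq⟩
        obtain ⟨c, hc, e⟩ := d.to_s hy ((d.π_sq y hy).mpr hq) h0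
        exact ⟨c, Ctx.mem_C.mpr hc, e⟩
    rw [Nat.card_congr (Equiv.subtypeEquivRight hset), card_fixed d.toPt (Commute.one_left z)
      (fun y => d.π y ≠ 0 ∧ qB (d.π y) = false) (fun v => v != 0 && !qB v) fun c hc b => by
        have hm := mul_mem (zb_mem d.toPt b) (elt_mem d.toPt c)
        show d.π (zb d.toPt b * elt d.toPt c) ≠ 0 ∧ _ ↔ _
        rw [show d.π ((bif b then z else 1) * elt d.toPt c) = c by
            show d.π (zb d.toPt b * elt d.toPt c) = c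
            rw [d.π_mul _ (zb_mem d.toPt b) _ (elt_mem d.toPt c), π_zb, Nat.zero_xor, π_elt,
              (Nat.and_two_pow_sub_one_eq_mod c 6).trans (Nat.mod_eq_of_lt hc)],
          d.π_mul _ (zb_mem d.toPt b) _ (elt_mem d.toPt c), π_zb, Nat.zero_xor, π_elt,
          (Nat.and_two_pow_sub_one_eq_mod c 6).trans (Nat.mod_eq_of_lt hc)]
        simp]
    have hid : ∀ c < 64, (Nat.beq (ev (tup d.toPt 1) c) c) = true := by
      rw [tup_one]; decide +kernel
    rw [show ((List.range 64).countP fun c => Nat.beq (ev (tup d.toPt 1) c) c && (c != 0 && !qB c)) = 27 from by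
      rw [← s_orbit_count]
      exact List.countP_congr fun c hc => by rw [hid c (List.mem_range.mp hc), Bool.true_and]]
  rw [horb] at h
  show Nat.card ↥(centralizer ({z} : Set G) ⊓ centralizer ({d.s} : Set G)) = 61440
  omega

/-- Products with an anisotropic pair are conjugate in the pair centralizer. -/
theorem tt_conj_T {q r : G} (hq : d.A q) (hr : d.R r) (ha : qB (d.α q) = true) (hb : qB (d.β r) = true)
    (hab : pB (d.α q) (d.β r) = true) : ∃ x, d.T x ∧ x * d.t * x⁻¹ = q * r := by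
  obtain ⟨h, hh, h1, ea, eb⟩ := trans_w60 (d.α_mem q) (d.β_mem r) ha hb hab
  obtain ⟨t, ht, rfl⟩ := d.T_lift hh h1
  obtain ⟨q1, hq1⟩ : ∃ v, v = t * d.q0 * t⁻¹ := ⟨_, rfl⟩
  obtain ⟨r1, hr1⟩ : ∃ v, v = t * d.r0 * t⁻¹ := ⟨_, rfl⟩
  have A1 : d.A q1 := hq1 ▸ d.A_norm ht d.hq0
  have R1 : d.R r1 := hr1 ▸ d.R_norm ht d.hr0
  have e1 : d.α q1 = d.α q := by rw [hq1, d.α_conj ht d.hq0, d.a0, ea]
  have e2 : d.β r1 = d.β r := by rw [hr1, d.β_conj ht d.hr0, d.b0, eb]
  have hE1 : d.InE (q1⁻¹ * q) := d.α_zero (d.A_mul (d.A_inv A1) hq) (by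
    rw [d.α_mul (d.A_inv A1) hq, d.α_inv A1, e1, Nat.xor_self])
  have hE2 := d.R_fibre R1 hr e2
  have hee := d.E_cases hE1 _ hE2
  set e := q1⁻¹ * q * (r1⁻¹ * r) with hedef
  have eqn : q * r = q1 * r1 * e := by
    calc q * r = q1 * (q1⁻¹ * q) * (r1 * (r1⁻¹ * r)) := by group
      _ = q1 * ((q1⁻¹ * q) * r1) * (r1⁻¹ * r) := by group
      _ = q1 * (r1 * (q1⁻¹ * q)) * (r1⁻¹ * r) := by rw [(d.E_central hE1 (d.R_T R1)).eq]
      _ = _ := by rw [hedef]; group
  obtain ⟨v, hv, va, vb⟩ := pair_partner _ (d.α_mem q) _ (d.β_mem r) ha hb hab (d.ze e ^^ d.se e) (d.se e)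
  obtain ⟨x, hx, hxa⟩ := d.α_surj hv
  have hxq : d.InE (x * q1 * x⁻¹ * q1⁻¹) := by
    have hcm := d.A_mul (d.A_mul (d.A_mul hx A1) (d.A_inv hx)) (d.A_inv A1)
    refine d.α_zero hcm ?_
    rw [d.α_mul (d.A_mul (d.A_mul hx A1) (d.A_inv hx)) (d.A_inv A1), d.α_mul (d.A_mul hx A1) (d.A_inv hx),
      d.α_mul hx A1, d.α_inv hx, d.α_inv A1, Nat.xor_comm (d.α x), Nat.xor_assoc (d.α q1), Nat.xor_self,
      Nat.xor_zero, Nat.xor_self]
  obtain ⟨⟨z0, t0⟩, ⟨z2, t2⟩, -, -⟩ := d.zse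
  have hzq : d.ze (x * q1 * x⁻¹ * q1⁻¹) = pB v (d.α q) ∧ d.se (x * q1 * x⁻¹ * q1⁻¹) = false := by
    have hc := d.α_comm hx A1
    rw [hxa, e1] at hc
    cases hp : pB v (d.α q)
    · rw [(hc.mpr hp).eq, mul_inv_cancel_right, mul_inv_cancel]; exact ⟨z0, t0⟩
    · have hn : ¬ Commute x q1 := fun h => by rw [hc.mp h] at hp; exact Bool.false_ne_true hp
      rw [d.X.not_commute_conj hx.1 A1.1 hn, mul_inv_cancel_right]; exact ⟨z2, t2⟩
  have hcr := d.cab_ze hx R1
  have hcr' := d.cab_se hx R1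
  rw [hxa, e2] at hcr hcr'
  have hprod : x * (q1 * r1) * x⁻¹ = q1 * r1 * ((x * q1 * x⁻¹ * q1⁻¹) * Pt.cab x r1) := by
    have c1 := d.E_central hxq (d.T_mul (d.A_T A1) (d.R_T R1))
    have c2 := d.E_central (d.cab_E hx R1) (d.R_T R1)
    calc x * (q1 * r1) * x⁻¹ = (x * q1 * x⁻¹ * q1⁻¹) * (q1 * (Pt.cab x r1 * r1)) := by simp only [Pt.cab]; group
      _ = (x * q1 * x⁻¹ * q1⁻¹) * (q1 * r1) * Pt.cab x r1 := by rw [← c2.eq]; group
      _ = _ := by rw [← c1.eq]; group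
  have he : (x * q1 * x⁻¹ * q1⁻¹) * Pt.cab x r1 = e := by
    refine d.eq_of_zse (d.E_cases hxq _ (d.cab_E hx R1)) hee ?_ ?_
    · rw [(d.mul_zse hxq (d.cab_E hx R1)).1, hzq.1, hcr, va, vb]
      cases d.ze e <;> cases d.se e <;> rfl
    · rw [(d.mul_zse hxq (d.cab_E hx R1)).2, hzq.2, hcr', vb]
      cases d.se e <;> rfl
  refine ⟨x * t, d.T_mul (d.A_T hx) ht, ?_⟩
  rw [show x * t * d.t * (x * t)⁻¹ = x * ((t * d.q0 * t⁻¹) * (t * d.r0 * t⁻¹)) * x⁻¹ by
    show x * t * (d.q0 * d.r0) * (x * t)⁻¹ = _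
    group, ← hq1, ← hr1, hprod, he, ← eqn]

/-- The members of the second class commuting with the first involution form one class of its centralizer. -/
theorem T_class {y : G} (hy : Commute y z) (ht : IsConj d.t y) : ∃ c, Commute c z ∧ c * d.t * c⁻¹ = y := by
  obtain ⟨g, hg⟩ := isConj_iff.mp ht
  have hyy : y * y = 1 := by
    rw [← hg, show g * d.t * g⁻¹ * (g * d.t * g⁻¹) = g * (d.t * d.t) * g⁻¹ by group, d.t_sq]; simp
  have hy1 : y ≠ 1 := fun e => d.t_ne (conj_eq_one_iff.mp (hg.trans e))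
  have hyQ : y ∉ d.Q := fun h => d.not_conj ((d.Q_invol h hyy hy1).trans ht.symm)
  obtain ⟨c, q, r, hc, hq, hr, e, hb⟩ := d.normal_form hy hyy hyQ
  have hsq : q * r * (q * r) = 1 := by
    rw [← e, show c * y * c⁻¹ * (c * y * c⁻¹) = c * (y * y) * c⁻¹ by group, hyy]; simp
  rcases d.prod_class hq hr hb hsq with ⟨-, hz⟩ | ⟨ha, hb', hab, -⟩
  · exact absurd ((hz.trans (isConj_iff.mpr ⟨c⁻¹, by rw [← e]; group⟩)).trans ht.symm) d.not_conj
  · obtain ⟨x, hx, hxe⟩ := d.tt_conj_T hq hr ha hb' hab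
    refine ⟨c⁻¹ * x, hc.inv_left.mul_left hx.1, ?_⟩
    rw [show c⁻¹ * x * d.t * (c⁻¹ * x)⁻¹ = c⁻¹ * (x * d.t * x⁻¹) * c by group, hxe, ← e]
    group

/-- The four-group with the orders of its elements. -/
def eOf (_d : Sec z) (s : G) (u : Bool × Bool) : G := (bif u.1 then z else 1) * (bif u.2 then s else 1)

theorem card_S1 : Nat.card ↥d.S1 = 256 := by
  classical
  have h := orbit_mul_stab d.Tn d.t
  rw [d.card_T] at h
  choose ea hea hae using fun w : {w // w ∈ W} => d.α_surj w.2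
  choose eb heb hbe using fun w : {w // w ∈ W} => d.β_surj w.2
  let P := {u : ℕ × ℕ // u ∈ (W.toFinset ×ˢ W.toFinset).filter fun u => qB u.1 = true ∧ qB u.2 = true ∧ pB u.1 u.2 = true}
  have hP : ∀ u : P, u.1.1 ∈ W ∧ u.1.2 ∈ W ∧ qB u.1.1 = true ∧ qB u.1.2 = true ∧ pB u.1.1 u.1.2 = true := fun u => by
    have := u.2
    simp only [Finset.mem_filter, Finset.mem_product, List.mem_toFinset] at this
    exact ⟨this.1.1, this.1.2, this.2⟩
  have hE : ∀ u : Bool × Bool, d.InE (d.eOf d.s u) := by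
    rintro ⟨a, b⟩; cases a <;> cases b <;> simp [eOf, Pt.InE]
  let f : P × (Bool × Bool) → {y : G // ∃ h ∈ d.Tn, h * d.t * h⁻¹ = y} := fun u =>
    ⟨d.eOf d.s u.2 * (ea ⟨u.1.1.1, (hP u.1).1⟩ * eb ⟨u.1.1.2, (hP u.1).2.1⟩), by
      obtain ⟨h1, h2, q1, q2, q3⟩ := hP u.1
      have hA := d.A_mul (d.E_A (hE u.2)) (hea ⟨_, h1⟩)
      obtain ⟨x, hx, he⟩ := d.tt_conj_T hA (heb ⟨_, h2⟩)
        (by rw [d.α_mul (d.E_A (hE u.2)) (hea _), d.α_E (hE u.2), Nat.zero_xor, hae]; exact q1)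
        (by rw [hbe]; exact q2)
        (by rw [d.α_mul (d.E_A (hE u.2)) (hea _), d.α_E (hE u.2), Nat.zero_xor, hae, hbe]; exact q3)
      exact ⟨x, d.mem_Tn.mpr hx, by rw [he, mul_assoc]⟩⟩
  have hf : Function.Bijective f := by
    constructor
    · rintro ⟨u, a⟩ ⟨v, b⟩ e
      have e' := congrArg Subtype.val e
      simp only [f] at e'
      set qa := d.eOf d.s a * ea ⟨u.1.1, (hP u).1⟩ with hqa
      set qb := d.eOf d.s b * ea ⟨v.1.1, (hP v).1⟩ with hqb
      have Aa : d.A qa := d.A_mul (d.E_A (hE a)) (hea _)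
      have Ab : d.A qb := d.A_mul (d.E_A (hE b)) (hea _)
      rw [← mul_assoc, ← mul_assoc, ← hqa, ← hqb] at e'
      have hr := d.R_mul (heb ⟨u.1.2, (hP u).2.1⟩) (d.R_inv (heb ⟨v.1.2, (hP v).2.1⟩))
      have he2 : qa⁻¹ * qb = eb ⟨u.1.2, (hP u).2.1⟩ * (eb ⟨v.1.2, (hP v).2.1⟩)⁻¹ := by
        calc qa⁻¹ * qb = qa⁻¹ * (qb * eb ⟨v.1.2, (hP v).2.1⟩) * (eb ⟨v.1.2, (hP v).2.1⟩)⁻¹ := by group
          _ = _ := by rw [← e']; group
      have hInE := d.R_cap (he2 ▸ hr) (mul_mem (inv_mem Aa.1) Ab.1)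
      have hαeq : d.α qa = d.α qb := by
        have := d.α_E hInE
        rw [d.α_mul (d.A_inv Aa) Ab, d.α_inv Aa] at this
        exact xor_eq_zero'.mp this
      have hβeq : u.1.2 = v.1.2 := by
        have := d.β_E hInE
        rw [he2, d.β_mul (heb _) (d.R_inv (heb _))] at this
        have hi : d.β (eb ⟨v.1.2, (hP v).2.1⟩)⁻¹ = d.β (eb ⟨v.1.2, (hP v).2.1⟩) := by
          have h0 := d.β_mul (d.R_inv (heb ⟨v.1.2, (hP v).2.1⟩)) (heb ⟨v.1.2, (hP v).2.1⟩)
          rw [inv_mul_cancel, d.β_E (Or.inl rfl)] at h0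
          exact xor_eq_zero'.mp h0.symm
        rw [hi, hbe, hbe] at this
        exact xor_eq_zero'.mp this
      rw [hqa, hqb, d.α_mul (d.E_A (hE a)) (hea _), d.α_mul (d.E_A (hE b)) (hea _), d.α_E (hE a), d.α_E (hE b),
        Nat.zero_xor, Nat.zero_xor, hae, hae] at hαeq
      have huv : u = v := Subtype.ext (Prod.ext hαeq hβeq)
      subst huv
      have hab := mul_right_cancel e'
      rw [hqa, hqb] at hab
      have hab' := mul_right_cancel hab
      obtain ⟨z1, z2, z3⟩ := d.zs_ne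
      obtain ⟨s1, s2⟩ := d.s_ne
      obtain ⟨a1, a2⟩ := a
      obtain ⟨b1, b2⟩ := b
      cases a1 <;> cases a2 <;> cases b1 <;> cases b2 <;> first | rfl | (exfalso; revert hab'; simp [eOf, d.X.ne, s1, s2, z1, z2, z3,
        Ne.symm d.X.ne, Ne.symm s1, Ne.symm s2, Ne.symm z1, Ne.symm z2, Ne.symm z3])
    · rintro ⟨y, h, hh, rfl⟩
      have hT := d.mem_Tn.mp hh
      set q := h * d.q0 * h⁻¹
      set r := h * d.r0 * h⁻¹
      have hA : d.A q := d.A_norm hT d.hq0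
      have hR : d.R r := d.R_norm hT d.hr0
      have h1 := d.T_fix hT
      have hq1 : qB (d.α q) = true := by
        rw [d.α_conj hT d.hq0, d.a0, sa_q h1 (by decide)]; decide
      have hq2 : qB (d.β r) = true := by
        rw [d.β_conj hT d.hr0, d.b0, sa_q h1 (by decide)]; decide
      have hq3 : pB (d.α q) (d.β r) = true := by
        rw [d.α_conj hT d.hq0, d.β_conj hT d.hr0, d.a0, d.b0, sa_p h1 (by decide) (by decide)]; decide
      let u : P := ⟨(d.α q, d.β r), by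
        simp only [Finset.mem_filter, Finset.mem_product, List.mem_toFinset]
        exact ⟨⟨d.α_mem q, d.β_mem r⟩, hq1, hq2, hq3⟩⟩
      set qu := ea ⟨u.1.1, (hP u).1⟩ with hqu
      set ru := eb ⟨u.1.2, (hP u).2.1⟩ with hru
      have he1 : d.InE (q * qu⁻¹) := d.α_zero (d.A_mul hA (d.A_inv (hea _))) (by
        rw [d.α_mul hA (d.A_inv (hea _)), d.α_inv (hea _), hae]; exact Nat.xor_self _)
      have he2 : d.InE (ru⁻¹ * r) := d.R_fibre (heb _) hR (hbe _)
      have he3 := d.E_cases he1 _ he2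
      obtain ⟨a, ha⟩ : ∃ a, d.eOf d.s a = q * qu⁻¹ * (ru⁻¹ * r) := by
        rcases he3 with e | e | e | e <;> rw [e]
        · exact ⟨(false, false), by simp [eOf]⟩
        · exact ⟨(true, false), by simp [eOf]⟩
        · exact ⟨(false, true), by simp [eOf]⟩
        · exact ⟨(true, true), by simp [eOf]⟩
      refine ⟨(u, a), Subtype.ext ?_⟩
      show d.eOf d.s a * (qu * ru) = h * (d.q0 * d.r0) * h⁻¹
      rw [show h * (d.q0 * d.r0) * h⁻¹ = q * r by simp only [q, r]; group, ha]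
      have hc := d.E_central he2 (d.T_mul (d.A_T (hea ⟨u.1.1, (hP u).1⟩)) (d.R_T (heb ⟨u.1.2, (hP u).2.1⟩)))
      calc q * qu⁻¹ * (ru⁻¹ * r) * (qu * ru) = q * qu⁻¹ * ((qu * ru) * (ru⁻¹ * r)) := by rw [mul_assoc, ← hc.eq]
        _ = q * r := by group
  rw [← Nat.card_congr (Equiv.ofBijective f hf), Nat.card_prod, Nat.card_eq_finsetCard, pair_count, Nat.card_prod,
    Nat.card_eq_fintype_card, Fintype.card_bool] at h
  show Nat.card ↥(d.Tn ⊓ centralizer ({d.t} : Set G)) = 256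
  omega

theorem m_t : ∀ x < 64, cd (d.toCtx.m d.t) x = rho 18 x := fun x hx => by
  show cd (d.toCtx.m (d.q0 * d.r0)) x = _
  rw [d.toCtx.m_mul (d.A_T d.hq0).1 d.hr0.2, (d.toCtx.m_one_iff (d.A_T d.hq0).1).mpr d.hq0.1, one_mul,
    d.m_rho d.hr0 x hx, d.b0]

/-- Elements centralizing both involutions move the conjugate only within its coset. -/
theorem S_pair {x : G} (hx : x ∈ d.S) : x * d.s * x⁻¹ = d.s ∨ x * d.s * x⁻¹ = z * d.s := by
  obtain ⟨hz, ht⟩ := d.mem_S.mp hx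
  set h := d.toCtx.m x
  have hc : ∀ y < 64, cd h (rho 18 y) = rho 18 (cd h y) := fun y hy => by
    rw [← d.m_t y hy, ← d.m_t _ (cd_lt _ _), ← cd_mul, ← cd_mul, ← d.toCtx.m_mul hz d.t_C,
      ← d.toCtx.m_mul d.t_C hz, ht.eq]
  have h1 : cd h 1 = 1 := by
    refine rho18_fix _ (cd_lt _ _) ?_ ?_ ⟨cd h 10, cd_lt _ _, ?_⟩
    · intro e
      have := congrArg (cd h⁻¹) e
      rw [cd_inv _ (by norm_num), cd_zero] at this
      exact absurd this (by norm_num)
    · rw [cd_q _ (by norm_num)]; decide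
    · rw [← hc 10 (by norm_num), ← cd_xor, rho18_ten]
  refine d.toCtx.pi_eq (d.toCtx.norm hz d.hs) d.hs ?_
  rw [d.toCtx.act hz d.hs, d.πs]
  exact h1

theorem exists_y : ∃ y ∈ d.S, y * d.s * y⁻¹ = z * d.s := by
  obtain ⟨x, hx, hxπ⟩ := d.π_surj 4 (by norm_num)
  have hp : pB 1 (d.π x) = true := by rw [hxπ]; decide
  have hns : ¬ Commute x d.s := fun h => by
    have := (d.π_comm x hx d.s d.hs).mp h
    rw [d.πs, pB_comm, hp] at this
    exact absurd this (by decide)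
  have hxs : x * d.s * x⁻¹ = z * d.s := d.X.not_commute_conj hx d.hs hns
  set q2 := x * (d.t * x⁻¹ * d.t⁻¹) with hq2
  have hq2Q : q2 ∈ d.Q := mul_mem hx (d.toCtx.norm d.t_C (inv_mem hx))
  have hπ : d.π q2 = 4 ^^^ rho 18 4 := by
    rw [hq2, d.π_mul x hx _ (d.toCtx.norm d.t_C (inv_mem hx)), d.toCtx.act d.t_C (inv_mem hx), d.toCtx.pi_inv hx,
      d.m_t _ (d.π_lt x), hxπ]
  have A2 : d.A q2 := d.A_of_perp hq2Q (by rw [hπ]; decide +kernel)
  have hA := d.A_mul A2 d.hq0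
  have hα : d.α (q2 * d.q0) = 24 := by
    rw [d.α_mul A2 d.hq0, d.a0, Pt.α, hπ]; decide +kernel
  obtain ⟨c, hc, he⟩ := d.tt_conj_T hA d.hr0 (by rw [hα]; decide +kernel) (by rw [d.b0]; decide)
    (by rw [hα, d.b0]; decide +kernel)
  have hxt : x * d.t * x⁻¹ = c * d.t * c⁻¹ := by
    rw [he, hq2]
    show x * d.t * x⁻¹ = x * (d.t * x⁻¹ * d.t⁻¹) * d.q0 * d.r0
    rw [mul_assoc (x * _) d.q0 d.r0, show d.q0 * d.r0 = d.t from rfl]; group
  refine ⟨c⁻¹ * x, d.mem_S.mpr ⟨hc.1.inv_left.mul_left (d.X.central x hx), mul_inv_eq_iff_eq_mul.mp ?_⟩, ?_⟩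
  · rw [show c⁻¹ * x * d.t * (c⁻¹ * x)⁻¹ = c⁻¹ * (x * d.t * x⁻¹) * c by group, hxt]; group
  · rw [show c⁻¹ * x * d.s * (c⁻¹ * x)⁻¹ = c⁻¹ * (x * d.s * x⁻¹) * c by group, hxs,
      show c⁻¹ * (z * d.s) * c = (c⁻¹ * z * c) * (c⁻¹ * d.s * c) by group,
      show c⁻¹ * z * c = z by rw [mul_assoc, ← hc.1.eq]; group,
      show c⁻¹ * d.s * c = d.s by rw [mul_assoc, ← hc.2.eq]; group]

theorem card_S : Nat.card ↥d.S = 512 := by
  classical
  obtain ⟨y, hy, hys⟩ := d.exists_y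
  have hiff : ∀ x ∈ d.S, x * d.s * x⁻¹ = d.s → x ∈ d.S1 := fun x hx e =>
    d.mem_S1.mpr ⟨⟨(d.mem_S.mp hx).1, mul_inv_eq_iff_eq_mul.mp e⟩, (d.mem_S.mp hx).2⟩
  have hzs : z * d.s ≠ d.s := d.zs_ne.2.2
  let f : Bool × ↥d.S1 → ↥d.S := fun u => ⟨(bif u.1 then y else 1) * u.2, mul_mem (by
    cases u.1
    · exact one_mem _
    · exact hy) (d.S1_le u.2.2)⟩
  have hs1 : ∀ a : ↥d.S1, (a : G) * d.s * (a : G)⁻¹ = d.s := fun a => by
    rw [(d.mem_S1.mp a.2).1.2.eq, mul_inv_cancel_right]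
  have hf : Function.Bijective f := by
    constructor
    · rintro ⟨a, u⟩ ⟨b, v⟩ e
      have e' : (bif a then y else 1) * (u : G) = (bif b then y else 1) * v := congrArg Subtype.val e
      cases a <;> cases b <;> simp only [cond_true, cond_false, one_mul] at e'
      · exact Prod.ext rfl (Subtype.ext e')
      · exfalso
        refine hzs ?_
        have := hs1 u
        rw [e', show y * v * d.s * (y * (v : G))⁻¹ = y * ((v : G) * d.s * (v : G)⁻¹) * y⁻¹ by group, hs1, hys] at this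
        exact this
      · exfalso
        refine hzs ?_
        have := hs1 v
        rw [← e', show y * u * d.s * (y * (u : G))⁻¹ = y * ((u : G) * d.s * (u : G)⁻¹) * y⁻¹ by group, hs1, hys] at this
        exact this
      · exact Prod.ext rfl (Subtype.ext (mul_left_cancel e'))
    · rintro ⟨x, hx⟩
      rcases d.S_pair hx with e | e
      · exact ⟨(false, ⟨x, hiff x hx e⟩), Subtype.ext (one_mul x)⟩
      · refine ⟨(true, ⟨y⁻¹ * x, hiff _ (mul_mem (inv_mem hy) hx) ?_⟩), Subtype.ext (mul_inv_cancel_left y x)⟩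
        rw [show y⁻¹ * x * d.s * (y⁻¹ * x)⁻¹ = y⁻¹ * (x * d.s * x⁻¹) * y by group, e, ← hys]
        group
  rw [← Nat.card_congr (Equiv.ofBijective f hf), Nat.card_prod, d.card_S1, Nat.card_eq_fintype_card, Fintype.card_bool]

/-- The members of the second class in the first centralizer. -/
theorem card_T_class : Nat.card {y : G // Commute y z ∧ IsConj d.t y} = 6480 := by
  have h := orbit_mul_stab (centralizer ({z} : Set G)) d.t
  rw [d.card_C] at h
  have hset : ∀ y : G, (∃ c ∈ centralizer ({z} : Set G), c * d.t * c⁻¹ = y) ↔ Commute y z ∧ IsConj d.t y := fun y => by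
    constructor
    · rintro ⟨c, hc, rfl⟩
      exact ⟨((Ctx.mem_C.mp hc).mul_left d.t_C).mul_left (Ctx.mem_C.mp hc).inv_left, isConj_iff.mpr ⟨c, rfl⟩⟩
    · rintro ⟨hy, ht⟩
      obtain ⟨c, hc, e⟩ := d.T_class hy ht
      exact ⟨c, Ctx.mem_C.mpr hc, e⟩
  rw [Nat.card_congr (Equiv.subtypeEquivRight hset), show Nat.card ↥(centralizer ({z} : Set G) ⊓ centralizer ({d.t} : Set G))
    = 512 from d.card_S] at h
  omega

end Sec

end Cfsg.Lib.SuzukiType
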