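import Cfsg.Agent.SuzukiType.Local.Model

/-!
Finite checks in the coded centralizer of a commuting pair of involutions of the two classes.
-/

set_option autoImplicit false
set_option maxRecDepth 100000
set_option maxHeartbeats 8000000

namespace Cfsg.Lib.SuzukiType.Local

open Cfsg.Lib.SuzukiType.Code

/-- The standard image of the second involution. -/
def T0 : T6 := tm (inn 10) (rel 18 false)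

/-- The part centralizing the pair, as products of the two factors. -/
def tri : List (ℕ × ℕ × Bool) := [(0, 0, false), (0, 0, true), (0, 16, false), (0, 16, true), (0, 42, false), (0, 42, true), (0, 58, false), (0, 58, true), (2, 8, false), (2, 8, true), (2, 24, false), (2, 24, true), (2, 34, false), (2, 34, true), (2, 50, false), (2, 50, true), (8, 10, false), (8, 10, true), (8, 26, false), (8, 26, true), (8, 32, false), (8, 32, true), (8, 48, false), (8, 48, true), (10, 2, false), (10, 2, true), (10, 18, false), (10, 18, true), (10, 40, false), (10, 40, true), (10, 56, false), (10, 56, true), (16, 0, false), (16, 0, true), (16, 16, false), (16, 16, true), (16, 42, false), (16, 42, true), (16, 58, false), (16, 58, true), (18, 8, false), (18, 8, true), (18, 24, false),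 (18, 24, true), (18, 34, false), (18, 34, true), (18, 50, false), (18, 50, true), (24, 10, false), (24, 10, true), (24, 26, false), (24, 26, true), (24, 32, false), (24, 32, true), (24, 48, false), (24, 48, true), (26, 2, false), (26, 2, true), (26, 18, false), (26, 18, true), (26, 40, false), (26, 40, true), (26, 56, false), (26, 56, true), (32, 2, false), (32, 2, true), (32, 18, false), (32, 18, true), (32, 40, false), (32, 40, true), (32, 56, false), (32, 56, true), (34, 10, false), (34, 10, true), (34, 26, false), (34, 26, true), (34, 32, false), (34, 32, true), (34, 48, false), (34, 48, true), (40, 8, false), (40, 8, true), (40, 24, false), (40, 24, true), (40, 34, false), (40, 34, true), (40, 50, false), (40, 50, true), (42, 0, false), (42, 0, true), (42, 16, false),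 (42, 16, true), (42, 42, false), (42, 42, true), (42, 58, false), (42, 58, true), (48, 2, false), (48, 2, true), (48, 18, false), (48, 18, true), (48, 40, false), (48, 40, true), (48, 56, false), (48, 56, true), (50, 10, false), (50, 10, true), (50, 26, false), (50, 26, true), (50, 32, false), (50, 32, true), (50, 48, false), (50, 48, true), (56, 8, false), (56, 8, true), (56, 24, false), (56, 24, true), (56, 34, false), (56, 34, true), (56, 50, false), (56, 50, true), (58, 0, false), (58, 0, true), (58, 16, false), (58, 16, true), (58, 42, false), (58, 42, true), (58, 58, false), (58, 58, true)]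

/-- The image of a triple. -/
def img (t : ℕ × ℕ × Bool) : T6 := tm (inn t.1) (rel t.2.1 t.2.2)

/-- The image of the part centralizing the pair. -/
def L1 : List T6 := [⟨1, 2, 4, 8, 16, 32⟩, ⟨1, 2, 68, 8, 16, 32⟩, ⟨1, 2, 21, 8, 16, 97⟩, ⟨1, 2, 85, 8, 16, 97⟩, ⟨1, 67, 46, 73, 81, 32⟩, ⟨1, 67, 110, 73, 81, 32⟩, ⟨1, 67, 62, 73, 81, 97⟩, ⟨1, 67, 126, 73, 81, 97⟩, ⟨1, 67, 76, 72, 16, 32⟩, ⟨1, 67, 12, 72, 16, 32⟩, ⟨1, 67, 93, 72, 16, 97⟩, ⟨1, 67, 29, 72, 16, 97⟩, ⟨1, 2, 39, 9, 81, 32⟩, ⟨1, 2, 103, 9, 81, 32⟩, ⟨1, 2, 55, 9, 81, 97⟩, ⟨1, 2, 119, 9, 81, 97⟩, ⟨1, 3, 79, 73, 16, 32⟩, ⟨1, 3, 15, 73, 16, 32⟩, ⟨1, 3, 94, 73, 16, 97⟩, ⟨1, 3, 30, 73, 16, 97⟩, ⟨1, 66, 37, 8, 81, 32⟩, ⟨1, 66, 101, 8, 81, 32⟩, ⟨1, 66, 53, 8, 81, 97⟩, ⟨1, 66, 117, 8, 81, 97⟩, ⟨1, 66, 70, 9, 16, 32⟩, ⟨1,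 66, 6, 9, 16, 32⟩, ⟨1, 66, 87, 9, 16, 97⟩, ⟨1, 66, 23, 9, 16, 97⟩, ⟨1, 3, 109, 72, 81, 32⟩, ⟨1, 3, 45, 72, 81, 32⟩, ⟨1, 3, 125, 72, 81, 97⟩, ⟨1, 3, 61, 72, 81, 97⟩, ⟨1, 2, 4, 8, 16, 96⟩, ⟨1, 2, 68, 8, 16, 96⟩, ⟨1, 2, 21, 8, 16, 33⟩, ⟨1, 2, 85, 8, 16, 33⟩, ⟨1, 67, 110, 73, 81, 96⟩, ⟨1, 67, 46, 73, 81, 96⟩, ⟨1, 67, 126, 73, 81, 33⟩, ⟨1, 67, 62, 73, 81, 33⟩, ⟨1, 67, 76, 72, 16, 96⟩, ⟨1, 67, 12, 72, 16, 96⟩, ⟨1, 67, 93, 72, 16, 33⟩, ⟨1, 67, 29, 72, 16, 33⟩, ⟨1, 2, 103, 9, 81, 96⟩, ⟨1, 2, 39, 9, 81, 96⟩, ⟨1, 2, 119, 9, 81, 33⟩, ⟨1, 2, 55, 9, 81, 33⟩, ⟨1, 3, 79, 73, 16, 96⟩, ⟨1, 3, 15, 73, 16, 96⟩, ⟨1, 3, 94, 73, 16, 33⟩, ⟨1, 3, 30, 73, 16, 33⟩, ⟨1, 66, 101, 8, 81, 96⟩, ⟨1, 66, 37, 8, 81, 96⟩, ⟨1, 66, 117, 8, 81, 33⟩, ⟨1, 66, 53, 8, 81, 33⟩, ⟨1, 66, 70, 9, 16, 96⟩, ⟨1, 66,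 6, 9, 16, 96⟩, ⟨1, 66, 87, 9, 16, 33⟩, ⟨1, 66, 23, 9, 16, 33⟩, ⟨1, 3, 45, 72, 81, 96⟩, ⟨1, 3, 109, 72, 81, 96⟩, ⟨1, 3, 61, 72, 81, 33⟩, ⟨1, 3, 125, 72, 81, 33⟩, ⟨1, 2, 6, 73, 80, 32⟩, ⟨1, 2, 70, 73, 80, 32⟩, ⟨1, 2, 87, 73, 80, 97⟩, ⟨1, 2, 23, 73, 80, 97⟩, ⟨1, 67, 45, 8, 17, 32⟩, ⟨1, 67, 109, 8, 17, 32⟩, ⟨1, 67, 125, 8, 17, 97⟩, ⟨1, 67, 61, 8, 17, 97⟩, ⟨1, 67, 79, 9, 80, 32⟩, ⟨1, 67, 15, 9, 80, 32⟩, ⟨1, 67, 30, 9, 80, 97⟩, ⟨1, 67, 94, 9, 80, 97⟩, ⟨1, 2, 37, 72, 17, 32⟩, ⟨1, 2, 101, 72, 17, 32⟩, ⟨1, 2, 117, 72, 17, 97⟩, ⟨1, 2, 53, 72, 17, 97⟩, ⟨1, 3, 12, 8, 80, 32⟩, ⟨1, 3, 76, 8, 80, 32⟩, ⟨1, 3, 93, 8, 80, 97⟩, ⟨1, 3, 29, 8, 80, 97⟩, ⟨1, 66, 103, 73, 17, 32⟩, ⟨1, 66, 39, 73, 17, 32⟩, ⟨1, 66, 55, 73, 17, 97⟩, ⟨1, 66, 119, 73, 17, 97⟩, ⟨1, 66, 4, 72, 80, 32⟩, ⟨1, 66, 68,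 72, 80, 32⟩, ⟨1, 66, 85, 72, 80, 97⟩, ⟨1, 66, 21, 72, 80, 97⟩, ⟨1, 3, 46, 9, 17, 32⟩, ⟨1, 3, 110, 9, 17, 32⟩, ⟨1, 3, 126, 9, 17, 97⟩, ⟨1, 3, 62, 9, 17, 97⟩, ⟨1, 2, 6, 73, 80, 96⟩, ⟨1, 2, 70, 73, 80, 96⟩, ⟨1, 2, 87, 73, 80, 33⟩, ⟨1, 2, 23, 73, 80, 33⟩, ⟨1, 67, 109, 8, 17, 96⟩, ⟨1, 67, 45, 8, 17, 96⟩, ⟨1, 67, 61, 8, 17, 33⟩, ⟨1, 67, 125, 8, 17, 33⟩, ⟨1, 67, 79, 9, 80, 96⟩, ⟨1, 67, 15, 9, 80, 96⟩, ⟨1, 67, 30, 9, 80, 33⟩, ⟨1, 67, 94, 9, 80, 33⟩, ⟨1, 2, 101, 72, 17, 96⟩, ⟨1, 2, 37, 72, 17, 96⟩, ⟨1, 2, 53, 72, 17, 33⟩, ⟨1, 2, 117, 72, 17, 33⟩, ⟨1, 3, 12, 8, 80, 96⟩, ⟨1, 3, 76, 8, 80, 96⟩, ⟨1, 3, 93, 8, 80, 33⟩, ⟨1, 3, 29, 8, 80, 33⟩, ⟨1, 66, 39, 73, 17, 96⟩, ⟨1, 66, 103, 73, 17, 96⟩, ⟨1, 66, 119, 73, 17, 33⟩, ⟨1, 66, 55, 73, 17, 33⟩, ⟨1, 66, 4, 72, 80, 96⟩, ⟨1, 66, 68, 72,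 80, 96⟩, ⟨1, 66, 85, 72, 80, 33⟩, ⟨1, 66, 21, 72, 80, 33⟩, ⟨1, 3, 110, 9, 17, 96⟩, ⟨1, 3, 46, 9, 17, 96⟩, ⟨1, 3, 62, 9, 17, 33⟩, ⟨1, 3, 126, 9, 17, 33⟩]

/-- Its involutions, with the identity. -/
def I1 : List T6 := [⟨1, 2, 4, 8, 16, 32⟩, ⟨1, 67, 15, 9, 80, 32⟩, ⟨1, 66, 37, 8, 81, 96⟩, ⟨1, 3, 15, 73, 16, 96⟩, ⟨1, 67, 61, 8, 17, 97⟩, ⟨1, 66, 119, 73, 17, 33⟩, ⟨1, 3, 79, 73, 16, 96⟩, ⟨1, 67, 109, 8, 17, 96⟩, ⟨1, 3, 29, 8, 80, 97⟩, ⟨1, 2, 37, 72, 17, 96⟩, ⟨1, 66, 87, 9, 16, 97⟩, ⟨1, 67, 46, 73, 81, 32⟩, ⟨1, 3, 29, 8, 80, 33⟩, ⟨1, 3, 126, 9, 17, 33⟩, ⟨1, 3, 109, 72, 81, 32⟩, ⟨1, 3, 62, 9, 17, 33⟩, ⟨1, 2, 53, 72, 17, 97⟩, ⟨1, 66, 55, 73, 17, 33⟩, ⟨1, 67, 93, 72, 16, 33⟩, ⟨1, 2, 68, 8, 16, 32⟩, ⟨1, 67, 29, 72, 16, 33⟩, ⟨1, 66, 101, 8, 81, 96⟩, ⟨1, 67, 125, 8, 17, 97⟩, ⟨1,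 67, 62, 73, 81, 97⟩, ⟨1, 66, 103, 73, 17, 32⟩, ⟨1, 66, 53, 8, 81, 33⟩, ⟨1, 67, 126, 73, 81, 97⟩, ⟨1, 66, 117, 8, 81, 33⟩, ⟨1, 3, 61, 72, 81, 97⟩, ⟨1, 66, 23, 9, 16, 97⟩, ⟨1, 67, 110, 73, 81, 32⟩, ⟨1, 2, 119, 9, 81, 33⟩, ⟨1, 2, 39, 9, 81, 96⟩, ⟨1, 66, 39, 73, 17, 32⟩, ⟨1, 2, 23, 73, 80, 97⟩, ⟨1, 2, 55, 9, 81, 33⟩, ⟨1, 3, 45, 72, 81, 32⟩, ⟨1, 2, 23, 73, 80, 33⟩, ⟨1, 3, 46, 9, 17, 32⟩, ⟨1, 67, 45, 8, 17, 96⟩, ⟨1, 2, 117, 72, 17, 97⟩, ⟨1, 66, 68, 72, 80, 96⟩, ⟨1, 67, 79, 9, 80, 96⟩, ⟨1, 2, 87, 73, 80, 97⟩, ⟨1, 3, 125, 72, 81, 97⟩, ⟨1, 66, 68, 72, 80, 32⟩, ⟨1, 67, 79, 9, 80, 32⟩, ⟨1, 2, 87, 73, 80, 33⟩, ⟨1, 3, 93, 8, 80, 97⟩, ⟨1, 66, 4, 72, 80, 96⟩, ⟨1, 2, 103, 9, 81, 96⟩, ⟨1, 2, 101, 72, 17, 96⟩, ⟨1, 67, 15, 9, 80, 96⟩, ⟨1, 3, 93, 8, 80, 33⟩, ⟨1, 66, 4, 72, 80, 32⟩, ⟨1, 3,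 110, 9, 17, 32⟩]

/-- Its involutions of the first class, outside the centre. -/
def Z1 : List T6 := [⟨1, 67, 46, 73, 81, 32⟩, ⟨1, 3, 126, 9, 17, 33⟩, ⟨1, 3, 62, 9, 17, 33⟩, ⟨1, 2, 68, 8, 16, 32⟩, ⟨1, 67, 62, 73, 81, 97⟩, ⟨1, 67, 126, 73, 81, 97⟩, ⟨1, 67, 110, 73, 81, 32⟩, ⟨1, 3, 46, 9, 17, 32⟩, ⟨1, 66, 68, 72, 80, 96⟩, ⟨1, 66, 68, 72, 80, 32⟩, ⟨1, 66, 4, 72, 80, 96⟩, ⟨1, 66, 4, 72, 80, 32⟩, ⟨1, 3, 110, 9, 17, 32⟩]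

/-- Its centre. -/
def M1 : List T6 := [⟨1, 2, 4, 8, 16, 32⟩, ⟨1, 3, 15, 73, 16, 96⟩, ⟨1, 3, 79, 73, 16, 96⟩, ⟨1, 66, 87, 9, 16, 97⟩, ⟨1, 67, 93, 72, 16, 33⟩, ⟨1, 2, 68, 8, 16, 32⟩, ⟨1, 67, 29, 72, 16, 33⟩, ⟨1, 66, 23, 9, 16, 97⟩]

/-- The candidates for a generator of the four-group. -/
def UC : List T6 := [⟨1, 3, 15, 73, 16, 96⟩, ⟨1, 3, 79, 73, 16, 96⟩, ⟨1, 67, 93, 72, 16, 33⟩, ⟨1, 67, 29, 72, 16, 33⟩]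

/-- The involutions exchanging the pair. -/
def YI : List T6 := [⟨65, 2, 70, 27, 16, 34⟩, ⟨65, 2, 4, 26, 80, 98⟩, ⟨65, 2, 6, 27, 16, 98⟩, ⟨65, 66, 21, 90, 16, 99⟩, ⟨65, 2, 4, 26, 80, 34⟩, ⟨65, 66, 85, 90, 16, 35⟩, ⟨65, 66, 87, 91, 80, 99⟩, ⟨65, 66, 87, 91, 80, 35⟩]

/-- An involution exchanging the pair. -/
def Y0 : T6 := ⟨65, 2, 70, 27, 16, 34⟩

/-- A word for it. -/
def Yw : List ℕ := [0, 1, 2, 1, 0, 1, 1, 0, 2, 2, 0, 1, 0]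

/-- The image of the centralizer of the two involutions. -/
def LS : List T6 := L1 ++ L1.map (tm Y0)

/-- Conjugation by a noncentral involution of the extraspecial group. -/
def innZ (a : T6) : Bool := (List.range' 1 63).any fun v => !qB v && decide (a = inn v)

/-- An involution of the first class, outside the centre. -/
def isZ (a : T6) : Bool := (ivt a == (32, 24)) || innZ a

/-- An involution of the second class. -/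
def isT (a : T6) : Bool := ivt a == (16, 4)

/-- Preimages are of square one. -/
def sq1 (a : T6) : Bool := decide (tm a a = t1) && (decide (a = t1) || isZ a || isT a)

/-- Preimages of two involutions commute. -/
def xcomm (a b : T6) : Bool := decide (tm a b = tm b a) && sq1 (tm a b)

/-- Preimages of two involutions multiply to a twisted product. -/
def xanti (a b : T6) : Bool := decide (tm a b = tm b a) && !sq1 (tm a b)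

end Cfsg.Lib.SuzukiType.Local
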