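import Cfsg.Agent.SuzukiType.Local.Checks

/-!
The finite checks.
-/

set_option autoImplicit false
set_option maxRecDepth 100000
set_option maxHeartbeats 8000000
set_option synthInstance.maxSize 4000

namespace Cfsg.Lib.SuzukiType.Local

open Cfsg.Lib.SuzukiType.Code

theorem chk_tri : (decide (tri.map img = L1) && tri.all fun t => decide (t.1 < 64) && !pB 1 t.1 && decide (t.2.1 ∈ W)) = true := by
  decide +kernel

theorem chk_nodup : L1.Nodup ∧ L1.length = 128 := by decide +kernel

theorem chk_L1 : (L1.all fun a => (decide (tm T0 a = tm a T0)) && (sq1 a == decide (a ∈ I1)) &&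
    (decide (a ∈ M1) == I1.all fun b => decide (tm a b = tm b a)) && Nat.beq (ev a 1) 1) = true := by decide +kernel

theorem chk_gen : (L1.all fun a => I1.any fun b => decide (tm b a ∈ I1)) = true := by decide +kernel

theorem chk_I1 : (I1.all fun a => decide (a ∈ L1) && (isZ a == decide (a ∈ Z1)) &&
    (isT a == !decide (a ∈ t1 :: Z1))) = true := by decide +kernel

theorem chk_M1 : (M1.all fun a => decide (a ∈ I1) && (I1.all fun b => xcomm a b) &&
    (decide (a ∈ UC) == !decide (a ∈ [t1, inn 1, T0, tm T0 (inn 1)])) && (isT a == !decide (a ∈ [t1, inn 1]))) = true := by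
  decide +kernel

theorem chk_sizes : M1.Nodup ∧ M1.length = 8 ∧ Z1.Nodup ∧ Z1.length = 13 ∧ YI.Nodup ∧ YI.length = 8 ∧
    inn 1 ∈ Z1 ∧ inn 1 ∈ M1 ∧ T0 ∈ M1 ∧ t1 ∈ M1 ∧ Y0 ∈ YI ∧ isT T0 = true := by decide +kernel

theorem chk_UC : (UC.all fun u => decide (u ∈ M1) && decide (tm T0 u ∈ UC) && !decide (tm u Y0 = tm Y0 u)) = true := by
  decide +kernel

theorem chk_Y0 : (Nat.beq (ev Y0 1) 65 && xcomm Y0 T0 && Yw.all (· < g1.length) &&
    (List.range 64).all fun x => Nat.beq (wact g1 Yw x) (ev Y0 x &&& 63)) = true := by decide +kernel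

theorem chk_YI : ((L1.map (tm Y0)).all fun a => (sq1 a == decide (a ∈ YI))) = true := by decide +kernel

theorem chk_YI_class : (YI.all fun g => decide (g ∈ L1.map (tm Y0)) && isT g && !isZ g &&
    L1.any fun h => decide (tm h Y0 = tm g h) || decide (tm h Y0 = tm (tm T0 g) h)) = true := by decide +kernel

theorem chk_Y_anti : (I1.any fun c => xanti c Y0) = true := by decide +kernel

theorem chk_Y_Z : (Z1.all fun x => (!decide (tm x Y0 = tm Y0 x) || xanti x Y0) && !decide (tm x Y0 = tm (tm T0 Y0) x)) = true := by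
  decide +kernel

theorem chk_sqr : (L1.all fun a => UC.all fun u => !decide (tm a a ∈ [T0, u, tm T0 u])) = true := by decide +kernel

theorem chk_split : (UC.all fun u => I1.all fun a => decide (a ∈ Z1) || decide (a = t1) ||
    [T0, u, tm T0 u].any fun v => decide (tm v a ∈ t1 :: Z1)) = true := by decide +kernel

theorem chk_ZU : (UC.all fun u => [T0, u, tm T0 u].all fun v => (t1 :: Z1).all fun x => isT (tm x v)) = true := by
  decide +kernel

theorem chk_ZZ : ((t1 :: Z1).all fun x => (t1 :: Z1).all fun y => UC.all fun u =>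
    !decide (tm x y ∈ [T0, u, tm T0 u])) = true := by decide +kernel

/-- The noncentral involutions of the first class. -/
def Zn : List T6 := Z1.filter fun a => !decide (a = inn 1)

theorem chk_rel : (Zn.all fun a => xcomm a (inn 1) && xcomm a a && Zn.all fun b => Zn.all fun c =>
    !xcomm a b || !xcomm b c || xcomm a c) = true := by decide +kernel

theorem chk_two : (Zn.any fun x0 => Zn.any fun x1 => !xcomm x0 x1 && Zn.all fun a => xcomm a x0 || xcomm a x1) = true := by
  decide +kernel

theorem chk_shift : (Zn.all fun x => (I1.any fun h => decide (tm h x = tm (tm x (inn 1)) h)) && I1.any fun h => xanti h x) = true := by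
  decide +kernel

theorem chk_CF : (Zn.all fun x => (I1 ++ YI).all fun a => !(isT a) || !(xcomm a (inn 1)) ||
    (Zn.any fun w => xcomm w x && !xcomm a w) || UC.all fun u => [t1, T0, u, tm T0 u].any fun v =>
      (t1 :: Z1).any fun f => decide (a = tm v f) && (decide (f ∈ [t1, inn 1]) || xcomm f x)) = true := by
  decide +kernel

theorem chk_P : (Z1.countP fun _ => true) * 2 +
    ((Z1.flatMap fun a => Z1.map fun b => (a, b)).countP fun u => !decide (u.1 = u.2) && xanti u.1 u.2) * 4 = 122 := by
  decide +kernel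

end Cfsg.Lib.SuzukiType.Local
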