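import Cfsg.Agent.SuzukiType.Local.Model
import Cfsg.Agent.SuzukiType.Classes

/-!
Coordinates on the extraspecial group and the action of the involution centralizer on them.
-/

set_option autoImplicit false
set_option maxRecDepth 100000
set_option maxHeartbeats 1000000
set_option linter.unusedSectionVars false

namespace Cfsg.Lib.SuzukiType.Local

open Subgroup Cfsg.Lib.SuzukiType Cfsg.Lib.SuzukiType.Code

universe u

/-- The sign collected when a generator moves leftwards to its place. -/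
def dlt : ℕ → ℕ → ℕ → Bool
  | 0, _, _ => false
  | k + 1, i, a => bif Nat.beq k i then a.testBit i && qB (2 ^ i) else
      dlt k i a ^^ (a.testBit k && pB (2 ^ k) (2 ^ i))

/-- Collecting a product generator by generator. -/
def pk : ℕ → ℕ → ℕ → ℕ
  | 0, a, b => qm a (b &&& 64)
  | k + 1, a, b => qm (pk k a b) (((b >>> k) &&& 1) * 2 ^ k)

theorem dlt_qm : ∀ i < 6, ∀ a < 128, qm a (2 ^ i) = (a ^^^ 2 ^ i ^^^ (bif dlt 6 i a then 64 else 0)) ∧
    qm a (2 ^ i) < 128 := by decide +kernel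

theorem pk_qm : ((List.range 128).all fun a => (List.range 128).all fun b =>
    Nat.beq (pk 6 a b) (qm a b) && Nat.ble (qm a b + 1) 128) = true := by decide +kernel

theorem qm_spec {a b : ℕ} (ha : a < 128) (hb : b < 128) : pk 6 a b = qm a b ∧ qm a b < 128 := by
  have h := List.all_eq_true.mp (List.all_eq_true.mp pk_qm a (List.mem_range.mpr ha)) b (List.mem_range.mpr hb)
  rw [Bool.and_eq_true, Nat.beq_eq, Nat.ble_eq] at h
  exact ⟨h.1, h.2⟩

theorem qm_zero : ∀ a < 128, qm a 0 = a ∧ qm a 64 = a ^^^ 64 ∧ qm 64 a = a ^^^ 64 ∧ (a ^^^ 64) < 128 := by decide +kernel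

theorem code_facts : ∀ c < 128, c &&& 63 < 64 ∧ (c ^^^ 64) &&& 63 = c &&& 63 ∧
    (c = (c &&& 63) ^^^ (c &&& 64)) ∧ (c &&& 64 = 0 ∨ c &&& 64 = 64) ∧ (qB c = qB (c &&& 63)) ∧
    (c &&& 64 = bif c.testBit 6 then 64 else 0) := by decide +kernel

namespace Frm

variable {G : Type u} [Group G] [Finite G] {z : G} (p : Pt z)

/-- A lift of each basis vector, the first being the distinguished conjugate. -/
noncomputable def gen (i : ℕ) : G :=
  if i = 0 then p.s else if h : i < 6 then (p.π_surj (2 ^ i) (by interval_cases i <;> norm_num)).choose else 1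

theorem gen_spec (i : ℕ) (hi : i < 6) : gen p i ∈ p.Q ∧ p.π (gen p i) = 2 ^ i := by
  rw [gen]
  split
  · subst i; exact ⟨p.hs, by rw [p.πs]; rfl⟩
  · exact (p.π_surj (2 ^ i) (by interval_cases i <;> norm_num)).choose_spec

/-- A power of the central involution. -/
def zb (_p : Pt z) (b : Bool) : G := bif b then z else 1

theorem zb_xor (a b : Bool) : zb p (a ^^ b) = zb p a * zb p b := by
  cases a <;> cases b <;> simp [zb, p.X.zz]

theorem zb_mem (b : Bool) : zb p b ∈ p.Q := by
  cases b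
  · exact one_mem _
  · exact p.X.mem

theorem zb_comm (b : Bool) {x : G} (hx : Commute x z) : Commute x (zb p b) := by
  cases b
  · exact Commute.one_right x
  · exact hx

theorem π_zb (b : Bool) : p.π (zb p b) = 0 := by
  cases b
  · exact p.toCtx.pi_one
  · exact p.toCtx.pi_z

/-- A power of a generator. -/
noncomputable def gp (i a : ℕ) : G := bif a.testBit i then gen p i else 1

/-- An ordered product. -/
noncomputable def P : ℕ → ℕ → G
  | 0, _ => 1
  | k + 1, a => P k a * gp p k a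

theorem gp_mem {i : ℕ} (hi : i < 6) (a : ℕ) : gp p i a ∈ p.Q := by
  rw [gp]
  cases a.testBit i
  · exact one_mem _
  · exact (gen_spec p i hi).1

theorem P_mem : ∀ {k : ℕ}, k ≤ 6 → ∀ a, P p k a ∈ p.Q
  | 0, _, _ => one_mem _
  | _ + 1, hk, a => mul_mem (P_mem (Nat.le_of_succ_le hk) a) (gp_mem p hk a)

theorem swap_gen {i j : ℕ} (hi : i < 6) (hj : j < 6) :
    gen p j * gen p i = zb p (pB (2 ^ j) (2 ^ i)) * (gen p i * gen p j) := by
  obtain ⟨mi, ei⟩ := gen_spec p i hi
  obtain ⟨mj, ej⟩ := gen_spec p j hj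
  have hc := p.π_comm _ mj _ mi
  rw [ej, ei] at hc
  cases hp : pB (2 ^ j) (2 ^ i)
  · simp [zb, (hc.mpr hp).eq]
  · have hn : ¬ Commute (gen p j) (gen p i) := fun h => by rw [hc.mp h] at hp; exact Bool.false_ne_true hp
    have := p.X.not_commute_conj mj mi hn
    rw [mul_inv_eq_iff_eq_mul] at this
    simp [zb, this, mul_assoc]

theorem sq_gen {i : ℕ} (hi : i < 6) : gen p i * gen p i = zb p (qB (2 ^ i)) := by
  obtain ⟨mi, ei⟩ := gen_spec p i hi
  have hs := p.π_sq _ mi
  rw [ei] at hs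
  rcases p.X.sq _ mi with e | e <;> cases hq : qB (2 ^ i)
  · simp [zb, e]
  · rw [hs.mp e] at hq; exact absurd hq Bool.false_ne_true
  · exact absurd ((hs.mpr hq).symm.trans e) (Ne.symm p.X.ne)
  · simp [zb, e]

theorem gp_xor_self {i a : ℕ} (hi : i < 6) :
    gp p i a * gen p i = zb p (a.testBit i && qB (2 ^ i)) * gp p i (a ^^^ 2 ^ i) := by
  rw [gp, gp, Nat.testBit_xor, Nat.testBit_two_pow_self]
  cases a.testBit i
  · simp [zb]
  · simp [sq_gen p hi]

theorem gp_xor_ne {i k a : ℕ} (h : k ≠ i) : gp p k (a ^^^ 2 ^ i) = gp p k a := by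
  rw [gp, gp, Nat.testBit_xor, Nat.testBit_two_pow, decide_eq_false (Ne.symm h), Bool.xor_false]

theorem P_low {i : ℕ} : ∀ {k}, k ≤ i → ∀ a, P p k (a ^^^ 2 ^ i) = P p k a
  | 0, _, _ => rfl
  | k + 1, hk, a => by rw [P, P, P_low (Nat.le_of_succ_le hk), gp_xor_ne p (by omega)]

theorem P_gen {i : ℕ} (hi : i < 6) : ∀ k, k ≤ 6 → i < k → ∀ a,
    P p k a * gen p i = zb p (dlt k i a) * P p k (a ^^^ 2 ^ i)
  | 0, _, h, _ => absurd h (Nat.not_lt_zero _)
  | k + 1, hk, hik, a => by
    rw [P, P, dlt]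
    rcases eq_or_ne k i with rfl | hne
    · rw [show Nat.beq k k = true from Nat.beq_refl k, cond_true, mul_assoc, gp_xor_self p hi, ← mul_assoc,
        (zb_comm p _ (p.X.central _ (P_mem p (Nat.le_of_succ_le hk) a))).eq, mul_assoc, P_low p le_rfl]
    · have hb : Nat.beq k i = false := by
        cases h : Nat.beq k i
        · rfl
        · exact absurd (Nat.eq_of_beq_eq_true h) hne
      rw [hb, cond_false, gp_xor_ne p hne, zb_xor]
      have hk6 : k < 6 := hk
      have hswap : gp p k a * gen p i = zb p (a.testBit k && pB (2 ^ k) (2 ^ i)) * (gen p i * gp p k a) := by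
        rw [gp]
        cases a.testBit k
        · simp [zb]
        · simpa using swap_gen p hi hk6
      have ih := P_gen hi k (Nat.le_of_succ_le hk) (by omega) a
      set b := zb p (a.testBit k && pB (2 ^ k) (2 ^ i))
      set b' := zb p (dlt k i a)
      have hc : Commute (P p k a) b := zb_comm p _ (p.X.central _ (P_mem p (Nat.le_of_succ_le hk) a))
      have hbb : Commute b b' := zb_comm p _ (p.X.central _ (zb_mem p _))
      calc P p k a * gp p k a * gen p i = P p k a * b * (gen p i * gp p k a) := by rw [mul_assoc, hswap, ← mul_assoc]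
        _ = b * (P p k a * gen p i) * gp p k a := by rw [hc.eq]; group
        _ = b * b' * P p k (a ^^^ 2 ^ i) * gp p k a := by rw [ih]; group
        _ = _ := by rw [hbb.eq, mul_assoc (b' * b)]

/-- The element with a given code. -/
noncomputable def elt (c : ℕ) : G := zb p (c.testBit 6) * P p 6 c

theorem elt_mem (c : ℕ) : elt p c ∈ p.Q := mul_mem (zb_mem p _) (P_mem p le_rfl c)

theorem elt_gen {i a : ℕ} (hi : i < 6) (ha : a < 128) : elt p a * gen p i = elt p (qm a (2 ^ i)) := by
  rw [(dlt_qm i hi a ha).1, elt, elt, mul_assoc, P_gen p hi 6 le_rfl hi, ← mul_assoc, ← zb_xor]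
  have h6 : (2 ^ i).testBit 6 = false := by interval_cases i <;> decide
  have hlow : ∀ b, b < 6 → ∀ v : Bool, (bif v then 64 else 0 : ℕ).testBit b = false := by decide
  congr 1
  · rw [Nat.testBit_xor, Nat.testBit_xor, h6]
    cases dlt 6 i a <;> simp [show Nat.testBit 64 6 = true from rfl]
  · have hP : ∀ k, k ≤ 6 → P p k (a ^^^ 2 ^ i) = P p k (a ^^^ 2 ^ i ^^^ bif dlt 6 i a then 64 else 0) := by
      intro k hk
      induction k with
      | zero => rfl
      | succ k ih =>
        rw [P, P, ih (Nat.le_of_succ_le hk), gp, gp, Nat.testBit_xor (a ^^^ 2 ^ i), hlow k hk, Bool.xor_false]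
    exact hP 6 le_rfl

theorem elt_zero : elt p 0 = 1 := by simp [elt, P, gp, zb]

theorem elt_64 : elt p 64 = z := by
  simp [elt, P, gp, zb, show Nat.testBit 64 6 = true from rfl, show Nat.testBit 64 0 = false from rfl,
    show Nat.testBit 64 1 = false from rfl, show Nat.testBit 64 2 = false from rfl,
    show Nat.testBit 64 3 = false from rfl, show Nat.testBit 64 4 = false from rfl,
    show Nat.testBit 64 5 = false from rfl]

theorem elt_flip {a : ℕ} : elt p (a ^^^ 64) = z * elt p a := by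
  have h : ∀ k, k ≤ 6 → P p k (a ^^^ 64) = P p k a := fun k hk => P_low p (i := 6) hk a
  rw [elt, elt, h 6 le_rfl, Nat.testBit_xor, show Nat.testBit 64 6 = true from rfl]
  cases a.testBit 6
  · simp [zb]
  · rw [Bool.true_xor, show zb p (!true) = 1 from rfl, show zb p true = z from rfl, one_mul, ← mul_assoc, p.X.zz, one_mul]

theorem elt_mul {a b : ℕ} (ha : a < 128) (hb : b < 128) : elt p a * elt p b = elt p (qm a b) := by
  have key : ∀ k, k ≤ 6 → pk k a b < 128 ∧ elt p a * (zb p (b.testBit 6) * P p k b) = elt p (pk k a b) := by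
    intro k hk
    induction k with
    | zero =>
      rw [pk, P, mul_one, (code_facts b hb).2.2.2.2.2]
      cases b.testBit 6
      · rw [cond_false, (qm_zero a ha).1]; exact ⟨ha, by simp [zb]⟩
      · rw [cond_true, (qm_zero a ha).2.1, elt_flip]
        exact ⟨(qm_zero a ha).2.2.2, (p.X.central _ (elt_mem p a)).eq⟩
    | succ k ih =>
      obtain ⟨h1, h2⟩ := ih (Nat.le_of_succ_le hk)
      have hbit : (b >>> k) &&& 1 = bif b.testBit k then 1 else 0 := by
        rw [Nat.and_one_is_mod, Nat.testBit, Nat.one_and_eq_mod_two]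
        rcases Nat.mod_two_eq_zero_or_one (b >>> k) with e | e <;> rw [e] <;> rfl
      rw [pk, P, gp, hbit, ← mul_assoc (zb p _), ← mul_assoc, h2]
      cases b.testBit k
      · rw [cond_false, cond_false, Nat.zero_mul, mul_one, (qm_zero _ h1).1]; exact ⟨h1, rfl⟩
      · rw [cond_true, cond_true, Nat.one_mul]; exact ⟨(dlt_qm k hk _ h1).2, elt_gen p hk h1⟩
  rw [← (qm_spec ha hb).1]
  exact (key 6 le_rfl).2

theorem P_π : ∀ {k}, k ≤ 6 → ∀ a, p.π (P p k a) = a % 2 ^ k
  | 0, _, a => by rw [P, p.toCtx.pi_one, pow_zero, Nat.mod_one]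
  | k + 1, hk, a => by
    rw [P, p.π_mul _ (P_mem p (Nat.le_of_succ_le hk) a) _ (gp_mem p hk a), P_π (Nat.le_of_succ_le hk), gp]
    refine Nat.eq_of_testBit_eq fun j => ?_
    rw [Nat.testBit_xor, Nat.testBit_mod_two_pow, Nat.testBit_mod_two_pow]
    cases hb : a.testBit k
    · rw [cond_false, p.toCtx.pi_one, Nat.zero_testBit]
      by_cases h1 : j < k
      · simp [h1, show j < k + 1 by omega]
      · by_cases h2 : j = k
        · subst h2; simp [hb]
        · simp [h1, show ¬ j < k + 1 by omega]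
    · rw [cond_true, (gen_spec p k hk).2, Nat.testBit_two_pow]
      by_cases h1 : j < k
      · simp [h1, show j < k + 1 by omega, show k ≠ j by omega]
      · by_cases h2 : j = k
        · subst h2; simp [hb]
        · simp [h1, show ¬ j < k + 1 by omega, show k ≠ j by omega]

theorem π_elt {c : ℕ} : p.π (elt p c) = c &&& 63 := by
  rw [elt, p.π_mul _ (zb_mem p _) _ (P_mem p le_rfl c), π_zb, P_π p le_rfl, Nat.zero_xor]
  exact (Nat.and_two_pow_sub_one_eq_mod c 6).symm

theorem elt_inj {a b : ℕ} (ha : a < 128) (hb : b < 128) (h : elt p a = elt p b) : a = b := by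
  have e := congrArg p.π h
  rw [π_elt, π_elt] at e
  obtain ⟨-, -, a1, a2, -, -⟩ := code_facts a ha
  obtain ⟨-, -, b1, b2, -, -⟩ := code_facts b hb
  rw [a1, b1, e]
  rcases a2 with p1 | p1 <;> rcases b2 with p2 | p2 <;> rw [p1, p2]
  · exfalso
    have : b = a ^^^ 64 := by rw [a1, b1, e, p1, p2, Nat.xor_zero]
    rw [this, elt_flip] at h
    exact p.X.ne (mul_eq_right.mp h.symm)
  · exfalso
    have : b = a ^^^ 64 := by rw [a1, b1, e, p1, p2, Nat.xor_assoc, Nat.xor_self]
    rw [this, elt_flip] at h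
    exact p.X.ne (mul_eq_right.mp h.symm)

theorem exists_code {q : G} (hq : q ∈ p.Q) : ∃ c, c < 128 ∧ elt p c = q := by
  have hx := p.π_lt q
  have hx' : p.π q &&& 63 = p.π q := by
    rw [Nat.and_two_pow_sub_one_eq_mod _ 6]; exact Nat.mod_eq_of_lt hx
  rcases p.toCtx.pi_eq hq (elt_mem p (p.π q)) (by rw [π_elt, hx']) with e | e
  · exact ⟨_, by omega, e.symm⟩
  · exact ⟨_, (qm_zero _ (by omega)).2.2.2, (elt_flip p).trans e.symm⟩

/-- The code of an element of the extraspecial group. -/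
noncomputable def cod (q : G) : ℕ := @dite ℕ (q ∈ p.Q) (Classical.propDecidable _) (fun h => (exists_code p h).choose) fun _ => 0

theorem cod_spec {q : G} (hq : q ∈ p.Q) : cod p q < 128 ∧ elt p (cod p q) = q := by
  classical
  rw [cod, dif_pos hq]; exact (exists_code p hq).choose_spec

theorem cod_lt (q : G) : cod p q < 128 := by
  by_cases hq : q ∈ p.Q
  · exact (cod_spec p hq).1
  · classical
    rw [cod, dif_neg hq]; norm_num

theorem cod_elt {c : ℕ} (hc : c < 128) : cod p (elt p c) = c :=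
  elt_inj p (cod_lt p _) hc (cod_spec p (elt_mem p c)).2

theorem cod_mul {a b : G} (ha : a ∈ p.Q) (hb : b ∈ p.Q) : cod p (a * b) = qm (cod p a) (cod p b) := by
  conv_lhs => rw [← (cod_spec p ha).2, ← (cod_spec p hb).2, elt_mul p (cod_lt p a) (cod_lt p b)]
  exact cod_elt p (qm_spec (cod_lt p a) (cod_lt p b)).2

theorem cod_one : cod p 1 = 0 := by rw [← elt_zero p]; exact cod_elt p (by norm_num)

theorem cod_z : cod p z = 64 := (congrArg (cod p) (elt_64 p)).symm.trans (cod_elt p (by norm_num))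

theorem cod_π {q : G} (hq : q ∈ p.Q) : p.π q = cod p q &&& 63 := by
  conv_lhs => rw [← (cod_spec p hq).2]
  exact π_elt p

/-- The automorphism induced by an element commuting with the central involution. -/
noncomputable def tup (x : G) : T6 :=
  let f := fun i => cod p (x * gen p i * x⁻¹)
  ⟨f 0, f 1, f 2, f 3, f 4, f 5⟩

theorem ev_tup {x : G} (hx : Commute x z) {c : ℕ} (hc : c < 128) :
    ev (tup p x) c = cod p (x * elt p c * x⁻¹) := by
  have hg : ∀ i, i < 6 → ∀ a, x * gp p i a * x⁻¹ ∈ p.Q ∧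
      cod p (x * gp p i a * x⁻¹) = ((a >>> i) &&& 1) * cod p (x * gen p i * x⁻¹) := by
    intro i hi a
    refine ⟨p.toCtx.norm hx (gp_mem p hi a), ?_⟩
    rw [gp, Nat.and_one_is_mod]
    have hb : a.testBit i = decide ((a >>> i) % 2 = 1) := by
      rw [Nat.testBit, Nat.one_and_eq_mod_two]
      rcases Nat.mod_two_eq_zero_or_one (a >>> i) with e | e <;> rw [e] <;> rfl
    rw [hb]
    rcases Nat.mod_two_eq_zero_or_one (a >>> i) with e | e <;> rw [e] <;> simp [cod_one]
  obtain ⟨-, -, -, -, -, h64⟩ := code_facts c hc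
  have hz : x * zb p (c.testBit 6) * x⁻¹ = zb p (c.testBit 6) := by
    rw [(zb_comm p _ hx).eq, mul_inv_cancel_right]
  have hzc : cod p (zb p (c.testBit 6)) = c &&& 64 := by
    rw [h64]; cases c.testBit 6
    · exact cod_one p
    · exact cod_z p
  have e : x * elt p c * x⁻¹ = zb p (c.testBit 6) * (x * gp p 0 c * x⁻¹) * (x * gp p 1 c * x⁻¹) *
      (x * gp p 2 c * x⁻¹) * (x * gp p 3 c * x⁻¹) * (x * gp p 4 c * x⁻¹) * (x * gp p 5 c * x⁻¹) := by
    calc x * elt p c * x⁻¹ = (x * zb p (c.testBit 6) * x⁻¹) * (x * gp p 0 c * x⁻¹) * (x * gp p 1 c * x⁻¹) *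
        (x * gp p 2 c * x⁻¹) * (x * gp p 3 c * x⁻¹) * (x * gp p 4 c * x⁻¹) * (x * gp p 5 c * x⁻¹) := by
          rw [elt, P, P, P, P, P, P, P, one_mul]; group
      _ = _ := by rw [hz]
  obtain ⟨m0, c0⟩ := hg 0 (by norm_num) c
  obtain ⟨m1, c1⟩ := hg 1 (by norm_num) c
  obtain ⟨m2, c2⟩ := hg 2 (by norm_num) c
  obtain ⟨m3, c3⟩ := hg 3 (by norm_num) c
  obtain ⟨m4, c4⟩ := hg 4 (by norm_num) c
  obtain ⟨m5, c5⟩ := hg 5 (by norm_num) c
  have n0 := mul_mem (zb_mem p (c.testBit 6)) m0
  have n1 := mul_mem n0 m1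
  have n2 := mul_mem n1 m2
  have n3 := mul_mem n2 m3
  have n4 := mul_mem n3 m4
  rw [e, cod_mul p n4 m5, cod_mul p n3 m4, cod_mul p n2 m3, cod_mul p n1 m2, cod_mul p n0 m1,
    cod_mul p (zb_mem p _) m0, hzc, c0, c1, c2, c3, c4, c5]
  rfl

theorem tup_mul {x y : G} (hx : Commute x z) (hy : Commute y z) : tup p (x * y) = tm (tup p x) (tup p y) := by
  have h : ∀ i, i < 6 → cod p (x * y * gen p i * (x * y)⁻¹) = ev (tup p x) (cod p (y * gen p i * y⁻¹)) := by
    intro i hi
    rw [ev_tup p hx (cod_lt p _), (cod_spec p (p.toCtx.norm hy (gen_spec p i hi).1)).2]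
    congr 1
    group
  simp only [tup, tm]
  rw [h 0 (by norm_num), h 1 (by norm_num), h 2 (by norm_num), h 3 (by norm_num), h 4 (by norm_num), h 5 (by norm_num)]
  rfl

theorem gen_elt : ∀ i < 6, gen p i = elt p (2 ^ i) := by
  intro i hi
  have hz2 : qm 0 (2 ^ i) = 2 ^ i := (by decide +kernel : ∀ i < 6, qm 0 (2 ^ i) = 2 ^ i) i hi
  have h := elt_gen p (a := 0) hi (by norm_num)
  rwa [elt_zero, one_mul, hz2] at h

theorem tup_one : tup p 1 = t1 := by
  have h : ∀ i, i < 6 → cod p (1 * gen p i * 1⁻¹) = 2 ^ i := fun i hi => by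
    rw [one_mul, inv_one, mul_one, gen_elt p i hi]
    exact cod_elt p ((by decide : ∀ i < 6, 2 ^ i < 128) i hi)
  simp only [tup]
  rw [h 0 (by norm_num), h 1 (by norm_num), h 2 (by norm_num), h 3 (by norm_num), h 4 (by norm_num), h 5 (by norm_num)]
  rfl

theorem tup_eq_one {x : G} (hx : Commute x z) (h : tup p x = t1) : x = 1 ∨ x = z := by
  have hev : ∀ c < 128, ev t1 c = c := by decide +kernel
  have hc : ∀ q ∈ p.Q, x * q * x⁻¹ = q := fun q hq => by
    obtain ⟨c, hcl, rfl⟩ := exists_code p hq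
    have e := ev_tup p hx hcl
    rw [h, hev c hcl] at e
    rw [← (cod_spec p (p.toCtx.norm hx (elt_mem p c))).2, ← e]
  have hxQ : x ∈ p.Q := p.cQ (mem_centralizer_iff.mpr fun q hq => (mul_inv_eq_iff_eq_mul.mp (hc q hq)).symm)
  exact p.X.cen x hxQ fun q hq => (mul_inv_eq_iff_eq_mul.mp (hc q hq)).symm

theorem tup_eq {x y : G} (hx : Commute x z) (hy : Commute y z) (h : tup p x = tup p y) : y = x ∨ y = z * x := by
  have h1 : tup p (x⁻¹ * y) = t1 := by
    rw [tup_mul p hx.inv_left hy, ← h, ← tup_mul p hx.inv_left hx, inv_mul_cancel, tup_one]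
  rcases tup_eq_one p (hx.inv_left.mul_left hy) h1 with e | e
  · exact Or.inl (by rw [← mul_one x, ← e, mul_inv_cancel_left])
  · exact Or.inr (by rw [← hx.eq, ← e, mul_inv_cancel_left])

theorem tup_z : tup p z = t1 := by
  have h : ∀ i, i < 6 → cod p (z * gen p i * z⁻¹) = cod p (1 * gen p i * 1⁻¹) := fun i hi => by
    congr 1
    rw [(p.X.central _ (gen_spec p i hi).1).symm.eq]; simp
  rw [← tup_one p]
  simp only [tup]
  rw [h 0 (by norm_num), h 1 (by norm_num), h 2 (by norm_num), h 3 (by norm_num), h 4 (by norm_num), h 5 (by norm_num)]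

theorem tup_under {x : G} (hx : Commute x z) {c : ℕ} (hc : c < 128) :
    ev (tup p x) c &&& 63 = cd (p.toCtx.m x) (c &&& 63) := by
  rw [ev_tup p hx hc, ← cod_π p (p.toCtx.norm hx (elt_mem p c)), p.toCtx.act hx (elt_mem p c), π_elt]

theorem conj_code {v : ℕ} (hv : v < 64) {c : ℕ} (hc : c < 128) :
    cod p (elt p v * elt p c * (elt p v)⁻¹) = flip v c := by
  have hv63 : v &&& 63 = v := (Nat.and_two_pow_sub_one_eq_mod v 6).trans (Nat.mod_eq_of_lt hv)
  have hq := p.π_comm _ (elt_mem p v) _ (elt_mem p c)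
  rw [π_elt, π_elt, hv63] at hq
  have hpc : pB v c = pB v (c &&& 63) := (by decide +kernel :
    ∀ v < 64, ∀ c < 128, pB v c = pB v (c &&& 63)) v hv c hc
  rw [flip, hpc]
  cases hp : pB v (c &&& 63)
  · rw [(hq.mpr hp).eq, mul_inv_cancel_right, cond_false, cod_elt p hc]
  · have hn : ¬ Commute (elt p v) (elt p c) := fun h => by rw [hq.mp h] at hp; exact Bool.false_ne_true hp
    rw [p.X.not_commute_conj (elt_mem p v) (elt_mem p c) hn, cond_true, ← elt_flip, cod_elt p (qm_zero c hc).2.2.2]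

theorem tup_elt {v : ℕ} (hv : v < 64) : tup p (elt p v) = inn v := by
  simp only [tup, gen_elt p 0 (by norm_num), gen_elt p 1 (by norm_num), gen_elt p 2 (by norm_num),
    gen_elt p 3 (by norm_num), gen_elt p 4 (by norm_num), gen_elt p 5 (by norm_num)]
  rw [conj_code p hv (by norm_num), conj_code p hv (by norm_num), conj_code p hv (by norm_num),
    conj_code p hv (by norm_num), conj_code p hv (by norm_num), conj_code p hv (by norm_num)]
  rfl

end Frm

end Cfsg.Lib.SuzukiType.Local
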