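import Cfsg.Agent.SuzukiType.Local.CentT

/-!
The involutions of the centralizer of the second involution modulo the four-group.
-/

set_option autoImplicit false
set_option maxRecDepth 100000
set_option maxHeartbeats 1000000
set_option linter.unusedSectionVars false
set_option linter.style.haveILetI false

namespace Cfsg.Lib.SuzukiType

open Subgroup Cfsg.Lib.SuzukiType.Code Cfsg.Lib.SuzukiType.Local Cfsg.Lib.SuzukiType.Local.Frm

universe u

variable {G : Type u} [Group G] [Finite G] {z : G}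

namespace Four

variable (d : Four z)

theorem U_le_Ct : d.U ≤ d.Ct := fun w hw => d.S1_le_Ct (d.mem_M.mp (d.mem_U.mp hw).1).1

theorem U_sq {v : G} (hv : v ∈ d.U) : v * v = 1 := (d.M_facts (d.mem_U.mp hv).1).1

theorem Ct_U {h : G} (hh : Commute h d.t) {v : G} (hv : v ∈ d.U) : h * v * h⁻¹ ∈ d.U := by
  have ht : h * d.t * h⁻¹ = d.t := by rw [hh.eq, mul_inv_cancel_right]
  have hu : h * d.u * h⁻¹ ∈ d.U := by
    rcases d.normal_U hh with e | e <;> rw [e]
    · exact d.u_U
    · exact mul_mem d.t_U d.u_U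
  rcases d.U_cases hv with r | r | r | r <;> rw [r]
  · simp [one_mem]
  · rw [ht]; exact d.t_U
  · exact hu
  · rw [show h * (d.t * d.u) * h⁻¹ = h * d.t * h⁻¹ * (h * d.u * h⁻¹) by group, ht]; exact mul_mem d.t_U hu

theorem U_coset_sq {h x : G} (hh : Commute h d.t) (hx : h * x * h⁻¹ ∈ d.U) : x ∈ d.U := by
  have := d.Ct_U hh.inv_left hx
  rwa [show h⁻¹ * (h * x * h⁻¹) * h⁻¹⁻¹ = x by group] at this

/-- The members of the first class centralize the four-group. -/
theorem Zt_U {x v : G} (hx : d.Zt x) (hv : v ∈ d.U) : Commute x v := by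
  obtain ⟨h, hh, e⟩ := d.to_z hx
  have hc := (d.S1_U d.z_S1 (d.Ct_U hh hv))
  rw [← e] at hc
  exact (Commute.conj_iff h).mp hc

theorem Zt_comm_u {x : G} (hx : d.Zt x) : Commute x d.u := d.Zt_U hx d.u_U

/-- A coset of the four-group holds at most one member of the first class. -/
theorem Zt_coset {x v : G} (hx : d.Zt x) (hv : v ∈ d.U) (h : d.Zt (x * v)) : v = 1 := by
  obtain ⟨n, hn, e⟩ := d.to_z hx
  have hv' := d.Ct_U hn hv
  by_contra hv1
  have hz' := d.Zt_conj h hn
  rw [show n * (x * v) * n⁻¹ = n * x * n⁻¹ * (n * v * n⁻¹) by group, e] at hz'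
  have hM : z * (n * v * n⁻¹) ∈ d.M := mul_mem (d.Tri_M (Or.inl rfl)) (d.mem_U.mp hv').1
  rcases (d.M_facts hM).2.2 with r | r | r
  · refine d.U_not_Tri hv' (Or.inl ?_)
    exact (eq_inv_of_mul_eq_one_right r).trans d.X.inv_z
  · have hT : d.InE (n * v * n⁻¹) := by
      have := d.E_cases (Or.inr (Or.inl rfl) : d.InE z) _ (Or.inr r)
      rwa [← mul_assoc, d.X.zz, one_mul] at this
    rcases hT with q | q
    · exact hv1 (conj_eq_one_iff.mp q)
    · exact d.U_not_Tri hv' q
  · exact d.not_conj (hz'.2.trans r.symm)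

theorem y_not_u : ¬ Commute d.y d.u := fun h => by
  have := d.y_u
  rw [h.eq, mul_inv_cancel_right] at this
  exact d.t_ne (mul_eq_right.mp this.symm)

theorem S_diff_swap {w : G} (hw : w ∈ d.S) (h1 : w ∉ d.S1) : w * d.u * w⁻¹ = d.t * d.u := by
  have h := (d.S_cases d.y_S d.y_s hw).resolve_left h1
  rw [show w = d.y * (d.y⁻¹ * w) by group, conj_comp, (d.S1_U h d.u_U).eq, mul_inv_cancel_right, d.y_u]

theorem S1_of_comm {w : G} (hw : w ∈ d.S) (hu : Commute w d.u) : w ∈ d.S1 := by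
  by_contra h1
  have := d.S_diff_swap hw h1
  rw [hu.eq, mul_inv_cancel_right] at this
  exact d.t_ne (mul_eq_right.mp this.symm)

/-- Elements with square in the four-group, moved into the Sylow subgroup. -/
theorem sq_U_S {w : G} (hw : w ∈ d.S) (hs : w * w ∈ d.U) :
    w ∈ d.U ∨ (∃ v ∈ d.U, d.Zt (w * v)) ∨ (¬ Commute w d.u ∧ ∃ v ∈ d.U, (w * v) * (w * v) = 1) := by
  have hC := (d.mem_S.mp hw).1
  have ht := (d.mem_S.mp hw).2
  by_cases h1 : w ∈ d.S1
  · have hL := d.φ_S1 h1
    have hφ : tm (d.φ w) (d.φ w) = d.φ (w * w) := (d.φ_mul hC hC).symm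
    have hchk := List.all_eq_true.mp (List.all_eq_true.mp chk_sqr _ hL) _ d.φ_u
    rw [Bool.not_eq_true', decide_eq_false_iff_not, hφ] at hchk
    have hww : w * w = 1 := by
      rcases d.U_cases hs with r | r | r | r
      · exact r
      · exact absurd (by rw [r, d.φ_t]; simp) hchk
      · exact absurd (by rw [r]; simp) hchk
      · exact absurd (by rw [r, d.φ_mul d.t_C d.u_C, d.φ_t]; simp) hchk
    rcases d.φ_invol hw hww with ⟨-, hI⟩ | ⟨h, -⟩
    · have hsp := List.all_eq_true.mp (List.all_eq_true.mp chk_split _ d.φ_u) _ hI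
      simp only [Bool.or_eq_true, decide_eq_true_eq, List.any_eq_true] at hsp
      rcases hsp with (hZ | h1') | ⟨a, ha, ha'⟩
      · have hz := (d.isZ_iff hC hww).mp (by rw [(Std.I1_facts hI).2.2.1, decide_eq_true hZ])
        exact Or.inr (Or.inl ⟨1, one_mem _, by rw [mul_one]; exact ⟨ht, hz.1⟩⟩)
      · rcases d.φ_eq (Commute.one_left z) hC (d.φ_one.trans h1'.symm) with r | r
        · exact Or.inl (r ▸ one_mem _)
        · exact Or.inr (Or.inl ⟨1, one_mem _, by rw [mul_one, r, mul_one]; exact d.Tri_conj (Or.inl rfl)⟩)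
      · obtain ⟨v, hv, ev⟩ : ∃ v ∈ d.U, d.φ v = a := by
          simp only [List.mem_cons, List.not_mem_nil, or_false] at ha
          rcases ha with r | r | r <;> subst r
          · exact ⟨d.t, d.t_U, d.φ_t⟩
          · exact ⟨d.u, d.u_U, rfl⟩
          · exact ⟨d.t * d.u, mul_mem d.t_U d.u_U, by rw [d.φ_mul d.t_C d.u_C, d.φ_t]⟩
        have hvS := (d.mem_M.mp (d.mem_U.mp hv).1).1
        have hvC := (d.mem_S1.mp hvS).1.1
        have hc := (d.S1_U h1 hv)
        have hff : v * w * (v * w) = 1 := by rw [hc.mul_mul_mul_comm, d.U_sq hv, hww, one_mul]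
        have hfC := hvC.mul_left hC
        have ef : d.φ (v * w) = tm a (d.φ w) := by rw [d.φ_mul hvC hC, ev]
        rw [← ef] at ha'
        rcases List.mem_cons.mp ha' with r | r
        · rcases d.φ_eq (Commute.one_left z) hfC (d.φ_one.trans r.symm) with q | q
          · refine Or.inl ?_
            rw [show w = v * (v * w) by rw [← mul_assoc, d.U_sq hv, one_mul], q, mul_one]
            exact hv
          · exact Or.inr (Or.inl ⟨v, hv, by rw [hc.eq, q, mul_one]; exact d.Tri_conj (Or.inl rfl)⟩)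
        · have hI' : d.φ (v * w) ∈ I1 := (by decide +kernel : ∀ b ∈ Z1, b ∈ I1) _ r
          have hz := (d.isZ_iff hfC hff).mp (by rw [(Std.I1_facts hI').2.2.1, decide_eq_true r])
          exact Or.inr (Or.inl ⟨v, hv, by rw [hc.eq]; exact ⟨(d.mem_S1.mp (mul_mem hvS h1)).2, hz.1⟩⟩)
    · exact absurd h1 h
  · refine Or.inr (Or.inr ⟨fun h => h1 (d.S1_of_comm hw h), ?_⟩)
    have hsw := d.S_diff_swap hw h1
    have hfix : w * (w * w) * w⁻¹ = w * w := by group
    have hww : w * w = 1 ∨ w * w = d.t := by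
      rcases d.U_cases hs with r | r | r | r
      · exact Or.inl r
      · exact Or.inr r
      · exfalso; rw [r, hsw] at hfix; exact d.t_ne (mul_eq_right.mp hfix)
      · exfalso
        rw [r, show w * (d.t * d.u) * w⁻¹ = w * d.t * w⁻¹ * (w * d.u * w⁻¹) by group, hsw, ht.eq,
          mul_inv_cancel_right, ← mul_assoc, d.t_sq, one_mul] at hfix
        exact d.t_ne (mul_eq_right.mp hfix.symm)
    rcases hww with r | r
    · exact ⟨1, one_mem _, by rw [mul_one, r]⟩
    · refine ⟨d.u, d.u_U, ?_⟩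
      have e : d.u * w = w * (d.t * d.u) := by
        have h2 : w * (d.t * d.u) * w⁻¹ = d.u := by
          rw [show w * (d.t * d.u) * w⁻¹ = w * d.t * w⁻¹ * (w * d.u * w⁻¹) by group, hsw, ht.eq,
            mul_inv_cancel_right, ← mul_assoc, d.t_sq, one_mul]
        exact (mul_inv_eq_iff_eq_mul.mp h2).symm
      calc w * d.u * (w * d.u) = w * (d.u * w) * d.u := by group
        _ = w * w * d.t * (d.u * d.u) := by rw [e]; group
        _ = 1 := by rw [r, d.u_sq, mul_one, d.t_sq]

theorem S_diff_comm {w : G} (hw : w ∈ d.S) (h1 : w ∉ d.S1) (hww : w * w = 1) :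
    ∃ h ∈ d.S, ∃ v ∈ d.U, h * d.y * h⁻¹ = w * v := by
  have hC := (d.mem_S.mp hw).1
  have hzU : ∀ {x}, x ∈ d.S → Commute x z := fun h => (d.mem_S.mp h).1
  rcases d.φ_invol hw hww with ⟨h, -⟩ | ⟨-, hYI, -, -⟩
  · exact absurd h h1
  have hc := List.all_eq_true.mp chk_YI_class _ hYI
  simp only [Bool.and_eq_true, List.any_eq_true, Bool.or_eq_true, decide_eq_true_eq] at hc
  obtain ⟨-, a, ha, hab⟩ := hc
  obtain ⟨h, hh, eh⟩ := d.S1_surj ha
  have hhC := hzU (d.S1_le hh)
  obtain ⟨c, hc⟩ : ∃ c, c ∈ d.S ∧ c * d.y * c⁻¹ = z * d.y := by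
    have hA := chk_Y_anti
    rw [List.any_eq_true] at hA
    obtain ⟨b, hb, hanti⟩ := hA
    obtain ⟨wb, hwb, hwbb, eb⟩ := d.S1_invol hb
    refine ⟨wb, d.S1_le hwb, ?_⟩
    have := (d.xanti_iff (hzU (d.S1_le hwb)) d.y_C hwbb d.y_sq).mp (by rw [eb, d.φy]; exact hanti)
    rw [this]; group
  have key : ∀ w', w' ∈ d.S → d.φ (h * d.y) = d.φ (w' * h) → h * d.y * h⁻¹ = w' ∨ h * d.y * h⁻¹ = z * w' := by
    intro w' hw' e
    rcases d.φ_eq ((hzU hw').mul_left hhC) (hhC.mul_left d.y_C) e.symm with r | r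
    · exact Or.inl (by rw [r]; group)
    · exact Or.inr (by rw [r]; group)
  have fin : ∀ v ∈ d.U, (h * d.y * h⁻¹ = w * v ∨ h * d.y * h⁻¹ = z * (w * v)) →
      ∃ h' ∈ d.S, ∃ v ∈ d.U, h' * d.y * h'⁻¹ = w * v := by
    rintro v hv (r | r)
    · exact ⟨h, d.S1_le hh, v, hv, r⟩
    · refine ⟨h * c, mul_mem (d.S1_le hh) hc.1, v, hv, ?_⟩
      rw [conj_comp, hc.2, show h * (z * d.y) * h⁻¹ = h * z * h⁻¹ * (h * d.y * h⁻¹) by group, hhC.eq,
        mul_inv_cancel_right, r, ← mul_assoc, d.X.zz, one_mul]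
  rcases hab with e | e
  · refine fin 1 (one_mem _) ?_
    rw [mul_one]
    exact key w hw (by rw [d.φ_mul hhC d.y_C, d.φ_mul hC hhC, d.φy, eh]; exact e)
  · refine fin d.t d.t_U (key _ (mul_mem hw (d.S1_le (d.mem_M.mp d.t_M).1)) ?_)
    rw [d.φ_mul hhC d.y_C, d.φ_mul (hC.mul_left d.t_C) hhC, (d.mem_S.mp hw).2.eq, d.φ_mul d.t_C hC, d.φ_t,
      d.φy, eh]
    exact e

/-- A member of the first class in the Sylow subgroup commuting with the outer involution modulo the four-group. -/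
theorem Zt_Y {x : G} (hx : d.Zt x) (hz : Commute x z) (h : x * d.y * x⁻¹ = d.y ∨ x * d.y * x⁻¹ = d.y * d.t) :
    x = z := by
  have hS1 := d.Zt_S hx hz
  have hC := (d.mem_S1.mp hS1).1.1
  have hxx := d.Zt_sq hx
  by_contra hne
  rcases d.φ_invol (d.S1_le hS1) hxx with ⟨-, hI⟩ | ⟨h', -⟩
  · have hZ : d.φ x ∈ Z1 := by
      have := (d.isZ_iff hC hxx).mpr ⟨hx.2, hne⟩
      rw [(Std.I1_facts hI).2.2.1, decide_eq_true_eq] at this
      exact this
    have hc := List.all_eq_true.mp chk_Y_Z _ hZ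
    simp only [Bool.and_eq_true, Bool.or_eq_true, Bool.not_eq_true', decide_eq_false_iff_not] at hc
    rcases h with e | e
    · have e' := mul_inv_eq_iff_eq_mul.mp e
      rcases hc.1 with r | r
      · exact r (by rw [← d.φy, ← d.φ_mul hC d.y_C, ← d.φ_mul d.y_C hC, e'])
      · have := (d.xanti_iff hC d.y_C hxx d.y_sq).mp (by rw [d.φy]; exact r)
        rw [e'] at this
        exact d.X.ne (mul_eq_right.mp this.symm)
    · have e' := mul_inv_eq_iff_eq_mul.mp e
      refine hc.2 ?_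
      rw [← d.φy, ← d.φ_t, ← d.φ_mul hC d.y_C, ← d.φ_mul d.t_C d.y_C,
        ← d.φ_mul (d.t_C.mul_left d.y_C) hC, ← d.y_t.eq, e']
  · exact h' hS1

/-- The members of the first class in the Sylow subgroup. -/
theorem card_Zt_S : Nat.card {x : G // d.Zt x ∧ Commute x z} = 27 := by
  classical
  obtain ⟨-, -, hnd, hlen, -, -⟩ := chk_sizes
  let T := {a // a ∈ Z1}
  have hI : ∀ a : T, a.1 ∈ I1 := fun a => (by decide +kernel : ∀ b ∈ Z1, b ∈ I1) _ a.2
  choose sel hsel hsq hφ using fun a : T => d.S1_invol (hI a)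
  have hC : ∀ a, Commute (sel a) z := fun a => (d.mem_S1.mp (hsel a)).1.1
  have hzφ : ∀ a, d.φ (z * sel a) = a.1 := fun a => by
    rw [d.φ_mul (Commute.refl z) (hC a), d.φ_z, ← d.φ_one, ← d.φ_mul (Commute.one_left z) (hC a), one_mul, hφ]
  have hP : ∀ (b : Bool) (a : T), d.Zt ((bif b then z else 1) * sel a) ∧ Commute ((bif b then z else 1) * sel a) z ∧
      (bif b then z else 1) * sel a ≠ z ∧ d.φ ((bif b then z else 1) * sel a) = a.1 := by
    intro b a
    have hm : (bif b then z else 1) * sel a ∈ d.S1 := mul_mem (by cases b; exacts [one_mem _, d.z_S1]) (hsel a)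
    have hC' := (d.mem_S1.mp hm).1.1
    have e : d.φ ((bif b then z else 1) * sel a) = a.1 := by
      cases b
      · rw [cond_false, one_mul]; exact hφ a
      · exact hzφ a
    have hxx : (bif b then z else 1) * sel a * ((bif b then z else 1) * sel a) = 1 :=
      d.sq1_sound hC' (by rw [e]; exact (Std.I1_facts (hI a)).2.1)
    have hz := (d.isZ_iff hC' hxx).mp (by rw [e, (Std.I1_facts (hI a)).2.2.1, decide_eq_true a.2])
    exact ⟨⟨(d.mem_S1.mp hm).2, hz.1⟩, hC', hz.2, e⟩
  let f : Option (Bool × T) → {x : G // d.Zt x ∧ Commute x z} := fun o =>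
    match o with
    | none => ⟨z, d.Tri_conj (Or.inl rfl), Commute.refl z⟩
    | some (b, a) => ⟨(bif b then z else 1) * sel a, (hP b a).1, (hP b a).2.1⟩
  have hf : Function.Bijective f := by
    constructor
    · rintro (_ | ⟨b, a⟩) (_ | ⟨b', a'⟩) e
      · rfl
      · exact absurd (congrArg Subtype.val e).symm (hP b' a').2.2.1
      · exact absurd (congrArg Subtype.val e) (hP b a).2.2.1
      · have e' : (bif b then z else 1) * sel a = (bif b' then z else 1) * sel a' := congrArg Subtype.val e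
        have ea : a = a' := Subtype.ext (by rw [← (hP b a).2.2.2, ← (hP b' a').2.2.2, e'])
        subst ea
        have e'' := mul_right_cancel e'
        revert e''
        cases b <;> cases b' <;> simp [d.X.ne, Ne.symm d.X.ne]
    · rintro ⟨x, hx, hz⟩
      by_cases hne : x = z
      · exact ⟨none, Subtype.ext hne.symm⟩
      · have hS := d.Zt_S hx hz
        rcases d.φ_invol (d.S1_le hS) (d.Zt_sq hx) with ⟨-, hI'⟩ | ⟨h, -⟩
        · have := (d.isZ_iff hz (d.Zt_sq hx)).mpr ⟨hx.2, hne⟩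
          rw [(Std.I1_facts hI').2.2.1, decide_eq_true_eq] at this
          rcases d.φ_eq (hC ⟨_, this⟩) hz (hφ _) with r | r
          · exact ⟨some (false, ⟨_, this⟩), Subtype.ext (by show 1 * _ = x; rw [one_mul]; exact r.symm)⟩
          · exact ⟨some (true, ⟨_, this⟩), Subtype.ext r.symm⟩
        · exact absurd hS h
  have hT : Nat.card T = 13 := by
    rw [Nat.card_congr (Equiv.subtypeEquivRight fun a => (List.mem_toFinset).symm), Nat.card_eq_finsetCard,
      List.toFinset_card_of_nodup hnd, hlen]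
  rw [← Nat.card_congr (Equiv.ofBijective f hf), Finite.card_option, Nat.card_prod, hT]
  simp

/-- The involutions exchanging the pair. -/
theorem card_outer_S : Nat.card {w : G // w ∈ d.S ∧ w ∉ d.S1 ∧ w * w = 1} = 16 := by
  classical
  obtain ⟨-, -, -, -, hnd, hlen, -⟩ := chk_sizes
  let T := {a // a ∈ YI}
  have hm : ∀ a : T, ∃ b ∈ L1, tm Y0 b = a.1 ∧ sq1 a.1 = true := fun a => by
    have h := List.all_eq_true.mp chk_YI_class _ a.2
    simp only [Bool.and_eq_true, decide_eq_true_eq] at h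
    obtain ⟨b, hb, e⟩ := List.mem_map.mp h.1.1.1
    have h2 := List.all_eq_true.mp chk_YI _ h.1.1.1
    rw [beq_iff_eq, decide_eq_true a.2] at h2
    exact ⟨b, hb, e, h2⟩
  choose b hb hbe hbs using hm
  choose wb hwb hwe using fun a : T => d.S1_surj (hb a)
  have hnot : ∀ {w}, w ∈ d.S1 → d.y * w ∉ d.S1 := fun {w} hw h => by
    have hy : d.y ∈ d.S1 := by
      have := mul_mem h (inv_mem hw)
      rwa [mul_inv_cancel_right] at this
    exact d.y_not_u (d.S1_U hy d.u_U)
  have hzS : ∀ β : Bool, (bif β then z else 1) ∈ d.S1 := fun β => by cases β; exacts [one_mem _, d.z_S1]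
  have hφ : ∀ (β : Bool) (a : T), d.φ (d.y * ((bif β then z else 1) * wb a)) = a.1 := fun β a => by
    have hC := (d.mem_S1.mp (hwb a)).1.1
    have hzC : Commute ((bif β then z else 1) : G) z := (d.mem_S1.mp (hzS β)).1.1
    have e : d.φ ((bif β then z else 1) * wb a) = b a := by
      cases β
      · rw [cond_false, one_mul]; exact hwe a
      · rw [cond_true, d.φ_mul (Commute.refl z) hC, d.φ_z, ← d.φ_one, ← d.φ_mul (Commute.one_left z) hC, one_mul]
        exact hwe a
    rw [d.φ_mul d.y_C (hzC.mul_left hC), e, d.φy, hbe]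
  let f : Bool × T → {w : G // w ∈ d.S ∧ w ∉ d.S1 ∧ w * w = 1} := fun u =>
    ⟨d.y * ((bif u.1 then z else 1) * wb u.2), mul_mem d.y_S (d.S1_le (mul_mem (hzS _) (hwb _))),
      hnot (mul_mem (hzS _) (hwb _)),
      d.sq1_sound (d.y_C.mul_left (d.mem_S1.mp (mul_mem (hzS _) (hwb _))).1.1) (by rw [hφ]; exact hbs _)⟩
  have hf : Function.Bijective f := by
    constructor
    · rintro ⟨β, a⟩ ⟨β', a'⟩ e
      have e' := congrArg Subtype.val e
      simp only [f] at e'
      have ea : a = a' := Subtype.ext (by rw [← hφ β a, ← hφ β' a', e'])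
      subst ea
      have e'' := mul_right_cancel (mul_left_cancel e')
      revert e''
      cases β <;> cases β' <;> simp [d.X.ne, Ne.symm d.X.ne]
    · rintro ⟨w, hw, h1, hww⟩
      rcases d.φ_invol hw hww with ⟨h, -⟩ | ⟨-, hYI, -, -⟩
      · exact absurd h h1
      · rcases d.φ_eq (d.y_C.mul_left ((d.mem_S1.mp (mul_mem (hzS false) (hwb ⟨_, hYI⟩))).1.1)) (d.mem_S.mp hw).1
            (hφ false ⟨_, hYI⟩) with r | r
        · exact ⟨(false, ⟨_, hYI⟩), Subtype.ext r.symm⟩
        · refine ⟨(true, ⟨_, hYI⟩), Subtype.ext ?_⟩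
          show d.y * (z * wb ⟨_, hYI⟩) = w
          refine Eq.trans ?_ r.symm
          rw [cond_false, one_mul, ← mul_assoc, d.y_C.eq, mul_assoc]
  rw [← Nat.card_congr (Equiv.ofBijective f hf), Nat.card_prod,
    Nat.card_congr (Equiv.subtypeEquivRight fun a => (List.mem_toFinset).symm), Nat.card_eq_finsetCard,
    List.toFinset_card_of_nodup hnd, hlen, Nat.card_eq_fintype_card, Fintype.card_bool]

end Four

end Cfsg.Lib.SuzukiType
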