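import Cfsg.Agent.SuzukiType.Local.Odd
import Mathlib.GroupTheory.PGroup
import Mathlib.GroupTheory.SpecificGroups.Cyclic

/-!
The Sylow subgroup for the prime five and the element classes inside it.
-/

set_option autoImplicit false
set_option maxRecDepth 100000
set_option maxHeartbeats 1000000
set_option linter.unusedSectionVars false
set_option linter.style.haveILetI false

namespace Cfsg.Lib.SuzukiType

open Subgroup
open Cfsg.Lib.InvolCalc (sq_of_order_two order_two_of_mul_self ne_one_of_order_two)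

universe u

variable {G : Type u} [Group G] [Finite G] {z : G}

theorem order_five_of_mem {g x : G} (hg : orderOf g = 5) (hx : x ∈ zpowers g) (h1 : x ≠ 1) :
    orderOf x = 5 ∧ zpowers x = zpowers g := by
  have ho : orderOf x = 5 := by
    rcases (Nat.dvd_prime (by norm_num)).mp (hg ▸ orderOf_dvd_of_mem_zpowers hx) with r | r
    · exact absurd (orderOf_eq_one_iff.mp r) h1
    · exact r
  exact ⟨ho, eq_of_le_of_card_ge (zpowers_le.mpr hx) (by rw [Nat.card_zpowers, Nat.card_zpowers, ho, hg])⟩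

theorem pow_five_ne {g : G} (hg : orderOf g = 5) {i : ℕ} (h0 : 0 < i) (h5 : i < 5) : g ^ i ≠ 1 := fun e => by
  have := Nat.le_of_dvd h0 (hg ▸ orderOf_dvd_of_pow_eq_one e)
  omega

theorem map_conj_zpowers (g x : G) :
    (zpowers x).map (MulAut.conj g).toMonoidHom = zpowers (g * x * g⁻¹) := MonoidHom.map_zpowers _ _

theorem card_five_zpowers {C : Subgroup G} (hC : Nat.card ↥C = 5) : ∃ x, orderOf x = 5 ∧ zpowers x = C := by
  haveI : Fact (Nat.Prime 5) := ⟨by norm_num⟩
  obtain ⟨⟨x, hx⟩, ho⟩ := exists_prime_orderOf_dvd_card' (G := ↥C) 5 (by rw [hC])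
  rw [Subgroup.orderOf_mk] at ho
  exact ⟨x, ho, eq_of_le_of_card_ge (zpowers_le.mpr hx) (by rw [Nat.card_zpowers, ho, hC])⟩

namespace Four

variable (d : Four z)

include d in
theorem fact_five : (Nat.card G).factorization 5 = 2 := by
  refine le_antisymm ?_ (((by norm_num : Nat.Prime 5).pow_dvd_iff_le_factorization Nat.card_pos.ne').mp
    (by rw [d.card_G]; norm_num))
  by_contra hlt
  have := ((by norm_num : Nat.Prime 5).pow_dvd_iff_le_factorization Nat.card_pos.ne').mpr
    (show 3 ≤ (Nat.card G).factorization 5 by omega)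
  rw [d.card_G] at this
  norm_num at this

include d in
theorem card_P (P : Sylow 5 G) : Nat.card ↥(P : Subgroup G) = 25 := by
  haveI : Fact (Nat.Prime 5) := ⟨by norm_num⟩
  rw [P.card_eq_multiplicity, d.fact_five]
  norm_num

include d in
theorem P_comm (P : Sylow 5 G) {x y : G} (hx : x ∈ (P : Subgroup G)) (hy : y ∈ (P : Subgroup G)) : Commute x y := by
  haveI : Fact (Nat.Prime 5) := ⟨by norm_num⟩
  haveI := IsPGroup.isMulCommutative_of_card_eq_prime_sq (p := 5) (G := ↥(P : Subgroup G))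
    (by rw [d.card_P P]; norm_num)
  exact congrArg Subtype.val (mul_comm' (⟨x, hx⟩ : ↥(P : Subgroup G)) ⟨y, hy⟩)

include d in
theorem exists_A : ∃ a, orderOf a = 5 ∧ Commute a z := by
  haveI : Fact (Nat.Prime 5) := ⟨by norm_num⟩
  obtain ⟨a, ha⟩ := exists_prime_orderOf_dvd_card' (G := ↥(centralizer ({z} : Set G))) 5 (by
    rw [d.toSec.card_C]; norm_num)
  exact ⟨a, by rw [Subgroup.orderOf_coe]; exact ha, mem_centralizer_singleton_iff.mp a.2⟩

/-- An element of order five centralizing the first involution is not conjugate into the line of the second kind. -/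
theorem A_not_B {a b : G} (ha : orderOf a = 5) (haz : Commute a z) (hb : orderOf b = 5) (hbt : Commute b d.t) (g : G) :
    g * a * g⁻¹ ∉ zpowers b := by
  intro hm
  have h1 : g * a * g⁻¹ ≠ 1 := fun e => by
    rw [conj_eq_one_iff.mp e, orderOf_one] at ha
    norm_num at ha
  obtain ⟨-, he⟩ := order_five_of_mem hb hm h1
  have hc : Commute (g * z * g⁻¹) b :=
    commute_of_mem_zpowers ((Commute.conj_iff g).mpr haz.symm) (he ▸ mem_zpowers b)
  have ho : orderOf (g * z * g⁻¹) = 2 := by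
    rw [show g * z * g⁻¹ = MulAut.conj g z from rfl, MulEquiv.orderOf_eq]; exact d.hz
  exact d.not_conj ((isConj_iff.mpr ⟨g, rfl⟩).trans (d.invol_local (Or.inl rfl) hb hbt ho hc).symm)

/-- The centralizer of the second kind inside the normalizer of a Sylow subgroup. -/
theorem five_local {b : G} (hb : orderOf b = 5) (hbt : Commute b d.t) (P : Sylow 5 G) (hbP : b ∈ (P : Subgroup G)) :
    Nat.card ↥(centralizer ({b} : Set G) ⊓ normalizer ((P : Subgroup G) : Set G)) = 50 ∧
      (∀ x, (∀ y ∈ (P : Subgroup G), Commute x y) → x ∈ (P : Subgroup G)) ∧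
      ∃ k ∈ normalizer ((P : Subgroup G) : Set G), k * b * k⁻¹ = b ^ 2 := by
  classical
  haveI : Fact (Nat.Prime 5) := ⟨by norm_num⟩
  set C := centralizer ({b} : Set G) with hC
  have hPC : (P : Subgroup G) ≤ C := fun x hx => mem_Cs.mpr (d.P_comm P hx hbP)
  set b' : ↥C := ⟨b, mem_Cs.mpr (Commute.refl b)⟩ with hb'
  set N : Subgroup ↥C := zpowers b' with hNdef
  have hcen : ∀ w : ↥C, ∀ n ∈ N, Commute n w := by
    intro w n hn
    have hwb : Commute w b' := Subtype.ext (mem_Cs.mp w.2).eq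
    exact (commute_of_mem_zpowers hwb hn).symm
  haveI : N.Normal := ⟨fun n hn g => by rw [(hcen g n hn).symm.eq, mul_inv_cancel_right]; exact hn⟩
  have hNc : Nat.card ↥N = 5 := by rw [hNdef, Nat.card_zpowers, hb', Subgroup.orderOf_mk, hb]
  set π := QuotientGroup.mk' N with hπ
  set PC := (P : Subgroup G).subgroupOf C with hPCdef
  have hPCc : Nat.card ↥PC = 25 := by
    rw [hPCdef, Nat.card_congr (subgroupOfEquivOfLe hPC).toEquiv, d.card_P P]
  have hNP : N ≤ PC := zpowers_le.mpr (mem_subgroupOf.mpr hbP)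
  have hcomap : (PC.map π).comap π = PC := by
    rw [comap_map_eq_self]
    rw [hπ, QuotientGroup.ker_mk']
    exact hNP
  have hcard : ∀ Z : Subgroup (↥C ⧸ N), Nat.card ↥(Z.comap π) = 5 * Nat.card ↥Z := by
    intro Z
    have h1 := (Z.comap π).card_mul_index
    rw [index_comap_of_surjective _ (QuotientGroup.mk'_surjective _), card_eq_card_quotient_mul_card_subgroup N,
      hNc, ← Z.card_mul_index] at h1
    have hpos : 0 < Z.index := Nat.pos_of_ne_zero Subgroup.index_ne_zero_of_finite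
    exact Nat.eq_of_mul_eq_mul_right hpos (by linarith)
  have hPb : Nat.card ↥(PC.map π) = 5 := by
    have := hcard (PC.map π)
    rw [hcomap, hPCc] at this
    omega
  obtain ⟨r, hr, hrP⟩ := card_five_zpowers hPb
  obtain ⟨h, hh, hCc⟩ := d.local_order (Or.inl rfl) hb hbt
  have h25 : 25 ∣ Nat.card ↥C := hPCc ▸ card_subgroup_dvd_card PC
  have h60 : Nat.card (↥C ⧸ N) = 60 := by
    have h1 := card_eq_card_quotient_mul_card_subgroup N
    rw [hNc, hCc] at h1
    rw [hCc] at h25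
    rcases hh with rfl | rfl | rfl <;> omega
  obtain ⟨hc5, hn10⟩ := (d.local_hyp (Or.inl rfl) hb hbt N rfl).card_cases.2 h60 r hr
  have hN50 : Nat.card ↥(normalizer (PC : Set ↥C)) = 50 := by
    rw [← hcomap, ← comap_normalizer_eq_of_surjective _ (QuotientGroup.mk'_surjective _), hcard, ← hrP, hn10]
  refine ⟨?_, ?_, ?_⟩
  · rw [← hN50]
    refine Nat.card_congr
      { toFun := fun x => ⟨⟨x.1, (mem_inf.mp x.2).1⟩, ?_⟩
        invFun := fun x => ⟨x.1.1, mem_inf.mpr ⟨x.1.2, ?_⟩⟩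
        left_inv := fun _ => rfl
        right_inv := fun _ => rfl }
    · refine Cfsg.Lib.ZStarApps.mem_normalizer_of_maps fun a ha => ?_
      exact mem_subgroupOf.mpr ((mem_normalizer_iff.mp (mem_inf.mp x.2).2 (a : G)).mp (mem_subgroupOf.mp ha))
    · refine Cfsg.Lib.ZStarApps.mem_normalizer_of_maps fun a ha => ?_
      exact mem_subgroupOf.mp ((mem_normalizer_iff.mp x.2 ⟨a, hPC ha⟩).mp (mem_subgroupOf.mpr ha))
  · intro x hx
    have hxC : x ∈ C := mem_Cs.mpr (hx b hbP)
    obtain ⟨r', hr', er⟩ := mem_map.mp (show r ∈ PC.map π from hrP ▸ mem_zpowers r)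
    have hxr : π ⟨x, hxC⟩ ∈ centralizer ({r} : Set (↥C ⧸ N)) := mem_Cs.mpr (by
      rw [← er]
      exact (show Commute (⟨x, hxC⟩ : ↥C) r' from Subtype.ext (hx _ (mem_subgroupOf.mp hr')).eq).map π)
    have heq : PC.map π = centralizer ({r} : Set (↥C ⧸ N)) := eq_of_le_of_card_ge
      (hrP ▸ zpowers_le.mpr (mem_Cs.mpr (Commute.refl r))) (by rw [hc5, hPb])
    rw [← heq] at hxr
    have : (⟨x, hxC⟩ : ↥C) ∈ PC := hcomap ▸ (mem_comap.mpr hxr)
    exact mem_subgroupOf.mp this
  · obtain ⟨k, hkt, hk⟩ := d.five_conj hb hbt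
    have hfC : (Nat.card ↥C).factorization 5 = 2 := by
      have h1 := card_eq_card_quotient_mul_card_subgroup N
      rw [hNc, h60] at h1
      refine le_antisymm ?_ (((by norm_num : Nat.Prime 5).pow_dvd_iff_le_factorization Nat.card_pos.ne').mp
        (by rw [h1]; norm_num))
      by_contra hlt
      have := ((by norm_num : Nat.Prime 5).pow_dvd_iff_le_factorization Nat.card_pos.ne').mpr
        (show 3 ≤ (Nat.card ↥C).factorization 5 by omega)
      rw [h1] at this
      norm_num at this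
    have hkC : ∀ x ∈ C, k * x * k⁻¹ ∈ C := by
      intro x hx
      have h2 : Commute (k * x * k⁻¹) (b ^ 2) := hk ▸ (Commute.conj_iff k).mpr (mem_Cs.mp hx)
      have h3 := h2.pow_right 3
      rw [← pow_mul, show b ^ (2 * 3) = b by
        rw [show 2 * 3 = orderOf b + 1 by rw [hb], pow_succ, pow_orderOf_eq_one, one_mul]] at h3
      exact mem_Cs.mpr h3
    set Pk := ((P : Subgroup G).map (MulAut.conj k).toMonoidHom).subgroupOf C with hPk
    have hle : (P : Subgroup G).map (MulAut.conj k).toMonoidHom ≤ C := by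
      rintro _ ⟨x, hx, rfl⟩
      exact hkC x (hPC hx)
    let S1 : Sylow 5 ↥C := Sylow.ofCard PC (by rw [hfC, hPCc]; norm_num)
    let S2 : Sylow 5 ↥C := Sylow.ofCard Pk (by
      rw [hfC, hPk, Nat.card_congr (subgroupOfEquivOfLe hle).toEquiv,
        card_map_of_injective (MulAut.conj k).injective, d.card_P P]
      norm_num)
    obtain ⟨c, hc⟩ := MulAction.exists_smul_eq ↥C S2 S1
    refine ⟨(c : G) * k, Cfsg.Lib.ZStarApps.mem_normalizer_of_maps fun x hx => ?_, ?_⟩
    · have hm : (⟨k * x * k⁻¹, hkC x (hPC hx)⟩ : ↥C) ∈ (S2 : Subgroup ↥C) :=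
        mem_subgroupOf.mpr (mem_map.mpr ⟨x, hx, rfl⟩)
      have hm2 : MulAut.conj c (⟨k * x * k⁻¹, hkC x (hPC hx)⟩ : ↥C) ∈ (S1 : Subgroup ↥C) := by
        rw [← hc, Sylow.coe_subgroup_smul]
        exact Subgroup.smul_mem_pointwise_smul _ _ _ hm
      have := mem_subgroupOf.mp hm2
      rwa [show ((MulAut.conj c (⟨k * x * k⁻¹, hkC x (hPC hx)⟩ : ↥C) : ↥C) : G) =
        (c : G) * k * x * ((c : G) * k)⁻¹ by simp [mul_assoc]] at this
    · rw [conj_comp, hk]
      have hcb : Commute (c : G) b := mem_Cs.mp c.2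
      rw [(hcb.pow_right 2).eq, mul_inv_cancel_right]

include d in
/-- Conjugate elements of a Sylow subgroup are conjugate in its normalizer. -/
theorem fuse (P : Sylow 5 G) {x y : G} (hx : x ∈ (P : Subgroup G)) (hy : y ∈ (P : Subgroup G)) (h : IsConj x y) :
    ∃ n ∈ normalizer ((P : Subgroup G) : Set G), n * x * n⁻¹ = y := by
  classical
  haveI : Fact (Nat.Prime 5) := ⟨by norm_num⟩
  obtain ⟨g, hg⟩ := isConj_iff.mp h
  set C := centralizer ({y} : Set G) with hC
  have hP : (P : Subgroup G) ≤ C := fun w hw => mem_Cs.mpr (d.P_comm P hw hy)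
  have hQ : (P : Subgroup G).map (MulAut.conj g).toMonoidHom ≤ C := by
    rintro _ ⟨w, hw, rfl⟩
    exact mem_Cs.mpr (hg ▸ (Commute.conj_iff g).mpr (d.P_comm P hw hx))
  have hf : (Nat.card ↥C).factorization 5 = 2 := by
    refine le_antisymm ?_ (((by norm_num : Nat.Prime 5).pow_dvd_iff_le_factorization Nat.card_pos.ne').mp ?_)
    · calc _ ≤ (Nat.card G).factorization 5 :=
            (Nat.factorization_le_iff_dvd Nat.card_pos.ne' Nat.card_pos.ne').mpr (card_subgroup_dvd_card C) 5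
        _ = 2 := d.fact_five
    · rw [show 5 ^ 2 = Nat.card ↥(P : Subgroup G) by rw [d.card_P P]; norm_num]
      exact card_dvd_of_le hP
  let S1 : Sylow 5 ↥C := Sylow.ofCard ((P : Subgroup G).subgroupOf C) (by
    rw [hf, Nat.card_congr (subgroupOfEquivOfLe hP).toEquiv, d.card_P P]; norm_num)
  let S2 : Sylow 5 ↥C := Sylow.ofCard (((P : Subgroup G).map (MulAut.conj g).toMonoidHom).subgroupOf C) (by
    rw [hf, Nat.card_congr (subgroupOfEquivOfLe hQ).toEquiv, card_map_of_injective (MulAut.conj g).injective,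
      d.card_P P]
    norm_num)
  obtain ⟨c, hc⟩ := MulAction.exists_smul_eq ↥C S2 S1
  refine ⟨(c : G) * g, Cfsg.Lib.ZStarApps.mem_normalizer_of_maps fun w hw => ?_, ?_⟩
  · have hmC : g * w * g⁻¹ ∈ C := hQ (mem_map.mpr ⟨w, hw, rfl⟩)
    have hm : (⟨g * w * g⁻¹, hmC⟩ : ↥C) ∈ (S2 : Subgroup ↥C) := mem_subgroupOf.mpr (mem_map.mpr ⟨w, hw, rfl⟩)
    have hm2 : MulAut.conj c (⟨g * w * g⁻¹, hmC⟩ : ↥C) ∈ (S1 : Subgroup ↥C) := by
      rw [← hc, Sylow.coe_subgroup_smul]
      exact Subgroup.smul_mem_pointwise_smul _ _ _ hm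
    have := mem_subgroupOf.mp hm2
    rwa [show ((MulAut.conj c (⟨g * w * g⁻¹, hmC⟩ : ↥C) : ↥C) : G) = (c : G) * g * w * ((c : G) * g)⁻¹ by
      simp [mul_assoc]] at this
  · rw [conj_comp, hg, (mem_Cs.mp c.2).eq, mul_inv_cancel_right]

/-- No element of order three in the normalizer fixes a line. -/
theorem three_free {b : G} (hb : orderOf b = 5) (hbt : Commute b d.t) (P : Sylow 5 G) (hbP : b ∈ (P : Subgroup G))
    {σ x : G} (hσ : orderOf σ = 3) (hσN : σ ∈ normalizer ((P : Subgroup G) : Set G))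
    (hx : x ∈ (P : Subgroup G)) (hxo : orderOf x = 5) (hσx : σ * x * σ⁻¹ ∈ zpowers x) : False := by
  classical
  haveI : Fact (Nat.Prime 3) := ⟨Nat.prime_three⟩
  have hfix : σ * x * σ⁻¹ = x := by
    rw [mem_zpowers_iff_mem_range_orderOf, hxo] at hσx
    simp only [Finset.mem_image, Finset.mem_range] at hσx
    obtain ⟨i, hi, e⟩ := hσx
    have h1 : σ * x ^ i * σ⁻¹ = x ^ (i * i) := by rw [← conj_pow, ← e, ← pow_mul]
    have h2 : σ * x ^ (i * i) * σ⁻¹ = x ^ (i * (i * i)) := by rw [← conj_pow, ← e, ← pow_mul]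
    have h3 : x ^ (i * (i * i)) = x ^ 1 := by
      rw [← h2, ← h1, e, pow_one]
      calc σ * (σ * (σ * x * σ⁻¹) * σ⁻¹) * σ⁻¹ = σ ^ 3 * x * (σ ^ 3)⁻¹ := by rw [pow_succ, pow_two]; group
        _ = x := by rw [← hσ, pow_orderOf_eq_one]; group
    rw [pow_eq_pow_iff_modEq, hxo] at h3
    have hi1 : i = 1 := by
      interval_cases i
      all_goals first | rfl | (exfalso; revert h3; decide)
    rw [← e, hi1, pow_one]
  let H := zpowers σ
  have hH : H ≤ normalizer ((P : Subgroup G) : Set G) := zpowers_le.mpr hσN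
  letI : MulAction ↥H ↥(P : Subgroup G) :=
    { smul := fun h w => ⟨h.1 * w.1 * h.1⁻¹, (mem_normalizer_iff.mp (hH h.2) w.1).mp w.2⟩
      one_smul := fun w => Subtype.ext (by show (1 : G) * w.1 * (1 : G)⁻¹ = w.1; simp)
      mul_smul := fun a c w => Subtype.ext (by
        show a.1 * c.1 * w.1 * (a.1 * c.1)⁻¹ = a.1 * (c.1 * w.1 * c.1⁻¹) * a.1⁻¹
        group) }
  have hmod := (IsPGroup.of_card (p := 3) (n := 1) (show Nat.card ↥H = 3 ^ 1 by
    rw [Nat.card_zpowers, hσ, pow_one])).card_modEq_card_fixedPoints ↥(P : Subgroup G)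
  set Fx := (P : Subgroup G) ⊓ centralizer ({σ} : Set G) with hFx
  have hFc : Nat.card (MulAction.fixedPoints ↥H ↥(P : Subgroup G)) = Nat.card ↥Fx := by
    refine Nat.card_congr
      { toFun := fun w => ⟨w.1.1, mem_inf.mpr ⟨w.1.2, mem_Cs.mpr ?_⟩⟩
        invFun := fun w => ⟨⟨w.1, (mem_inf.mp w.2).1⟩, fun h => Subtype.ext ?_⟩
        left_inv := fun _ => rfl
        right_inv := fun _ => rfl }
    · have := congrArg Subtype.val (w.2 ⟨σ, mem_zpowers σ⟩)
      exact (mul_inv_eq_iff_eq_mul.mp this).symm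
    · show h.1 * w.1 * h.1⁻¹ = w.1
      rw [(commute_of_mem_zpowers (mem_Cs.mp (mem_inf.mp w.2).2) h.2).symm.eq, mul_inv_cancel_right]
  rw [hFc, d.card_P P] at hmod
  have hdvd : Nat.card ↥Fx ∣ 5 ^ 2 := by
    have := card_dvd_of_le (inf_le_left : Fx ≤ (P : Subgroup G))
    rw [d.card_P P] at this
    exact this
  obtain ⟨j, hj, hje⟩ := (Nat.dvd_prime_pow (by norm_num)).mp hdvd
  have hxF : x ∈ Fx := mem_inf.mpr ⟨hx, mem_Cs.mpr (mul_inv_eq_iff_eq_mul.mp hfix).symm⟩
  rw [hje] at hmod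
  interval_cases j
  · have := (eq_bot_iff_forall _).mp (card_eq_one.mp (by rw [hje, pow_zero])) x hxF
    rw [this, orderOf_one] at hxo
    norm_num at hxo
  · exact absurd hmod (by decide)
  · have heq : Fx = (P : Subgroup G) := eq_of_le_of_card_ge inf_le_left (by rw [hje, d.card_P P]; norm_num)
    have hσP := (d.five_local hb hbt P hbP).2.1 σ fun y hy => (mem_Cs.mp (mem_inf.mp (heq.symm ▸ hy : y ∈ Fx)).2).symm
    have := orderOf_dvd_natCard (⟨σ, hσP⟩ : ↥(P : Subgroup G))
    rw [Subgroup.orderOf_mk, hσ, d.card_P P] at this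
    norm_num at this

include d in
theorem exists_conj_mem (P : Sylow 5 G) {x : G} (hx : orderOf x = 5) : ∃ g, g * x * g⁻¹ ∈ (P : Subgroup G) := by
  haveI : Fact (Nat.Prime 5) := ⟨by norm_num⟩
  obtain ⟨Q, hQ⟩ := (IsPGroup.of_card (p := 5) (n := 1) (show Nat.card ↥(zpowers x) = 5 ^ 1 by
    rw [Nat.card_zpowers, hx, pow_one])).exists_le_sylow
  obtain ⟨g, hg⟩ := MulAction.exists_smul_eq G Q P
  refine ⟨g, ?_⟩
  rw [← hg, Sylow.coe_subgroup_smul]
  exact Subgroup.smul_mem_pointwise_smul x _ _ (hQ (mem_zpowers x))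

/-- The numerical structure of the normalizer: its order and the three lines of the first kind. -/
theorem five_count {b : G} (hb : orderOf b = 5) (hbt : Commute b d.t) (P : Sylow 5 G) (hbP : b ∈ (P : Subgroup G)) :
    Nat.card ↥(normalizer ((P : Subgroup G) : Set G)) = 600 ∧
      ∃ a, a ∈ (P : Subgroup G) ∧ orderOf a = 5 ∧ (∀ g, g * a * g⁻¹ ∉ zpowers b) ∧
        Nat.card ↥(normalizer ((P : Subgroup G) : Set G) ⊓ normalizer (zpowers a : Set G)) = 200 ∧
        ∀ x ∈ (P : Subgroup G), x ≠ 1 → ¬ IsConj b x →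
          ∃ n ∈ normalizer ((P : Subgroup G) : Set G), x ∈ zpowers (n * a * n⁻¹) := by
  classical
  haveI : Fact (Nat.Prime 5) := ⟨by norm_num⟩
  set N := normalizer ((P : Subgroup G) : Set G) with hN
  obtain ⟨h50, -, k, hkN, hk⟩ := d.five_local hb hbt P hbP
  have hPN : (P : Subgroup G) ≤ N := le_normalizer
  have hpow2 : ∀ i : ℕ, (b ^ i) ^ 2 = b ^ (i * 2) := fun i => (pow_mul b i 2).symm
  -- the elements of the second kind
  let EB := {x : G // x ∈ (P : Subgroup G) ∧ IsConj b x}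
  have hEBN : Nat.card EB * 50 = Nat.card ↥N := by
    have h := orbit_mul_stab N b
    rw [inf_comm, h50] at h
    rw [← h]
    congr 1
    refine Nat.card_congr (Equiv.subtypeEquivRight fun x => ⟨fun hx => d.fuse P hbP hx.1 hx.2, ?_⟩)
    rintro ⟨n, hn, rfl⟩
    exact ⟨(mem_normalizer_iff.mp hn b).mp hbP, isConj_iff.mpr ⟨n, rfl⟩⟩
  -- the stabilizer of the line
  set S := N ⊓ normalizer (zpowers b : Set G) with hS
  have hkS : k ∈ S := by
    refine mem_inf.mpr ⟨hkN, Cfsg.Lib.ZStarApps.mem_normalizer_of_maps fun w hw => ?_⟩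
    obtain ⟨i, rfl⟩ := hw
    show k * b ^ i * k⁻¹ ∈ zpowers b
    rw [← conj_zpow, hk]
    exact zpow_mem (pow_mem (mem_zpowers b) 2) i
  have hSc : Nat.card ↥S = 200 := by
    have h := orbit_mul_stab S b
    have hst : S ⊓ centralizer ({b} : Set G) = centralizer ({b} : Set G) ⊓ N := by
      refine le_antisymm (fun w hw => ⟨(mem_inf.mp hw).2, (mem_inf.mp (mem_inf.mp hw).1).1⟩) fun w hw => ?_
      exact ⟨⟨(mem_inf.mp hw).2, centralizer_le_normalizer _ (centralizer_zpowers b ▸ (mem_inf.mp hw).1)⟩,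
        (mem_inf.mp hw).1⟩
    rw [hst, h50] at h
    have ho : Nat.card {y : G // ∃ w ∈ S, w * b * w⁻¹ = y} = 4 := by
      have hset : ∀ y, (∃ w ∈ S, w * b * w⁻¹ = y) ↔ y ∈ zpowers b ∧ y ≠ 1 := by
        intro y
        constructor
        · rintro ⟨w, hw, rfl⟩
          refine ⟨(mem_normalizer_iff.mp (mem_inf.mp hw).2 b).mp (mem_zpowers b), fun e => ?_⟩
          rw [conj_eq_one_iff.mp e, orderOf_one] at hb
          norm_num at hb
        · rintro ⟨hy, hy1⟩
          rw [mem_zpowers_iff_mem_range_orderOf, hb] at hy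
          simp only [Finset.mem_image, Finset.mem_range] at hy
          obtain ⟨i, hi, rfl⟩ := hy
          have k2 : k ^ 2 * b * (k ^ 2)⁻¹ = b ^ 4 := by
            rw [pow_two, conj_comp, hk, ← conj_pow, hk, ← pow_mul]
          have k3 : k ^ 3 * b * (k ^ 3)⁻¹ = b ^ 3 := by
            rw [pow_succ', conj_comp, k2, ← conj_pow, hk, ← pow_mul,
              show (2 * 4 : ℕ) = orderOf b + 3 by rw [hb], pow_add, pow_orderOf_eq_one, one_mul]
          interval_cases i
          · exact absurd (pow_zero b) hy1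
          · exact ⟨1, one_mem _, by simp⟩
          · exact ⟨k, hkS, hk⟩
          · exact ⟨k ^ 3, pow_mem hkS 3, k3⟩
          · exact ⟨k ^ 2, pow_mem hkS 2, k2⟩
      rw [Nat.card_congr (Equiv.subtypeEquivRight hset)]
      have h' := Set.ncard_sdiff_singleton_of_mem (s := (zpowers b : Set G)) (a := 1) (one_mem _)
      rw [← Nat.card_coe_set_eq, ← Nat.card_coe_set_eq] at h'
      rw [show Nat.card ↥(zpowers b : Set G) = 5 from (Nat.card_zpowers b).trans hb] at h'
      exact h'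
    rw [ho] at h
    omega
  -- an element of the first kind
  obtain ⟨a0, ha0, haz⟩ := d.exists_A
  obtain ⟨g0, hg0⟩ := d.exists_conj_mem P ha0
  set a := g0 * a0 * g0⁻¹ with ha
  have hao : orderOf a = 5 := by
    rw [ha, show g0 * a0 * g0⁻¹ = MulAut.conj g0 a0 from rfl, MulEquiv.orderOf_eq, ha0]
  have hline : ∀ n y : G, y ∈ zpowers (n * a * n⁻¹) → y ≠ 1 → ¬ IsConj b y := by
    intro n y hy hy1 hcj
    have ho : orderOf (n * a * n⁻¹) = 5 := by
      rw [show n * a * n⁻¹ = MulAut.conj n a from rfl, MulEquiv.orderOf_eq, hao]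
    obtain ⟨-, he⟩ := order_five_of_mem ho hy hy1
    obtain ⟨g, hg⟩ := isConj_iff.mp hcj
    have hm : n * a * n⁻¹ ∈ zpowers y := he.symm ▸ mem_zpowers _
    obtain ⟨i, hi⟩ := hm
    refine d.A_not_B ha0 haz hb hbt (g⁻¹ * n * g0) ⟨i, ?_⟩
    have hi' : y ^ i = n * a * n⁻¹ := hi
    calc b ^ i = g⁻¹ * (g * b ^ i * g⁻¹) * g := by group
      _ = g⁻¹ * (n * a * n⁻¹) * g := by rw [← conj_zpow, hg, hi']
      _ = _ := by rw [ha]; group
  let EA := {x : G // x ∈ (P : Subgroup G) ∧ x ≠ 1 ∧ ¬ IsConj b x}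
  have hsplit : Nat.card EA + Nat.card EB = 24 := by
    have h' := Set.ncard_sdiff_singleton_of_mem (s := ((P : Subgroup G) : Set G)) (a := 1) (one_mem _)
    rw [← Nat.card_coe_set_eq, ← Nat.card_coe_set_eq] at h'
    rw [show Nat.card ↥((P : Subgroup G) : Set G) = 25 from d.card_P P] at h'
    have e : Nat.card {x : G // x ∈ (P : Subgroup G) ∧ x ≠ 1} = 24 := h'
    rw [← Nat.card_congr (Equiv.sumCompl fun x : {x : G // x ∈ (P : Subgroup G) ∧ x ≠ 1} => IsConj b x.1),
      Nat.card_sum] at e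
    rw [← e, add_comm]
    congr 1
    · refine Nat.card_congr
        { toFun := fun x => ⟨⟨x.1, x.2.1, fun h => ?_⟩, x.2.2⟩
          invFun := fun x => ⟨x.1.1, x.1.2.1, x.2⟩
          left_inv := fun _ => rfl
          right_inv := fun _ => rfl }
      obtain ⟨g, hg⟩ := isConj_iff.mp x.2.2
      have hb1 := conj_eq_one_iff.mp (hg.trans h)
      rw [hb1, orderOf_one] at hb
      norm_num at hb
    · exact Nat.card_congr
        { toFun := fun x => ⟨⟨x.1, x.2.1, x.2.2.1⟩, x.2.2.2⟩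
          invFun := fun x => ⟨x.1.1, x.1.2.1, x.1.2.2, x.2⟩
          left_inv := fun _ => rfl
          right_inv := fun _ => rfl }
  -- conjugates of the line inside the elements of the first kind
  set Sa := N ⊓ normalizer (zpowers a : Set G) with hSa
  set Sa' := Sa.subgroupOf N with hSa'
  let f : (↥N ⧸ Sa') × Fin 4 → EA := fun u =>
    ⟨(u.1.out : G) * a ^ (u.2.1 + 1) * (u.1.out : G)⁻¹,
      (mem_normalizer_iff.mp u.1.out.2 _).mp (pow_mem hg0 _),
      fun e => pow_five_ne hao (by omega) (by have := u.2.2; omega) (conj_eq_one_iff.mp e),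
      hline (u.1.out : G) _ (by rw [← conj_pow]; exact pow_mem (mem_zpowers _) _)
        fun e => pow_five_ne hao (by omega) (by have := u.2.2; omega) (conj_eq_one_iff.mp e)⟩
  have hinj : Function.Injective f := by
    rintro ⟨q, i⟩ ⟨q', i'⟩ e
    have e' : (q.out : G) * a ^ (i.1 + 1) * (q.out : G)⁻¹ = (q'.out : G) * a ^ (i'.1 + 1) * (q'.out : G)⁻¹ :=
      congrArg Subtype.val e
    have hne : ∀ j : Fin 4, a ^ (j.1 + 1) ≠ 1 := fun j => pow_five_ne hao (by omega) (by have := j.2; omega)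
    set w := (q.out : G)⁻¹ * (q'.out : G) with hw
    have hwa : w * a ^ (i'.1 + 1) * w⁻¹ = a ^ (i.1 + 1) := by
      calc w * a ^ (i'.1 + 1) * w⁻¹ = (q.out : G)⁻¹ * ((q'.out : G) * a ^ (i'.1 + 1) * (q'.out : G)⁻¹) * (q.out : G) := by
            rw [hw]; group
        _ = _ := by rw [← e']; group
    have hwN : w ∈ normalizer (zpowers a : Set G) := by
      refine Cfsg.Lib.ZStarApps.mem_normalizer_of_maps fun y hy => ?_
      obtain ⟨-, he⟩ := order_five_of_mem hao (pow_mem (mem_zpowers a) (i'.1 + 1)) (hne i')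
      obtain ⟨j, rfl⟩ := (he.symm ▸ hy : y ∈ zpowers (a ^ (i'.1 + 1)))
      show w * (a ^ (i'.1 + 1)) ^ j * w⁻¹ ∈ zpowers a
      rw [← conj_zpow, hwa]
      exact zpow_mem (pow_mem (mem_zpowers a) _) _
    have hq : q = q' := by
      rw [← QuotientGroup.out_eq' q, ← QuotientGroup.out_eq' q']
      exact QuotientGroup.eq.mpr (mem_subgroupOf.mpr (mem_inf.mpr ⟨mul_mem (inv_mem q.out.2) q'.out.2, hwN⟩))
    subst hq
    have h1 := mul_left_cancel (mul_right_cancel e')
    rw [pow_eq_pow_iff_modEq, hao] at h1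
    have : i = i' := by
      refine Fin.ext ?_
      unfold Nat.ModEq at h1
      have := i.2; have := i'.2
      omega
    rw [this]
  have hSaN : Nat.card ↥Sa' = Nat.card ↥Sa := Nat.card_congr (subgroupOfEquivOfLe inf_le_left).toEquiv
  have h3 : ¬ 3 ∣ Nat.card ↥Sa := by
    intro hd
    haveI : Fact (Nat.Prime 3) := ⟨Nat.prime_three⟩
    obtain ⟨σ, hσ⟩ := exists_prime_orderOf_dvd_card' 3 hd
    rw [← Subgroup.orderOf_coe] at hσ
    exact d.three_free hb hbt P hbP hσ (mem_inf.mp σ.2).1 hg0 hao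
      ((mem_normalizer_iff.mp (mem_inf.mp σ.2).2 a).mp (mem_zpowers a))
  have hidx := card_eq_card_quotient_mul_card_subgroup Sa'
  rw [hSaN] at hidx
  have hle := Nat.card_le_card_of_injective f hinj
  rw [Nat.card_prod, Nat.card_eq_fintype_card (α := Fin 4), Fintype.card_fin] at hle
  have hq1 : 0 < Nat.card (↥N ⧸ Sa') := Nat.card_pos
  have hS200 : 200 ∣ Nat.card ↥N := hSc ▸ card_dvd_of_le (inf_le_left : S ≤ N)
  obtain ⟨k', hk'⟩ := hS200
  have hmod := card_sylow_modEq_one 5 G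
  rw [P.card_eq_index_normalizer] at hmod
  have hidxG := N.card_mul_index
  rw [d.card_G, hk'] at hidxG
  have hk5 : k' = 3 := by
    have hm : N.index % 5 = 1 := Nat.mod_eq_of_modEq hmod (by norm_num)
    have hk1 : k' ≤ 5 := by omega
    interval_cases k' <;> omega
  subst hk5
  refine ⟨hk', a, hg0, hao, fun g => ?_, ?_, ?_⟩
  · have h := d.A_not_B ha0 haz hb hbt (g * g0)
    rwa [show g * g0 * a0 * (g * g0)⁻¹ = g * a * g⁻¹ by rw [ha]; group] at h
  · have hd3 : 3 ∣ Nat.card (↥N ⧸ Sa') := by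
      have h : 3 ∣ Nat.card (↥N ⧸ Sa') * Nat.card ↥Sa := by rw [← hidx, hk']; norm_num
      exact (Nat.prime_three.dvd_mul.mp h).resolve_right h3
    have hq3 : Nat.card (↥N ⧸ Sa') = 3 := by omega
    rw [hk', hq3] at hidx
    show Nat.card ↥Sa = 200
    omega
  · intro x hx hx1 hxb
    have hd3 : 3 ∣ Nat.card (↥N ⧸ Sa') := by
      have h : 3 ∣ Nat.card (↥N ⧸ Sa') * Nat.card ↥Sa := by rw [← hidx, hk']; norm_num
      exact (Nat.prime_three.dvd_mul.mp h).resolve_right h3
    have hbij : Function.Bijective f := (Nat.bijective_iff_injective_and_card f).mpr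
      ⟨hinj, by rw [Nat.card_prod, Nat.card_eq_fintype_card (α := Fin 4), Fintype.card_fin]; omega⟩
    obtain ⟨⟨q, i⟩, hu⟩ := hbij.2 ⟨x, hx, hx1, hxb⟩
    refine ⟨q.out, q.out.2, ?_⟩
    have e : (q.out : G) * a ^ (i.1 + 1) * (q.out : G)⁻¹ = x := congrArg Subtype.val hu
    rw [← e, ← conj_pow]
    exact pow_mem (mem_zpowers _) _

end Four

end Cfsg.Lib.SuzukiType
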