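import Cfsg.Agent.SuzukiType.Local.Standard
import Mathlib.GroupTheory.Perm.Cycle.Type

/-!
The four-group attached to a commuting pair from the two classes and the element of order three permuting the pair.
-/

set_option autoImplicit false
set_option maxRecDepth 100000
set_option maxHeartbeats 1000000
set_option linter.unusedSectionVars false
set_option linter.style.haveILetI false

namespace Cfsg.Lib.SuzukiType

open Subgroup Cfsg.Lib.SuzukiType.Code Cfsg.Lib.SuzukiType.Local Cfsg.Lib.SuzukiType.Local.Frm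

universe u

variable {G : Type u} [Group G] [Finite G] {z : G}

/-- The distinguished elements for a standard representative. -/
structure Four (z : G) extends Std z where
  y : G
  y_S : y ∈ toStd.toSec.S
  y_sq : y * y = 1
  φy : toStd.φ y = Y0
  y_s : y * s * y⁻¹ = z * s
  g : G
  g_t : Commute g (q0 * r0)
  g_cube : g * g * g = 1
  g_E : (g * z * g⁻¹ = s ∧ g * s * g⁻¹ = z * s) ∨ (g * z * g⁻¹ = z * s ∧ g * s * g⁻¹ = z)

theorem Std.exists_swap (d : Std z) : ∃ k, Commute k d.t ∧ k * z * k⁻¹ = d.s ∧ k * d.s * k⁻¹ = z := by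
  have hk2 : d.T (d.k * d.k) := by
    constructor
    · refine mul_inv_eq_iff_eq_mul.mp ?_
      rw [show d.k * d.k * z * (d.k * d.k)⁻¹ = d.k * (d.k * z * d.k⁻¹) * d.k⁻¹ by group, d.kz, d.ks]
    · refine mul_inv_eq_iff_eq_mul.mp ?_
      rw [show d.k * d.k * d.s * (d.k * d.k)⁻¹ = d.k * (d.k * d.s * d.k⁻¹) * d.k⁻¹ by group, d.ks, d.kz]
  set a := d.k⁻¹ * d.r0 * d.k with ha
  set r := d.k⁻¹ * d.q0 * d.k with hr
  have hA : d.A a := d.R_conj.mp d.hr0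
  have hR : d.R r := by
    rw [d.R_conj]
    have := d.A_norm (d.T_inv hk2) d.hq0
    rwa [show (d.k * d.k)⁻¹ * d.q0 * (d.k * d.k)⁻¹⁻¹ = d.k⁻¹ * r * d.k by rw [hr]; simp [mul_assoc]] at this
  have hR' := d.R_norm (d.T_inv (d.A_T hA)) hR
  have heq : d.k⁻¹ * d.t * d.k = a * (a⁻¹ * r * a⁻¹⁻¹) := by
    rw [show d.t = d.q0 * d.r0 from rfl, ha, hr]; group
  set r' := a⁻¹ * r * a⁻¹⁻¹
  have ht : IsConj d.t (d.k⁻¹ * d.t * d.k) := isConj_iff.mpr ⟨d.k⁻¹, by group⟩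
  have hsq : a * r' * (a * r') = 1 := by
    rw [← heq, show d.k⁻¹ * d.t * d.k * (d.k⁻¹ * d.t * d.k) = d.k⁻¹ * (d.t * d.t) * d.k by group, d.t_sq]; simp
  have hb : d.β r' ≠ 0 := fun e => by
    have hQ : a * r' ∈ d.Q := mul_mem hA.1 ((d.β_zero hR').mp e)
    have hne : a * r' ≠ 1 := fun e' => by
      rw [← heq, show d.k⁻¹ * d.t * d.k = d.k⁻¹ * d.t * d.k⁻¹⁻¹ by group, conj_eq_one_iff] at e'
      exact d.t_ne e'
    exact d.not_conj ((d.Q_invol hQ hsq hne).trans (heq ▸ ht).symm)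
  rcases d.toSec.prod_class hA hR' hb hsq with ⟨-, hz⟩ | ⟨qa, qb, qp, -⟩
  · exact absurd (hz.trans (heq ▸ ht).symm) d.not_conj
  · obtain ⟨x, hx, e⟩ := d.toSec.tt_conj_T hA hR' qa qb qp
    refine ⟨x⁻¹ * d.k⁻¹, ?_, ?_, ?_⟩
    · refine mul_inv_eq_iff_eq_mul.mp ?_
      rw [show x⁻¹ * d.k⁻¹ * d.t * (x⁻¹ * d.k⁻¹)⁻¹ = x⁻¹ * (d.k⁻¹ * d.t * d.k) * x by group, heq, ← e]
      group
    · rw [show x⁻¹ * d.k⁻¹ * z * (x⁻¹ * d.k⁻¹)⁻¹ = x⁻¹ * (d.k⁻¹ * z * d.k) * x by group, d.kinv_z, mul_assoc,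
        ← hx.2.eq]
      group
    · rw [show x⁻¹ * d.k⁻¹ * d.s * (x⁻¹ * d.k⁻¹)⁻¹ = x⁻¹ * (d.k⁻¹ * d.s * d.k) * x by group, d.kinv_s, mul_assoc,
        ← hx.1.eq]
      group

theorem conj_comp (a b x : G) : (a * b) * x * (a * b)⁻¹ = a * (b * x * b⁻¹) * a⁻¹ := by group

theorem conj_pow_cycle {g a b c : G} (hab : g * a * g⁻¹ = b) (hbc : g * b * g⁻¹ = c) (hca : g * c * g⁻¹ = a) :
    ∀ n : ℕ, (n % 3 = 0 → g ^ n * a * (g ^ n)⁻¹ = a ∧ g ^ n * b * (g ^ n)⁻¹ = b) ∧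
      (n % 3 = 1 → g ^ n * a * (g ^ n)⁻¹ = b ∧ g ^ n * b * (g ^ n)⁻¹ = c) ∧
      (n % 3 = 2 → g ^ n * a * (g ^ n)⁻¹ = c ∧ g ^ n * b * (g ^ n)⁻¹ = a) := by
  intro n
  induction n with
  | zero => exact ⟨fun _ => by simp, fun h => by omega, fun h => by omega⟩
  | succ n ih =>
    obtain ⟨i0, i1, i2⟩ := ih
    rw [pow_succ', conj_comp, conj_comp]
    refine ⟨fun h => ?_, fun h => ?_, fun h => ?_⟩
    · obtain ⟨e1, e2⟩ := i2 (by omega); rw [e1, e2]; exact ⟨hca, hab⟩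
    · obtain ⟨e1, e2⟩ := i0 (by omega); rw [e1, e2]; exact ⟨hab, hbc⟩
    · obtain ⟨e1, e2⟩ := i1 (by omega); rw [e1, e2]; exact ⟨hbc, hca⟩

theorem Ctx.exists_four (c : Ctx z) : Nonempty (Four z) := by
  obtain ⟨d⟩ := c.exists_std
  obtain ⟨y, hy, hyy, hφ, hys⟩ := d.exists_Y
  obtain ⟨k, hkt, hkz, hks⟩ := d.exists_swap
  have hyz : y * z * y⁻¹ = z := by rw [(d.mem_S.mp hy).1.eq, mul_inv_cancel_right]
  set g0 := k * y with hg0
  have kzs : k * (z * d.s) * k⁻¹ = z * d.s := by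
    rw [show k * (z * d.s) * k⁻¹ = k * z * k⁻¹ * (k * d.s * k⁻¹) by group, hkz, hks, d.sz.eq]
  have c1 : g0 * z * g0⁻¹ = d.s := by rw [hg0, conj_comp, hyz, hkz]
  have c2 : g0 * d.s * g0⁻¹ = z * d.s := by rw [hg0, conj_comp, hys, kzs]
  have c3 : g0 * (z * d.s) * g0⁻¹ = z := by
    rw [show g0 * (z * d.s) * g0⁻¹ = g0 * z * g0⁻¹ * (g0 * d.s * g0⁻¹) by group, c1, c2, ← mul_assoc, d.sz.eq,
      mul_assoc, d.ss, mul_one]
  have h0t : Commute g0 d.t := hkt.mul_left (d.mem_S.mp hy).2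
  obtain ⟨a, m, hm, hn⟩ := Nat.exists_eq_two_pow_mul_odd (orderOf_pos g0).ne'
  set g := g0 ^ 2 ^ a with hg
  have hgm : g ^ m = 1 := by rw [hg, ← pow_mul, ← hn, pow_orderOf_eq_one]
  have hgt : Commute g d.t := h0t.pow_left _
  have hmod : (2 ^ a) % 3 = 1 ∨ (2 ^ a) % 3 = 2 := by
    clear hn hgm hgt g hg
    induction a with
    | zero => exact Or.inl rfl
    | succ b ih => rw [pow_succ, Nat.mul_mod]; rcases ih with h | h <;> rw [h] <;> simp
  have hcyc := conj_pow_cycle c1 c2 c3 (2 ^ a)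
  have h3 : g * g * g = 1 := by
    have e3 : g * g * g = g0 ^ (3 * 2 ^ a) := by rw [hg, ← pow_add, ← pow_add]; congr 1; ring
    obtain ⟨z3, s3⟩ := (conj_pow_cycle c1 c2 c3 (3 * 2 ^ a)).1 (by omega)
    rw [← e3] at z3 s3
    have hS1 : g * g * g ∈ d.S1 := d.mem_S1.mpr ⟨⟨mul_inv_eq_iff_eq_mul.mp z3, mul_inv_eq_iff_eq_mul.mp s3⟩,
      (hgt.mul_left hgt).mul_left hgt⟩
    have h1 : orderOf (g * g * g) ∣ 256 := by
      rw [← d.card_S1, ← Subgroup.orderOf_mk _ hS1]; exact orderOf_dvd_natCard _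
    have h2 : orderOf (g * g * g) ∣ m := orderOf_dvd_of_pow_eq_one (by
      rw [show g * g * g = g ^ 3 by rw [pow_succ, pow_two], ← pow_mul, mul_comm, pow_mul, hgm, one_pow])
    have hco : Nat.Coprime 256 m := by
      have h2m : Nat.Coprime 2 m := (Nat.prime_two.coprime_iff_not_dvd).mpr fun hd => by
        obtain ⟨c, hc⟩ := hd; obtain ⟨j, hj⟩ := hm; omega
      simpa using h2m.pow_left 8
    exact orderOf_eq_one_iff.mp (Nat.eq_one_of_dvd_coprimes hco h1 h2)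
  exact ⟨{
    toStd := d, y := y, y_S := hy, y_sq := hyy, φy := hφ, y_s := hys, g := g, g_t := hgt, g_cube := h3
    g_E := hmod.elim (fun h => Or.inl (hcyc.2.1 h)) fun h => Or.inr (hcyc.2.2 h) }⟩

namespace Four

variable (d : Four z)

theorem g_t' : Commute d.g d.t := d.g_t

theorem y_C : Commute d.y z := (d.mem_S.mp d.y_S).1

theorem y_t : Commute d.y d.t := (d.mem_S.mp d.y_S).2

theorem y_inv : d.y⁻¹ = d.y := inv_eq_of_mul_eq_one_right d.y_sq

/-- The three involutions of the distinguished four-group. -/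
def Tri (x : G) : Prop := x = z ∨ x = d.s ∨ x = z * d.s

theorem g_Tri {x : G} (hx : d.Tri x) : d.Tri (d.g * x * d.g⁻¹) := by
  have e3 : d.g * (z * d.s) * d.g⁻¹ = d.g * z * d.g⁻¹ * (d.g * d.s * d.g⁻¹) := by group
  rcases d.g_E with ⟨h1, h2⟩ | ⟨h1, h2⟩ <;> rcases hx with rfl | rfl | rfl
  · exact Or.inr (Or.inl h1)
  · exact Or.inr (Or.inr h2)
  · rw [e3, h1, h2, ← mul_assoc, d.sz.eq, mul_assoc, d.ss, mul_one]; exact Or.inl rfl
  · exact Or.inr (Or.inr h1)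
  · exact Or.inl h2
  · rw [e3, h1, h2, mul_assoc, d.sz.eq, ← mul_assoc, d.X.zz, one_mul]; exact Or.inr (Or.inl rfl)

theorem g_Tri_move {x : G} (hx : d.Tri x) : d.g * x * d.g⁻¹ ≠ x := by
  obtain ⟨a1, a2, a3⟩ := d.zs_ne
  obtain ⟨s1, s2⟩ := d.s_ne
  have e3 : d.g * (z * d.s) * d.g⁻¹ = d.g * z * d.g⁻¹ * (d.g * d.s * d.g⁻¹) := by group
  rcases d.g_E with ⟨h1, h2⟩ | ⟨h1, h2⟩ <;> rcases hx with rfl | rfl | rfl
  · rw [h1]; exact s2
  · rw [h2]; exact a3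
  · rw [e3, h1, h2, ← mul_assoc, d.sz.eq, mul_assoc, d.ss, mul_one]; exact a2.symm
  · rw [h1]; exact a2
  · rw [h2]; exact s2.symm
  · rw [e3, h1, h2, mul_assoc, d.sz.eq, ← mul_assoc, d.X.zz, one_mul]; exact a3.symm

/-- An element fixing both involutions and permuting the three normalises their centralizer. -/
theorem normal_S1 {n : G} (hnt : Commute n d.t) (hn : ∀ x, d.Tri x → d.Tri (n⁻¹ * x * n)) {x : G}
    (hx : x ∈ d.S1) : n * x * n⁻¹ ∈ d.S1 := by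
  obtain ⟨⟨hz, hs⟩, ht⟩ := d.mem_S1.mp hx
  have hc : ∀ v, d.Tri v → Commute x v := fun v hv => by
    rcases hv with rfl | rfl | rfl
    · exact hz
    · exact hs
    · exact hz.mul_right hs
  have key : ∀ v, d.Tri v → Commute (n * x * n⁻¹) v := fun v hv => by
    rw [show v = n * (n⁻¹ * v * n) * n⁻¹ by group]
    exact (Commute.conj_iff n).mpr (hc _ (hn v hv))
  refine d.mem_S1.mpr ⟨⟨key _ (Or.inl rfl), key _ (Or.inr (Or.inl rfl))⟩, ?_⟩
  have h := (Commute.conj_iff n).mpr ht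
  rwa [hnt.eq, mul_inv_cancel_right] at h

theorem g_inv : d.g⁻¹ = d.g * d.g := inv_eq_of_mul_eq_one_right (by rw [← mul_assoc]; exact d.g_cube)

theorem g_S1 {x : G} (hx : x ∈ d.S1) : d.g * x * d.g⁻¹ ∈ d.S1 := d.normal_S1 d.g_t' (fun v hv => by
  have h := d.g_Tri (d.g_Tri hv)
  have hg : d.g⁻¹⁻¹ = (d.g * d.g)⁻¹ := congrArg (·⁻¹) d.g_inv
  rw [← inv_inv d.g] at hg
  rwa [show d.g⁻¹ * v * d.g = d.g * (d.g * v * d.g⁻¹) * d.g⁻¹ by
    rw [← conj_comp, ← d.g_inv]; group]) hx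

theorem S_Tri {x : G} (hx : x ∈ d.S) {v : G} (hv : d.Tri v) : d.Tri (x * v * x⁻¹) := by
  have hz : x * z * x⁻¹ = z := by rw [(d.mem_S.mp hx).1.eq, mul_inv_cancel_right]
  have e3 : x * (z * d.s) * x⁻¹ = z * (x * d.s * x⁻¹) := by
    rw [show x * (z * d.s) * x⁻¹ = x * z * x⁻¹ * (x * d.s * x⁻¹) by group, hz]
  rcases hv with rfl | rfl | rfl
  · rw [hz]; exact Or.inl rfl
  · rcases d.toSec.S_pair hx with e | e <;> rw [e]
    · exact Or.inr (Or.inl rfl)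
    · exact Or.inr (Or.inr rfl)
  · rw [e3]
    rcases d.toSec.S_pair hx with e | e <;> rw [e]
    · exact Or.inr (Or.inr rfl)
    · rw [← mul_assoc, d.X.zz, one_mul]; exact Or.inr (Or.inl rfl)

theorem S_S1 {n x : G} (hn : n ∈ d.S) (hx : x ∈ d.S1) : n * x * n⁻¹ ∈ d.S1 :=
  d.normal_S1 (d.mem_S.mp hn).2 (fun v hv => by
    have := d.S_Tri (inv_mem hn) hv
    rwa [inv_inv] at this) hx

/-- The centre of the centralizer of the pair of involutions. -/
def M : Subgroup G := d.S1 ⊓ centralizer (d.S1 : Set G)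

theorem mem_M {x : G} : x ∈ d.M ↔ x ∈ d.S1 ∧ ∀ w ∈ d.S1, Commute x w := by
  rw [M, mem_inf, mem_centralizer_iff]
  exact and_congr_right fun _ => ⟨fun h w hw => (h w hw).symm, fun h w hw => (h w hw).symm.eq⟩

/-- Products of two involutions exhaust the centralizer of the pair up to the centre. -/
theorem S1_gen {w : G} (hw : w ∈ d.S1) : ∃ a ∈ d.S1, ∃ b ∈ d.S1, a * a = 1 ∧ b * b = 1 ∧ (w = a * b ∨ w = z * (a * b)) := by
  have h0 := List.all_eq_true.mp chk_gen _ (d.φ_S1 hw)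
  simp only [List.any_eq_true, decide_eq_true_eq] at h0
  obtain ⟨b, hb, hc⟩ := h0
  obtain ⟨xb, hxb, hb2, eb⟩ := d.S1_invol hb
  obtain ⟨xc, hxc, hc2, ec⟩ := d.S1_invol hc
  refine ⟨xb, hxb, xc, hxc, hb2, hc2, ?_⟩
  have hC : ∀ {x}, x ∈ d.S1 → Commute x z := fun h => (d.mem_S1.mp h).1.1
  refine d.φ_eq ((hC hxb).mul_left (hC hxc)) (hC hw) ?_
  rw [d.φ_mul (hC hxb) (hC hxc), ec, ← eb, ← d.φ_mul (hC hxb) (hC hw), ← d.φ_mul (hC hxb) ((hC hxb).mul_left (hC hw)),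
    ← mul_assoc, hb2, one_mul]

theorem M_iff {x : G} (hx : x ∈ d.S1) : x ∈ d.M ↔ d.φ x ∈ M1 := by
  have hC : ∀ {x}, x ∈ d.S1 → Commute x z := fun h => (d.mem_S1.mp h).1.1
  constructor
  · intro h
    have h1 := (d.mem_M.mp h).2
    have e := (Std.L1_facts (d.φ_S1 hx)).2.2.1
    refine of_decide_eq_true (e.trans (List.all_eq_true.mpr fun b hb => ?_))
    obtain ⟨w, hw, -, ew⟩ := d.S1_invol hb
    rw [decide_eq_true_eq, ← ew, ← d.φ_mul (hC hx) (hC hw), ← d.φ_mul (hC hw) (hC hx), (h1 w hw).eq]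
  · intro h
    have hc := List.all_eq_true.mp chk_M1 _ h
    simp only [Bool.and_eq_true, decide_eq_true_eq, List.all_eq_true] at hc
    obtain ⟨⟨⟨hI, hall⟩, -⟩, -⟩ := hc
    have hxx := d.sq1_sound (hC hx) (Std.I1_facts hI).2.1
    have hinv : ∀ a ∈ d.S1, a * a = 1 → Commute x a := fun a ha haa => by
      rcases d.φ_invol (d.S1_le ha) haa with ⟨-, h'⟩ | ⟨h', -⟩
      · exact (d.xcomm_iff (hC hx) (hC ha) hxx haa).mp (hall _ h')
      · exact absurd ha h'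
    refine d.mem_M.mpr ⟨hx, fun w hw => ?_⟩
    obtain ⟨a, ha, b, hb, haa, hbb, e | e⟩ := d.S1_gen hw <;> rw [e]
    · exact (hinv a ha haa).mul_right (hinv b hb hbb)
    · exact (hC hx).mul_right ((hinv a ha haa).mul_right (hinv b hb hbb))

theorem M_facts {x : G} (hx : x ∈ d.M) : x * x = 1 ∧ d.φ x ∈ M1 ∧
    (x = 1 ∨ d.Tri x ∨ IsConj d.t x) := by
  have hS1 := (d.mem_M.mp hx).1
  have hC := (d.mem_S1.mp hS1).1.1
  have h := (d.M_iff hS1).mp hx
  have hc := List.all_eq_true.mp chk_M1 _ h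
  simp only [Bool.and_eq_true, decide_eq_true_eq, beq_iff_eq] at hc
  obtain ⟨⟨⟨hI, -⟩, -⟩, hT⟩ := hc
  have hxx := d.sq1_sound hC (Std.I1_facts hI).2.1
  refine ⟨hxx, h, ?_⟩
  by_cases hc' : d.φ x ∈ [t1, inn 1]
  · simp only [List.mem_cons, List.not_mem_nil, or_false] at hc'
    rcases hc' with e | e
    · rcases d.φ_eq (Commute.one_left z) hC (d.φ_one.trans e.symm) with r | r
      · exact Or.inl r
      · exact Or.inr (Or.inl (Or.inl (by rw [r, mul_one])))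
    · rcases d.φ_eq d.sz hC (d.φ_s.trans e.symm) with r | r
      · exact Or.inr (Or.inl (Or.inr (Or.inl r)))
      · exact Or.inr (Or.inl (Or.inr (Or.inr r)))
  · refine Or.inr (Or.inr ((d.isT_iff hC hxx).mp ?_))
    rw [hT, decide_eq_false hc']; rfl

theorem card_M : Nat.card ↥d.M = 16 := by
  classical
  obtain ⟨hnd, hlen, -, -⟩ := chk_sizes
  have hL : ∀ a ∈ M1, a ∈ L1 := fun a ha => by
    have hc := List.all_eq_true.mp chk_M1 a ha
    simp only [Bool.and_eq_true, decide_eq_true_eq] at hc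
    exact (Std.I1_facts hc.1.1.1).1
  choose sel hsel hφ using fun a : {a // a ∈ M1} => d.S1_surj (hL a a.2)
  have hm : ∀ a, sel a ∈ d.M := fun a => (d.M_iff (hsel a)).mpr (by rw [hφ]; exact a.2)
  have hzM : z ∈ d.M := d.mem_M.mpr ⟨d.z_S1, fun w hw => (d.mem_S1.mp hw).1.1.symm⟩
  let f : Bool × {a // a ∈ M1} → ↥d.M := fun u =>
    ⟨(bif u.1 then z else 1) * sel u.2, mul_mem (by cases u.1; exacts [one_mem _, hzM]) (hm u.2)⟩
  have hC : ∀ a, Commute (sel a) z := fun a => (d.mem_S1.mp (hsel a)).1.1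
  have hzφ : ∀ a, d.φ (z * sel a) = a.1 := fun a => by
    rw [d.φ_mul (Commute.refl z) (hC a), d.φ_z, ← d.φ_one, ← d.φ_mul (Commute.one_left z) (hC a), one_mul, hφ]
  have hf : Function.Bijective f := by
    constructor
    · rintro ⟨b, a⟩ ⟨b', a'⟩ e
      have e' : (bif b then z else 1) * sel a = (bif b' then z else 1) * sel a' := congrArg Subtype.val e
      have ea : a = a' := by
        refine Subtype.ext ?_
        have := congrArg d.φ e'
        cases b <;> cases b' <;> simpa only [cond_true, cond_false, one_mul, hzφ, hφ] using this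
      subst ea
      have e'' := mul_right_cancel e'
      revert e''
      cases b <;> cases b' <;> simp [d.X.ne, Ne.symm d.X.ne]
    · rintro ⟨x, hx⟩
      have h1 := (d.mem_M.mp hx).1
      rcases d.φ_eq (hC ⟨d.φ x, (d.M_iff h1).mp hx⟩) (d.mem_S1.mp h1).1.1 (hφ _) with e | e
      · exact ⟨(false, ⟨d.φ x, (d.M_iff h1).mp hx⟩), Subtype.ext (by show 1 * _ = x; rw [one_mul]; exact e.symm)⟩
      · exact ⟨(true, ⟨d.φ x, (d.M_iff h1).mp hx⟩), Subtype.ext e.symm⟩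
  rw [← Nat.card_congr (Equiv.ofBijective f hf), Nat.card_prod,
    Nat.card_congr (Equiv.subtypeEquivRight fun a => (List.mem_toFinset).symm), Nat.card_eq_finsetCard,
    List.toFinset_card_of_nodup hnd, hlen, Nat.card_eq_fintype_card, Fintype.card_bool]

theorem g_M {x : G} (hx : x ∈ d.M) : d.g * x * d.g⁻¹ ∈ d.M := by
  obtain ⟨h1, h2⟩ := d.mem_M.mp hx
  refine d.mem_M.mpr ⟨d.g_S1 h1, fun w hw => ?_⟩
  have hw' := d.g_S1 (d.g_S1 hw)
  rw [← conj_comp, ← d.g_inv] at hw'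
  have := (Commute.conj_iff d.g).mpr (h2 _ hw')
  rwa [show d.g * (d.g⁻¹ * w * d.g⁻¹⁻¹) * d.g⁻¹ = w by group] at this

/-- The four-group. -/
def U : Subgroup G := d.M ⊓ centralizer ({d.g} : Set G)

theorem mem_U {x : G} : x ∈ d.U ↔ x ∈ d.M ∧ Commute x d.g := by
  rw [U, mem_inf, mem_centralizer_singleton_iff]; rfl

theorem t_M : d.t ∈ d.M := by
  have h : d.t ∈ d.S1 := d.mem_S1.mpr ⟨d.t_T, Commute.refl _⟩
  exact d.mem_M.mpr ⟨h, fun w hw => (d.mem_S1.mp hw).2.symm⟩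

theorem t_U : d.t ∈ d.U := d.mem_U.mpr ⟨d.t_M, d.g_t'.symm⟩

theorem Tri_M {x : G} (hx : d.Tri x) : x ∈ d.M := by
  have hs : d.s ∈ d.M := d.mem_M.mpr ⟨d.mem_S1.mpr ⟨⟨d.sz, Commute.refl _⟩, d.t_T.2.symm⟩,
    fun w hw => (d.mem_S1.mp hw).1.2.symm⟩
  have hz : z ∈ d.M := d.mem_M.mpr ⟨d.z_S1, fun w hw => (d.mem_S1.mp hw).1.1.symm⟩
  rcases hx with rfl | rfl | rfl
  exacts [hz, hs, mul_mem hz hs]

theorem U_not_Tri {x : G} (hx : x ∈ d.U) : ¬ d.Tri x := fun h => d.g_Tri_move h (by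
  rw [← (d.mem_U.mp hx).2.eq, mul_inv_cancel_right])

theorem InE_iff {e : G} : d.InE e ↔ e = 1 ∨ d.Tri e := Iff.rfl

theorem InE_M {e : G} (he : d.InE e) : e ∈ d.M := he.elim (fun h => h ▸ one_mem _) d.Tri_M

theorem card_U : Nat.card ↥d.U = 4 := by
  classical
  let P := {x : G // d.InE x}
  have hP : Nat.card P = 4 := by
    obtain ⟨a1, a2, a3⟩ := d.zs_ne
    obtain ⟨s1, s2⟩ := d.s_ne
    rw [Nat.card_congr (Equiv.subtypeEquivRight (q := fun x => x ∈ ({1, z, d.s, z * d.s} : Finset G)) fun x => by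
      simp [Pt.InE]), Nat.card_eq_finsetCard]
    simp [Ne.symm d.X.ne, Ne.symm s1, Ne.symm a1, Ne.symm s2, Ne.symm a2, Ne.symm a3]
  let f : ↥d.U × P → ↥d.M := fun u => ⟨u.1 * u.2.1, mul_mem (d.mem_U.mp u.1.2).1 (d.InE_M u.2.2)⟩
  have hf : Function.Injective f := by
    rintro ⟨u, a⟩ ⟨v, b⟩ e
    have e' : (u : G) * a.1 = v * b.1 := congrArg Subtype.val e
    have h1 : (v : G)⁻¹ * u = b.1 * a.1⁻¹ := by
      calc (v : G)⁻¹ * u = (v : G)⁻¹ * (u * a.1) * a.1⁻¹ := by group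
        _ = _ := by rw [e']; group
    have hE : d.InE ((v : G)⁻¹ * u) := h1 ▸ d.E_cases b.2 _ (d.E_inv a.2)
    have h2 : (v : G)⁻¹ * u ∈ d.U := mul_mem (inv_mem v.2) u.2
    have h3 : u = v := Subtype.ext (inv_mul_eq_one.mp (hE.resolve_right (d.U_not_Tri h2))).symm
    subst h3
    exact Prod.ext rfl (Subtype.ext (mul_left_cancel e'))
  have hle := Nat.card_le_card_of_injective f hf
  rw [Nat.card_prod, hP, d.card_M] at hle
  letI := Fintype.ofFinite G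
  let σ : Function.End ↥d.M := fun x => ⟨d.g * x * d.g⁻¹, d.g_M x.2⟩
  have hσ : σ ^ 3 ^ 1 = 1 := by
    funext x
    refine Subtype.ext ?_
    show d.g * (d.g * (d.g * (x : G) * d.g⁻¹) * d.g⁻¹) * d.g⁻¹ = x
    rw [← conj_comp, ← conj_comp, d.g_cube, one_mul, inv_one, mul_one]
  haveI : Fact (Nat.Prime 3) := ⟨Nat.prime_three⟩
  have hmod := Equiv.Perm.card_fixedPoints_modEq (p := 3) (n := 1) hσ
  have hfix : Fintype.card (Function.fixedPoints σ) = Nat.card ↥d.U := by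
    rw [← Nat.card_eq_fintype_card]
    exact Nat.card_congr
      { toFun := fun x => ⟨x.1.1, d.mem_U.mpr ⟨x.1.2, (mul_inv_eq_iff_eq_mul.mp
          (congrArg Subtype.val (x.2 : σ x.1 = x.1))).symm⟩⟩
        invFun := fun x => ⟨⟨x.1, (d.mem_U.mp x.2).1⟩, Subtype.ext (by
          show d.g * (x : G) * d.g⁻¹ = x
          rw [← (d.mem_U.mp x.2).2.eq, mul_inv_cancel_right])⟩
        left_inv := fun _ => rfl
        right_inv := fun _ => rfl }
  rw [← Nat.card_eq_fintype_card (α := ↥d.M), d.card_M, hfix] at hmod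
  have h2 : 2 ≤ Nat.card ↥d.U := by
    haveI : Nontrivial ↥d.U := ⟨⟨⟨d.t, d.t_U⟩, 1, fun e => d.t_ne (congrArg Subtype.val e)⟩⟩
    exact Finite.one_lt_card
  have := hmod
  unfold Nat.ModEq at this
  omega

theorem U_comm {a b : G} (ha : a ∈ d.U) (hb : b ∈ d.U) : Commute a b :=
  (d.mem_M.mp (d.mem_U.mp ha).1).2 b (d.mem_M.mp (d.mem_U.mp hb).1).1

theorem exists_u : ∃ u ∈ d.U, d.φ u ∈ UC ∧ (∀ x ∈ d.U, x = 1 ∨ x = d.t ∨ x = u ∨ x = d.t * u) := by
  classical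
  obtain ⟨u, hu, hu1, hut⟩ : ∃ u ∈ d.U, u ≠ 1 ∧ u ≠ d.t := by
    by_contra hall
    push Not at hall
    have : Nat.card ↥d.U ≤ Fintype.card Bool := by
      rw [← Nat.card_eq_fintype_card]
      refine Nat.card_le_card_of_injective (fun x : ↥d.U => decide ((x : G) = 1)) fun a b e => ?_
      refine Subtype.ext ?_
      by_cases ha : (a : G) = 1 <;> by_cases hb : (b : G) = 1
      · rw [ha, hb]
      · simp [ha, hb] at e
      · simp [ha, hb] at e
      · rw [hall a a.2 ha, hall b b.2 hb]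
    rw [d.card_U, Fintype.card_bool] at this
    omega
  have hM := (d.mem_U.mp hu).1
  have hS := (d.mem_M.mp hM).1
  have hC := (d.mem_S1.mp hS).1.1
  refine ⟨u, hu, ?_, ?_⟩
  · have hc := List.all_eq_true.mp chk_M1 _ (d.M_facts hM).2.1
    simp only [Bool.and_eq_true, beq_iff_eq] at hc
    obtain ⟨⟨-, hd⟩, -⟩ := hc
    have hne : ¬ d.φ u ∈ [t1, inn 1, T0, tm T0 (inn 1)] := by
      simp only [List.mem_cons, List.not_mem_nil, or_false]
      rintro (e | e | e | e)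
      · rcases d.φ_eq (Commute.one_left z) hC (d.φ_one.trans e.symm) with r | r
        · exact hu1 r
        · exact d.U_not_Tri hu (Or.inl (r.trans (mul_one z)))
      · rcases d.φ_eq d.sz hC (d.φ_s.trans e.symm) with r | r
        · exact d.U_not_Tri hu (Or.inr (Or.inl r))
        · exact d.U_not_Tri hu (Or.inr (Or.inr r))
      · rcases d.φ_eq d.t_C hC (d.φ_t.trans e.symm) with r | r
        · exact hut r
        · refine d.U_not_Tri (x := u * d.t) (mul_mem hu d.t_U) (Or.inl ?_)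
          rw [r, mul_assoc, d.t_sq, mul_one]
      · rcases d.φ_eq (d.t_C.mul_left d.sz) hC (by rw [d.φ_mul d.t_C d.sz, d.φ_t, d.φ_s]; exact e.symm) with r | r
        · refine d.U_not_Tri (x := d.t * u) (mul_mem d.t_U hu) (Or.inr (Or.inl ?_))
          rw [r, ← mul_assoc, d.t_sq, one_mul]
        · refine d.U_not_Tri (x := d.t * u) (mul_mem d.t_U hu) (Or.inr (Or.inr ?_))
          rw [r, ← mul_assoc, d.t_C.eq, mul_assoc, ← mul_assoc d.t d.t, d.t_sq, one_mul]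
    rw [decide_eq_false hne, Bool.not_false, decide_eq_true_eq] at hd
    exact hd
  · intro x hx
    by_contra hne
    push Not at hne
    obtain ⟨n1, n2, n3, n4⟩ := hne
    let f : Fin 5 → ↥d.U := ![1, ⟨d.t, d.t_U⟩, ⟨u, hu⟩, ⟨d.t * u, mul_mem d.t_U hu⟩, ⟨x, hx⟩]
    have htu1 : d.t * u ≠ 1 := fun e => hut (by
      rw [show u = d.t⁻¹ * (d.t * u) by group, e, mul_one]; exact inv_eq_of_mul_eq_one_right d.t_sq)
    have hf : Function.Injective f := by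
      intro i j e
      fin_cases i <;> fin_cases j <;> first | rfl | (exfalso; revert e; simp [f, Subtype.ext_iff, hu1, hut, n1, n2, n3, n4, d.t_ne,
        htu1, Ne.symm hu1, Ne.symm hut, Ne.symm n1, Ne.symm n2, Ne.symm n3, Ne.symm n4, Ne.symm d.t_ne, Ne.symm htu1])
    have := Nat.card_le_card_of_injective f hf
    rw [d.card_U, Nat.card_fin] at this
    omega

/-- A generator of the four-group. -/
noncomputable def u : G := d.exists_u.choose

theorem u_U : d.u ∈ d.U := d.exists_u.choose_spec.1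

theorem φ_u : d.φ d.u ∈ UC := d.exists_u.choose_spec.2.1

theorem U_cases {x : G} (hx : x ∈ d.U) : x = 1 ∨ x = d.t ∨ x = d.u ∨ x = d.t * d.u := d.exists_u.choose_spec.2.2 x hx

theorem u_S1 : d.u ∈ d.S1 := (d.mem_M.mp (d.mem_U.mp d.u_U).1).1

theorem u_C : Commute d.u z := (d.mem_S1.mp d.u_S1).1.1

theorem u_sq : d.u * d.u = 1 := (d.M_facts (d.mem_U.mp d.u_U).1).1

theorem u_t : Commute d.u d.t := (d.mem_S1.mp d.u_S1).2

theorem u_notTriv : d.u ≠ 1 ∧ d.u ≠ d.t := by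
  have hne : ¬ d.φ d.u ∈ [t1, T0] := by
    have h := d.φ_u
    intro h'
    have : ∀ a ∈ [t1, T0], ¬ a ∈ UC := by decide +kernel
    exact this _ h' h
  exact ⟨fun e => hne (by rw [e, d.φ_one]; simp), fun e => hne (by rw [e, d.φ_t]; simp)⟩

/-- The nontrivial elements of the four-group lie in the second class. -/
theorem U_conj {x : G} (hx : x ∈ d.U) (h1 : x ≠ 1) : IsConj d.t x := by
  rcases (d.M_facts (d.mem_U.mp hx).1).2.2 with h | h | h
  · exact absurd h h1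
  · exact absurd h (d.U_not_Tri hx)
  · exact h

theorem y_U {x : G} (hx : x ∈ d.U) : d.y * x * d.y⁻¹ ∈ d.U := by
  obtain ⟨hM, hg⟩ := d.mem_U.mp hx
  obtain ⟨h1, h2⟩ := d.mem_M.mp hM
  have hyM : d.y * x * d.y⁻¹ ∈ d.M := d.mem_M.mpr ⟨d.S_S1 d.y_S h1, fun w hw => by
    have := (Commute.conj_iff d.y).mpr (h2 _ (d.S_S1 (inv_mem d.y_S) hw))
    rwa [show d.y * (d.y⁻¹ * w * d.y⁻¹⁻¹) * d.y⁻¹ = w by group] at this⟩
  refine d.mem_U.mpr ⟨hyM, ?_⟩
  set n := d.y * d.g * d.y⁻¹ * d.g with hn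
  have hnt : Commute n d.t := ((d.y_t.mul_left d.g_t').mul_left d.y_t.inv_left).mul_left d.g_t'
  have hyz : d.y * z * d.y⁻¹ = z := by rw [d.y_C.eq, mul_inv_cancel_right]
  have hyz' : d.y⁻¹ * z * d.y⁻¹⁻¹ = z := by rw [d.y_inv]; exact hyz
  have hyzs : d.y * (z * d.s) * d.y⁻¹ = d.s := by
    rw [show d.y * (z * d.s) * d.y⁻¹ = d.y * z * d.y⁻¹ * (d.y * d.s * d.y⁻¹) by group, hyz, d.y_s, ← mul_assoc,
      d.X.zz, one_mul]
  have hys' : d.y⁻¹ * d.s * d.y⁻¹⁻¹ = z * d.s := by rw [d.y_inv]; exact d.y_s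
  have hyzs' : d.y⁻¹ * (z * d.s) * d.y⁻¹⁻¹ = d.s := by rw [d.y_inv]; exact hyzs
  have hgzs : d.g * (z * d.s) * d.g⁻¹ = d.g * z * d.g⁻¹ * (d.g * d.s * d.g⁻¹) := by group
  have hS1 : n ∈ d.S1 := by
    refine d.mem_S1.mpr ⟨⟨mul_inv_eq_iff_eq_mul.mp ?_, mul_inv_eq_iff_eq_mul.mp ?_⟩, hnt⟩ <;>
      rw [hn, conj_comp, conj_comp, conj_comp] <;> rcases d.g_E with ⟨e1, e2⟩ | ⟨e1, e2⟩
    · have hgz1 : d.g * (z * d.s) * d.g⁻¹ = z := by
        rw [hgzs, e1, e2, ← mul_assoc, d.sz.eq, mul_assoc, d.ss, mul_one]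
      rw [e1, hys', hgz1, hyz]
    · rw [e1, hyzs', e2, hyz]
    · rw [e2, hyzs', e2, hyzs]
    · rw [e2, hyz', e1, hyzs]
  have hcn : Commute x n := h2 _ hS1
  have h3 : Commute x (d.y * d.g * d.y⁻¹) := by
    have := hcn.mul_right hg.inv_right
    rwa [hn, mul_inv_cancel_right] at this
  have := (Commute.conj_iff d.y).mpr h3
  rwa [show d.y * (d.y * d.g * d.y⁻¹) * d.y⁻¹ = d.g by
    rw [← conj_comp, d.y_sq, one_mul, inv_one, mul_one]] at this

theorem y_u : d.y * d.u * d.y⁻¹ = d.t * d.u := by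
  have h := d.y_U d.u_U
  have hne : d.y * d.u * d.y⁻¹ ≠ d.u := fun e => by
    have hc := List.all_eq_true.mp chk_UC _ d.φ_u
    simp only [Bool.and_eq_true, Bool.not_eq_true', decide_eq_false_iff_not] at hc
    refine hc.2 ?_
    rw [← d.φy, ← d.φ_mul d.u_C d.y_C, ← d.φ_mul d.y_C d.u_C, mul_inv_eq_iff_eq_mul.mp e]
  rcases d.U_cases h with e | e | e | e
  · exact absurd (conj_eq_one_iff.mp e) d.u_notTriv.1
  · exfalso
    refine d.u_notTriv.2 ?_
    calc d.u = d.y⁻¹ * (d.y * d.u * d.y⁻¹) * d.y := by group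
      _ = d.y⁻¹ * d.t * d.y := by rw [e]
      _ = d.t := by rw [d.y_inv, d.y_t.eq, mul_assoc, d.y_sq, mul_one]
  · exact absurd e hne
  · exact e

theorem S1_U {n : G} (hn : n ∈ d.S1) {x : G} (hx : x ∈ d.U) : Commute n x :=
  ((d.mem_M.mp (d.mem_U.mp hx).1).2 n hn).symm

theorem S_U {n : G} (hn : n ∈ d.S) {x : G} (hx : x ∈ d.U) : n * x * n⁻¹ ∈ d.U := by
  rcases d.S_cases d.y_S d.y_s hn with h | h
  · rwa [(d.S1_U h hx).eq, mul_inv_cancel_right]
  · rw [show n = d.y * (d.y⁻¹ * n) by group, conj_comp, (d.S1_U h hx).eq, mul_inv_cancel_right]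
    exact d.y_U hx

end Four

end Cfsg.Lib.SuzukiType
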