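import Cfsg.Agent.SuzukiType.Local.KOrder
import Mathlib.GroupTheory.Sylow

/-!
A finite group in which every centralizer of an involution has order four, with two commuting involutions, has order
4, 12 or 60.
-/

set_option autoImplicit false
set_option linter.style.haveILetI false
set_option linter.unusedSectionVars false
set_option maxHeartbeats 1000000

namespace Cfsg.Lib.SuzukiType.FourCent

open Subgroup
open Cfsg.Lib.InvolCalc (central_spec sq_of_order_two order_two_of_mul_self ne_one_of_order_two inv_of_order_two conj_of_odd)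
open Cfsg.Lib.SuzukiType.KOrder (inverted exists_sqrt)

universe u

variable {H : Type u} [Group H] [Finite H]

/-- The hypotheses. -/
structure Hyp (H : Type u) [Group H] : Prop where
  cent : ∀ x : H, orderOf x = 2 → Nat.card ↥(centralizer ({x} : Set H)) = 4
  four : ∃ a b : H, orderOf a = 2 ∧ orderOf b = 2 ∧ Commute a b ∧ a ≠ b

theorem four_list {G : Type u} [Group G] [Finite G] {C : Subgroup G} (hC : Nat.card ↥C = 4) {x y : G} (hx : x ∈ C)
    (hy : y ∈ C) (hx2 : orderOf x = 2) (hy2 : orderOf y = 2) (hne : x ≠ y) {w : G} (hw : w ∈ C) :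
    w = 1 ∨ w = x ∨ w = y ∨ w = x * y := by
  classical
  letI := Fintype.ofFinite G
  have h1 : x ≠ 1 := ne_one_of_order_two hx2
  have h2 : y ≠ 1 := ne_one_of_order_two hy2
  have h3 : x * y ≠ 1 := fun e => hne (by rw [← inv_of_order_two hy2]; exact eq_inv_of_mul_eq_one_left e)
  have h4 : x * y ≠ x := fun e => h2 (mul_eq_left.mp e)
  have h5 : x * y ≠ y := fun e => h1 (mul_eq_right.mp e)
  have hs : ({1, x, y, x * y} : Finset G).card = 4 := by
    simp [Finset.card_insert_of_notMem, h1.symm, h2.symm, h3.symm, hne, h4.symm, h5.symm]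
  have hC' : Nat.card ↥C = ((C : Set G).toFinset).card := by
    rw [← Set.ncard_eq_toFinset_card']
    exact Nat.card_coe_set_eq _
  have heq : ({1, x, y, x * y} : Finset G) = (C : Set G).toFinset := by
    refine Finset.eq_of_subset_of_card_le ?_ (by rw [hs, ← hC', hC])
    intro v hv
    simp only [Finset.mem_insert, Finset.mem_singleton] at hv
    rw [Set.mem_toFinset, SetLike.mem_coe]
    rcases hv with rfl | rfl | rfl | rfl
    exacts [one_mem _, hx, hy, mul_mem hx hy]
  have : w ∈ ({1, x, y, x * y} : Finset G) := by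
    rw [heq, Set.mem_toFinset]; exact hw
  simpa using this

namespace Hyp

variable (h : Hyp H)

theorem mem_C {x y : H} : y ∈ centralizer ({x} : Set H) ↔ Commute y x := mem_centralizer_singleton_iff

include h in
theorem eight : ¬ 2 ^ 3 ∣ Nat.card H := by
  intro h8
  haveI : Fact (Nat.Prime 2) := ⟨Nat.prime_two⟩
  obtain ⟨P, hP⟩ := Sylow.exists_subgroup_card_pow_prime 2 h8
  have hPp : IsPGroup 2 ↥P := IsPGroup.of_card hP
  haveI : Nontrivial ↥P := Finite.one_lt_card_iff_nontrivial.mp (by rw [hP]; norm_num)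
  haveI := hPp.center_nontrivial
  obtain ⟨c, hc⟩ := exists_prime_orderOf_dvd_card' (G := ↥(center ↥P)) 2
    ((IsPGroup.iff_card.mp (hPp.to_subgroup _)).elim fun k hk => by
      rw [hk]
      refine dvd_pow_self 2 ?_
      intro k0
      rw [k0, pow_zero] at hk
      exact absurd hk (Nat.ne_of_gt Finite.one_lt_card))
  have hle : P ≤ centralizer ({((c : ↥P) : H)} : Set H) := fun w hw =>
    mem_C.mpr (congrArg Subtype.val (mem_center_iff.mp c.2 ⟨w, hw⟩))
  have h2 := card_dvd_of_le hle
  rw [hP, h.cent _ (by rw [Subgroup.orderOf_coe, Subgroup.orderOf_coe]; exact hc)] at h2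
  norm_num at h2

include h in
theorem four_dvd : 4 ∣ Nat.card H := by
  obtain ⟨a, b, ha, -, -, -⟩ := h.four
  exact h.cent a ha ▸ card_subgroup_dvd_card _

include h in
theorem fact4 : (Nat.card H).factorization 2 = 2 := by
  refine le_antisymm ?_ ((Nat.prime_two.pow_dvd_iff_le_factorization Nat.card_pos.ne').mp (by simpa using h.four_dvd))
  by_contra hlt
  exact h.eight ((Nat.prime_two.pow_dvd_iff_le_factorization Nat.card_pos.ne').mpr (by omega))

include h in
theorem exponent {x w : H} (hx : orderOf x = 2) (hw : Commute w x) : w * w = 1 := by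
  haveI : Fact (Nat.Prime 2) := ⟨Nat.prime_two⟩
  obtain ⟨a, b, ha, hb, hab, hne⟩ := h.four
  let T1 : Sylow 2 H := Sylow.ofCard (centralizer ({x} : Set H)) (by rw [h.cent x hx, h.fact4]; norm_num)
  let T2 : Sylow 2 H := Sylow.ofCard (centralizer ({a} : Set H)) (by rw [h.cent a ha, h.fact4]; norm_num)
  obtain ⟨g, hg⟩ := MulAction.exists_smul_eq H T2 T1
  have hw1 : w ∈ (T1 : Subgroup H) := mem_C.mpr hw
  rw [← hg, Sylow.coe_subgroup_smul, Subgroup.mem_pointwise_smul_iff_inv_smul_mem] at hw1
  set w' := (MulAut.conj g)⁻¹ • w with hw'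
  have hm : w' ∈ centralizer ({a} : Set H) := hw1
  have hsq : w' * w' = 1 := by
    rcases four_list (h.cent a ha) (mem_C.mpr (Commute.refl a)) (mem_C.mpr hab.symm) ha hb hne hm with r | r | r | r <;>
      rw [r]
    · exact one_mul 1
    · exact sq_of_order_two ha
    · exact sq_of_order_two hb
    · rw [hab.symm.mul_mul_mul_comm, sq_of_order_two ha, sq_of_order_two hb, one_mul]
  have e : w = MulAut.conj g w' := by rw [hw']; simp [mul_assoc]
  rw [e, ← map_mul, hsq, map_one]

include h in
theorem comm_trans {x y w : H} (hx : orderOf x = 2) (hy : Commute y x) (hw : Commute w x) : Commute y w := by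
  have h1 := h.exponent hx hy
  have h2 := h.exponent hx hw
  have h3 := h.exponent hx (hy.mul_left hw)
  have e := inv_eq_of_mul_eq_one_right h3
  rw [mul_inv_rev, inv_eq_of_mul_eq_one_right h1, inv_eq_of_mul_eq_one_right h2] at e
  exact e.symm

include h in
theorem odd_pair {x y : H} (hx : orderOf x = 2) (hy : orderOf y = 2) (hne : ¬ Commute x y) : Odd (orderOf (x * y)) := by
  rw [← Nat.not_even_iff_odd]
  intro he
  obtain ⟨h2, c1, c2⟩ := central_spec hx hy he
  exact hne (h.comm_trans h2 c1.symm c2.symm)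

/-- The odd elements inverted by an involution. -/
def R (r : H) : Prop := r ≠ 1 ∧ Odd (orderOf r) ∧ ∃ s, orderOf s = 2 ∧ s * r * s⁻¹ = r⁻¹

include h in
theorem no_invol {r x : H} (hr : R r) (hx : orderOf x = 2) : ¬ Commute r x := fun hc => by
  have h2 := orderOf_dvd_of_pow_eq_one (show r ^ 2 = 1 by rw [pow_two]; exact h.exponent hx hc)
  rcases (Nat.dvd_prime Nat.prime_two).mp h2 with r' | r'
  · exact hr.1 (orderOf_eq_one_iff.mp r')
  · have := hr.2.1
    rw [r'] at this
    exact absurd this (by decide)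

include h in
theorem C_facts {r s : H} (hr : R r) (hs : orderOf s = 2) (hsr : s * r * s⁻¹ = r⁻¹) :
    (∀ a, Commute a r → s * a * s⁻¹ = a⁻¹ ∧ Odd (orderOf a)) ∧
      (∀ a b, Commute a r → Commute b r → Commute a b) := by
  have hodd : ∀ a, Commute a r → Odd (orderOf a) := by
    intro a ha
    rw [← Nat.not_even_iff_odd]
    intro he
    obtain ⟨m, hm⟩ := he
    have hpos := orderOf_pos a
    have h2 : orderOf (a ^ m) = 2 := by
      rw [orderOf_pow, Nat.gcd_eq_right ⟨2, by omega⟩, hm]
      exact Nat.div_eq_of_eq_mul_left (by omega) (by ring)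
    exact h.no_invol hr h2 (ha.pow_left m).symm
  have hmem : ∀ a ∈ centralizer ({r} : Set H), s * a * s⁻¹ ∈ centralizer ({r} : Set H) := by
    intro a ha
    refine mem_C.mpr ?_
    have := (Commute.conj_iff s).mpr (mem_C.mp ha).inv_right
    rwa [show s * r⁻¹ * s⁻¹ = (s * r * s⁻¹)⁻¹ by group, hsr, inv_inv] at this
  have hfix : ∀ a ∈ centralizer ({r} : Set H), Commute a s → a = 1 := by
    intro a ha hc
    have h2 := orderOf_dvd_of_pow_eq_one (show a ^ 2 = 1 by rw [pow_two]; exact h.exponent hs hc)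
    rcases (Nat.dvd_prime Nat.prime_two).mp h2 with r' | r'
    · exact orderOf_eq_one_iff.mp r'
    · have := hodd a (mem_C.mp ha)
      rw [r'] at this
      exact absurd this (by decide)
  obtain ⟨h1, h2⟩ := inverted (sq_of_order_two hs) hmem hfix
  exact ⟨fun a ha => ⟨h1 a (mem_C.mpr ha), hodd a ha⟩, fun a b ha hb => h2 a (mem_C.mpr ha) b (mem_C.mpr hb)⟩

include h in
theorem C_same {r a : H} (hr : R r) (ha : Commute a r) (h1 : a ≠ 1) :
    R a ∧ centralizer ({a} : Set H) = centralizer ({r} : Set H) := by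
  obtain ⟨-, -, s, hs, hsr⟩ := id hr
  obtain ⟨hinv, hab⟩ := h.C_facts hr hs hsr
  have hRa : R a := ⟨h1, (hinv a ha).2, s, hs, (hinv a ha).1⟩
  refine ⟨hRa, ?_⟩
  obtain ⟨-, hab'⟩ := h.C_facts hRa hs (hinv a ha).1
  refine le_antisymm (fun x hx => mem_C.mpr ?_) (fun x hx => mem_C.mpr (hab x a (mem_C.mp hx) ha))
  exact hab' x r (mem_C.mp hx) ha.symm

theorem R_conj {r : H} (hr : R r) (g : H) : R (g * r * g⁻¹) := by
  obtain ⟨h1, h2, s, hs, hsr⟩ := hr
  refine ⟨fun e => h1 (conj_eq_one_iff.mp e), ?_, g * s * g⁻¹, ?_, ?_⟩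
  · rw [show g * r * g⁻¹ = MulAut.conj g r from rfl, MulEquiv.orderOf_eq]; exact h2
  · rw [show g * s * g⁻¹ = MulAut.conj g s from rfl, MulEquiv.orderOf_eq]; exact hs
  · rw [show g * s * g⁻¹ * (g * r * g⁻¹) * (g * s * g⁻¹)⁻¹ = g * (s * r * s⁻¹) * g⁻¹ by group, hsr]; group

theorem mem_N {r g : H} : g ∈ normalizer (centralizer ({r} : Set H) : Set H) ↔
    ∀ a, Commute a r → Commute (g * a * g⁻¹) r := by
  constructor
  · intro hg a ha
    exact mem_C.mp ((mem_normalizer_iff.mp hg a).mp (mem_C.mpr ha))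
  · intro hg
    exact Cfsg.Lib.ZStarApps.mem_normalizer_of_maps fun a ha => mem_C.mpr (hg a (mem_C.mp ha))

include h in
theorem card_N {r : H} (hr : R r) :
    Nat.card ↥(normalizer (centralizer ({r} : Set H) : Set H)) = 2 * Nat.card ↥(centralizer ({r} : Set H)) := by
  obtain ⟨-, -, s, hs, hsr⟩ := id hr
  obtain ⟨hinv, hab⟩ := h.C_facts hr hs hsr
  have hsN : s ∈ normalizer (centralizer ({r} : Set H) : Set H) := mem_N.mpr fun a ha => by
    rw [(hinv a ha).1]; exact ha.inv_left
  rw [show 2 = Nat.card Bool by simp, ← Nat.card_prod]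
  refine (Nat.card_congr (Equiv.ofBijective
    (fun u : Bool × ↥(centralizer ({r} : Set H)) =>
      (⟨(bif u.1 then s else 1) * u.2.1, mul_mem (by cases u.1; exacts [one_mem _, hsN]) (le_normalizer u.2.2)⟩ :
        ↥(normalizer (centralizer ({r} : Set H) : Set H)))) ⟨?_, ?_⟩)).symm
  · rintro ⟨b, a, ha⟩ ⟨b', a', ha'⟩ e
    have e' : (bif b then s else 1) * a = (bif b' then s else 1) * a' := congrArg Subtype.val e
    have hsC : ∀ w, w ∈ centralizer ({r} : Set H) → s * w ∉ centralizer ({r} : Set H) := fun w hw hh => by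
      refine h.no_invol hr hs (mem_C.mp ?_).symm
      simpa using mul_mem hh (inv_mem hw)
    cases b <;> cases b'
    · simp at e'; subst e'; rfl
    · simp at e'; exact absurd (e' ▸ ha) (hsC _ ha')
    · simp at e'; exact absurd (e' ▸ ha') (hsC _ ha)
    · simp at e'; subst e'; rfl
  · rintro ⟨g, hg⟩
    have hg' := mem_N.mp hg
    -- the conjugate of `s` inverts the abelian group
    have hgs : ∀ a, Commute a r → g * s * g⁻¹ * a * (g * s * g⁻¹)⁻¹ = a⁻¹ := by
      intro a ha
      have ha' : Commute (g⁻¹ * a * g⁻¹⁻¹) r := mem_N.mp (inv_mem hg) a ha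
      rw [show g * s * g⁻¹ * a * (g * s * g⁻¹)⁻¹ = g * (s * (g⁻¹ * a * g⁻¹⁻¹) * s⁻¹) * g⁻¹ by group,
        (hinv _ ha').1]
      group
    have hsa : Commute (s * (g * s * g⁻¹)) r := by
      refine mul_inv_eq_iff_eq_mul.mp ?_
      rw [show s * (g * s * g⁻¹) * r * (s * (g * s * g⁻¹))⁻¹ = s * (g * s * g⁻¹ * r * (g * s * g⁻¹)⁻¹) * s⁻¹ by group,
        hgs r (Commute.refl r), (hinv _ (Commute.refl r).inv_left).1, inv_inv]
    obtain ⟨j, hj⟩ := exists_sqrt (hinv _ hsa).2
    set m := s * (g * s * g⁻¹) with hm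
    set c := (m ^ j)⁻¹ with hc
    have hcr : Commute c r := (hsa.pow_left j).inv_left
    have hsm : g * s * g⁻¹ = s * m := by rw [hm, ← mul_assoc, sq_of_order_two hs, one_mul]
    have e1 : c * s * c⁻¹ = g * s * g⁻¹ := by
      rw [hsm]
      have h2 : c * s = s * c⁻¹ := by
        calc c * s = s⁻¹ * (s * c * s⁻¹) * (s * s) := by group
          _ = s * c⁻¹ := by rw [(hinv c hcr).1, sq_of_order_two hs, mul_one, inv_of_order_two hs]
      rw [h2, mul_assoc, ← mul_inv_rev, hc, ← mul_inv_rev, inv_inv, ← (Commute.refl m).mul_pow, ← hj]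
    have hw : Commute (c⁻¹ * g) s := by
      show c⁻¹ * g * s = s * (c⁻¹ * g)
      calc c⁻¹ * g * s = c⁻¹ * (g * s * g⁻¹) * g := by group
        _ = _ := by rw [← e1]; group
    set w := c⁻¹ * g with hwdef
    have hwN : w ∈ normalizer (centralizer ({r} : Set H) : Set H) :=
      mul_mem (inv_mem (le_normalizer (mem_C.mpr hcr))) hg
    have hw2 : w * w = 1 := h.exponent hs hw
    have hcase : w = 1 ∨ w = s := by
      by_contra hh
      push Not at hh
      have hwo := order_two_of_mul_self hw2 hh.1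
      have hwinv : w * r * w⁻¹ = r⁻¹ := by
        refine (inverted hw2 (fun a ha => mem_C.mpr (mem_N.mp hwN a (mem_C.mp ha))) ?_).1 r (mem_C.mpr (Commute.refl r))
        intro a ha hcw
        have h2 := orderOf_dvd_of_pow_eq_one (show a ^ 2 = 1 by rw [pow_two]; exact h.exponent hwo hcw)
        rcases (Nat.dvd_prime Nat.prime_two).mp h2 with r' | r'
        · exact orderOf_eq_one_iff.mp r'
        · have := (hinv a (mem_C.mp ha)).2
          rw [r'] at this
          exact absurd this (by decide)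
      have hsw : Commute (s * w) r := by
        refine mul_inv_eq_iff_eq_mul.mp ?_
        rw [show s * w * r * (s * w)⁻¹ = s * (w * r * w⁻¹) * s⁻¹ by group, hwinv,
          (hinv _ (Commute.refl r).inv_left).1, inv_inv]
      have hsw2 : s * w * (s * w) = 1 := by rw [hw.mul_mul_mul_comm, sq_of_order_two hs, hw2, one_mul]
      refine h.no_invol hr (order_two_of_mul_self hsw2 fun e => hh.2 ?_) hsw.symm
      rw [← inv_of_order_two hs]; exact eq_inv_of_mul_eq_one_right e
    rcases hcase with e | e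
    · refine ⟨(false, ⟨g, ?_⟩), Subtype.ext (one_mul g)⟩
      rw [show g = c * w by rw [hwdef, mul_inv_cancel_left], e, mul_one]
      exact mem_C.mpr hcr
    · refine ⟨(true, ⟨c⁻¹, mem_C.mpr hcr.inv_left⟩), Subtype.ext ?_⟩
      show s * c⁻¹ = g
      have h2 : c * s = s * c⁻¹ := by
        calc c * s = s⁻¹ * (s * c * s⁻¹) * (s * s) := by group
          _ = s * c⁻¹ := by rw [(hinv c hcr).1, sq_of_order_two hs, mul_one, inv_of_order_two hs]
      rw [← h2, show g = c * w by rw [hwdef, mul_inv_cancel_left], e]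

theorem C_conj (g r : H) (x : H) :
    x ∈ centralizer ({g * r * g⁻¹} : Set H) ↔ g⁻¹ * x * g⁻¹⁻¹ ∈ centralizer ({r} : Set H) := by
  rw [mem_C, mem_C]
  have := (Commute.conj_iff (a := x) (b := g * r * g⁻¹) g⁻¹).symm
  rwa [show g⁻¹ * (g * r * g⁻¹) * g⁻¹⁻¹ = r by group] at this

theorem card_C_conj (g r : H) :
    Nat.card ↥(centralizer ({g * r * g⁻¹} : Set H)) = Nat.card ↥(centralizer ({r} : Set H)) :=
  Nat.card_congr (Equiv.subtypeEquiv (MulAut.conj g⁻¹).toEquiv fun x => C_conj g r x)

open Classical in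
/-- The elements conjugate into the centralizer. -/
noncomputable def F [Fintype H] (r : H) : Finset H :=
  Finset.univ.filter fun g => g ≠ 1 ∧ ∃ k, Commute (k * g * k⁻¹) r

theorem mem_F [Fintype H] {r g : H} : g ∈ F r ↔ g ≠ 1 ∧ ∃ k, Commute (k * g * k⁻¹) r := by
  classical simp [F]

include h in
theorem F_facts [Fintype H] {r g : H} (hr : R r) (hg : g ∈ F r) :
    R g ∧ F g = F r ∧ Nat.card ↥(centralizer ({g} : Set H)) = Nat.card ↥(centralizer ({r} : Set H)) := by
  obtain ⟨h1, k, hk⟩ := mem_F.mp hg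
  obtain ⟨hR, hC⟩ := h.C_same hr hk fun e => h1 (conj_eq_one_iff.mp e)
  have hg' : g = k⁻¹ * (k * g * k⁻¹) * k⁻¹⁻¹ := by group
  refine ⟨hg' ▸ R_conj hR k⁻¹, ?_, ?_⟩
  · ext x
    simp only [mem_F, and_congr_right_iff]
    intro _
    have key : ∀ y, Commute y g ↔ Commute (k * y * k⁻¹) r := fun y => by
      rw [← Commute.conj_iff k, ← mem_C (x := k * g * k⁻¹), hC, mem_C]
    constructor
    · rintro ⟨l, hl⟩
      refine ⟨k * l, ?_⟩
      rw [show k * l * x * (k * l)⁻¹ = k * (l * x * l⁻¹) * k⁻¹ by group]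
      exact (key _).mp hl
    · rintro ⟨l, hl⟩
      refine ⟨k⁻¹ * l, (key _).mpr ?_⟩
      rwa [show k * (k⁻¹ * l * x * (k⁻¹ * l)⁻¹) * k⁻¹ = l * x * l⁻¹ by group]
  · calc Nat.card ↥(centralizer ({g} : Set H)) = Nat.card ↥(centralizer ({k * g * k⁻¹} : Set H)) := (card_C_conj k g).symm
      _ = _ := by rw [hC]

include h in
theorem F_card [Fintype H] {r : H} (hr : R r) :
    (F r).card * (2 * Nat.card ↥(centralizer ({r} : Set H))) =
      Nat.card H * (Nat.card ↥(centralizer ({r} : Set H)) - 1) := by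
  classical
  set A := centralizer ({r} : Set H) with hA
  set N := normalizer (A : Set H) with hN
  have hA1 : Nat.card {a : H // Commute a r ∧ a ≠ 1} = Nat.card ↥A - 1 := by
    have h' := Set.ncard_sdiff_singleton_of_mem (s := (A : Set H)) (a := 1) (one_mem _)
    rw [← Nat.card_coe_set_eq, ← Nat.card_coe_set_eq] at h'
    exact (Nat.card_congr (Equiv.subtypeEquivRight fun a => (and_congr_left' mem_C.symm))).trans h'
  rw [← h.card_N hr, ← hA1, ← Nat.card_eq_finsetCard, ← Nat.card_prod, ← Nat.card_prod]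
  have hsel : ∀ g : ↥(F r), ∃ k, Commute (k * g.1 * k⁻¹) r := fun g => (mem_F.mp g.2).2
  choose sel hsel' using hsel
  have hne : ∀ g : ↥(F r), g.1 ≠ 1 := fun g => (mem_F.mp g.2).1
  refine Nat.card_congr (Equiv.ofBijective
    (fun u : ↥(F r) × ↥N => ((sel u.1)⁻¹ * u.2.1,
      (⟨u.2.1⁻¹ * (sel u.1 * u.1.1 * (sel u.1)⁻¹) * u.2.1⁻¹⁻¹, mem_N.mp (inv_mem u.2.2) _ (hsel' u.1),
        fun e => hne u.1 (conj_eq_one_iff.mp (conj_eq_one_iff.mp e))⟩ : {a : H // Commute a r ∧ a ≠ 1}))) ⟨?_, ?_⟩)
  · rintro ⟨g, m⟩ ⟨g', m'⟩ e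
    obtain ⟨e1, e2⟩ := Prod.mk.inj e
    have e3 := congrArg Subtype.val e2
    simp only at e3
    have hg : g = g' := by
      refine Subtype.ext ?_
      calc g.1 = (sel g)⁻¹ * m.1 * (m.1⁻¹ * (sel g * g.1 * (sel g)⁻¹) * m.1⁻¹⁻¹) * ((sel g)⁻¹ * m.1)⁻¹ := by group
        _ = (sel g')⁻¹ * m'.1 * (m'.1⁻¹ * (sel g' * g'.1 * (sel g')⁻¹) * m'.1⁻¹⁻¹) * ((sel g')⁻¹ * m'.1)⁻¹ := by
          rw [e1, e3]
        _ = g'.1 := by group
    subst hg
    exact Prod.ext rfl (Subtype.ext (mul_left_cancel e1))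
  · rintro ⟨k, a, hac, ha1⟩
    have hgF : k * a * k⁻¹ ∈ F r := mem_F.mpr ⟨fun e => ha1 (conj_eq_one_iff.mp e), k⁻¹,
      by rwa [show k⁻¹ * (k * a * k⁻¹) * k⁻¹⁻¹ = a by group]⟩
    have hb := hsel' ⟨_, hgF⟩
    set l := sel ⟨_, hgF⟩ with hl
    have hm : l * k ∈ N := by
      refine mem_N.mpr fun b hb' => ?_
      rw [show l * (k * a * k⁻¹) * l⁻¹ = l * k * a * (l * k)⁻¹ by group] at hb
      obtain ⟨-, hC1⟩ := h.C_same hr hac ha1
      obtain ⟨-, hC2⟩ := h.C_same hr hb fun e => ha1 (conj_eq_one_iff.mp e)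
      have h3 : Commute (l * k * b * (l * k)⁻¹) (l * k * a * (l * k)⁻¹) :=
        (Commute.conj_iff _).mpr (mem_C.mp (hC1.symm ▸ mem_C.mpr hb'))
      exact mem_C.mp (hC2 ▸ mem_C.mpr h3)
    refine ⟨(⟨_, hgF⟩, ⟨l * k, hm⟩), Prod.ext (inv_mul_cancel_left l k) (Subtype.ext ?_)⟩
    show (l * k)⁻¹ * (l * (k * a * k⁻¹) * l⁻¹) * (l * k)⁻¹⁻¹ = a
    group

include h in
theorem card_inverting {r : H} (hr : R r) :
    Nat.card {x : H // orderOf x = 2 ∧ x * r * x⁻¹ = r⁻¹} = Nat.card ↥(centralizer ({r} : Set H)) := by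
  obtain ⟨-, -, s, hs, hsr⟩ := id hr
  obtain ⟨hinv, -⟩ := h.C_facts hr hs hsr
  refine (Nat.card_congr (Equiv.ofBijective
    (fun a : ↥(centralizer ({r} : Set H)) => (⟨s * a.1, order_two_of_mul_self ?_ ?_, ?_⟩ :
      {x : H // orderOf x = 2 ∧ x * r * x⁻¹ = r⁻¹})) ⟨?_, ?_⟩)).symm
  · calc s * a.1 * (s * a.1) = s * a.1 * s⁻¹ * a.1 := by rw [inv_of_order_two hs]; group
      _ = 1 := by rw [(hinv _ (mem_C.mp a.2)).1, inv_mul_cancel]
  · intro e
    have : Commute a.1 r := mem_C.mp a.2
    rw [← inv_eq_of_mul_eq_one_right e] at this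
    exact h.no_invol hr hs (inv_of_order_two hs ▸ this).symm
  · rw [show s * a.1 * r * (s * a.1)⁻¹ = s * (a.1 * r * a.1⁻¹) * s⁻¹ by group, (mem_C.mp a.2).eq,
      mul_inv_cancel_right, hsr]
  · intro a b e
    exact Subtype.ext (mul_left_cancel (congrArg Subtype.val e :))
  · rintro ⟨x, hx, hxr⟩
    refine ⟨⟨s * x, mem_C.mpr (mul_inv_eq_iff_eq_mul.mp ?_)⟩, Subtype.ext ?_⟩
    · rw [show s * x * r * (s * x)⁻¹ = s * (x * r * x⁻¹) * s⁻¹ by group, hxr,
        (hinv _ (Commute.refl r).inv_left).1, inv_inv]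
    · show s * (s * x) = x
      rw [← mul_assoc, sq_of_order_two hs, one_mul]

include h in
theorem card_commuting {x : H} (hx : orderOf x = 2) :
    Nat.card {y : H // orderOf y = 2 ∧ Commute y x} = 3 := by
  have h' := Set.ncard_sdiff_singleton_of_mem (s := (centralizer ({x} : Set H) : Set H)) (a := 1) (one_mem _)
  rw [← Nat.card_coe_set_eq, ← Nat.card_coe_set_eq] at h'
  rw [show Nat.card ↥(centralizer ({x} : Set H) : Set H) = 4 from h.cent x hx] at h'
  rw [show 3 = 4 - 1 from rfl, ← h']
  exact Nat.card_congr (Equiv.subtypeEquivRight fun y =>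
    ⟨fun hy => ⟨mem_C.mpr hy.2, fun e => ne_one_of_order_two hy.1 e⟩,
      fun hy => ⟨order_two_of_mul_self (h.exponent hx (mem_C.mp hy.1)) hy.2, mem_C.mp hy.1⟩⟩)

include h in
theorem card_cases :
    (Nat.card H = 4 ∨ Nat.card H = 12 ∨ Nat.card H = 60) ∧
      (Nat.card H = 60 → ∀ r : H, orderOf r = 5 → Nat.card ↥(centralizer ({r} : Set H)) = 5 ∧
        Nat.card ↥(normalizer (zpowers r : Set H)) = 10) := by
  classical
  letI := Fintype.ofFinite H
  obtain ⟨a, b, ha, hb, hab, hne⟩ := h.four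
  set n := Nat.card {x : H // orderOf x = 2} with hn
  by_cases hall : ∀ x y : H, orderOf x = 2 → orderOf y = 2 → Commute x y
  · have h3 : n = 3 := by
      rw [hn, ← h.card_commuting ha]
      exact Nat.card_congr (Equiv.subtypeEquivRight fun y => ⟨fun hy => ⟨hy, hall y a hy ha⟩, fun hy => hy.1⟩)
    have hcl : Nat.card {x // IsConj a x} ≤ 3 := by
      rw [← h3, hn]
      exact Nat.card_le_card_of_injective
        (fun x : {x // IsConj a x} => (⟨x.1, Cfsg.Lib.HallJankoType.order_two_of_conj ha x.2⟩ : {x : H // orderOf x = 2}))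
        fun x y e => Subtype.ext (congrArg Subtype.val e :)
    have hm := Cfsg.Lib.HallJankoType.card_class_mul a
    rw [h.cent a ha] at hm
    have h8 := h.eight
    have hc : Nat.card H = 4 ∨ Nat.card H = 12 := by
      have hpos : 0 < Nat.card {x // IsConj a x} := by
        haveI : Nonempty {x // IsConj a x} := ⟨⟨a, IsConj.refl a⟩⟩
        exact Nat.card_pos
      interval_cases hk : Nat.card {x // IsConj a x}
      · exact Or.inl (by omega)
      · exfalso; exact h8 ⟨1, by omega⟩
      · exact Or.inr (by omega)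
    exact ⟨hc.elim Or.inl fun e => Or.inr (Or.inl e), fun e => by omega⟩
  · simp only [not_forall] at hall
    obtain ⟨x0, y0, hx0, hy0, hne0⟩ := hall
    have hclass : ∀ x, orderOf x = 2 → IsConj a x := by
      intro x hx
      have key : ∀ {p q : H}, orderOf p = 2 → orderOf q = 2 → ¬ Commute p q → IsConj p q := fun hp hq hpq => by
        obtain ⟨c, -, e⟩ := conj_of_odd hp hq (h.odd_pair hp hq hpq)
        exact isConj_iff.mpr ⟨c, e⟩
      by_cases hxa : Commute x a
      · obtain ⟨w, hw, hwa⟩ : ∃ w, orderOf w = 2 ∧ ¬ Commute w a := by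
          by_contra hh
          simp only [not_exists, not_and, not_not] at hh
          exact hne0 (h.comm_trans ha (hh x0 hx0) (hh y0 hy0))
        exact (key hw ha hwa).symm.trans (key hw hx fun hwx => hwa (h.comm_trans hx hwx hxa.symm))
      · exact key ha hx fun e => hxa e.symm
    have hH : Nat.card H = n * 4 := by
      rw [← Cfsg.Lib.HallJankoType.card_class_mul a, h.cent a ha, hn]
      congr 1
      exact Nat.card_congr (Equiv.subtypeEquivRight fun x =>
        ⟨fun hx => Cfsg.Lib.HallJankoType.order_two_of_conj ha hx, hclass x⟩)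
    set Rf : Finset H := Finset.univ.filter fun r => R r with hRf
    have hmemR : ∀ {r : H}, r ∈ Rf ↔ R r := by intro r; simp [hRf]
    set aa : H → ℕ := fun r => Nat.card ↥(centralizer ({r} : Set H)) with haa
    -- counting ordered pairs of involutions
    have hsum : n * n = 3 * n + ∑ r ∈ Rf, aa r := by
      set If : Finset H := Finset.univ.filter fun x => orderOf x = 2 with hIf
      have hnI : If.card = n := by
        rw [hn, hIf, Nat.card_eq_fintype_card, Fintype.card_subtype]
      have hc : ((If ×ˢ If).filter fun p => Commute p.1 p.2).card = 3 * n := by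
        rw [← hnI, Finset.card_eq_sum_card_fiberwise (f := Prod.fst) (t := If)
          (fun p hp => (Finset.mem_product.mp (Finset.mem_filter.mp hp).1).1)]
        rw [mul_comm, ← smul_eq_mul, ← Finset.sum_const]
        refine Finset.sum_congr rfl fun x hx => ?_
        have hx2 : orderOf x = 2 := (Finset.mem_filter.mp hx).2
        rw [← h.card_commuting hx2, Nat.card_eq_fintype_card, Fintype.card_subtype]
        refine Finset.card_bij' (fun p _ => p.2) (fun y _ => (x, y)) ?_ ?_ ?_ ?_
        · intro p hp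
          simp only [Finset.mem_filter, Finset.mem_product, hIf, Finset.mem_univ, true_and] at hp ⊢
          exact ⟨hp.1.1.2, hp.2 ▸ hp.1.2.symm⟩
        · intro y hy
          simp only [Finset.mem_filter, Finset.mem_product, hIf, Finset.mem_univ, true_and] at hy ⊢
          exact ⟨⟨⟨hx2, hy.1⟩, hy.2.symm⟩, trivial⟩
        · intro p hp
          simp only [Finset.mem_filter] at hp
          exact Prod.ext hp.2.symm rfl
        · intro y hy; rfl
      have hnc : ((If ×ˢ If).filter fun p => ¬ Commute p.1 p.2).card = ∑ r ∈ Rf, aa r := by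
        rw [Finset.card_eq_sum_card_fiberwise (f := fun p : H × H => p.1 * p.2) (t := Rf) ?_]
        · refine Finset.sum_congr rfl fun r hr => ?_
          have hR := hmemR.mp hr
          show _ = Nat.card ↥(centralizer ({r} : Set H))
          rw [← h.card_inverting hR, Nat.card_eq_fintype_card, Fintype.card_subtype]
          refine Finset.card_bij' (fun p _ => p.1) (fun x _ => (x, x * r)) ?_ ?_ ?_ ?_
          · intro p hp
            simp only [Finset.mem_filter, Finset.mem_product, hIf, Finset.mem_univ, true_and] at hp ⊢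
            obtain ⟨⟨⟨h1, h2⟩, -⟩, rfl⟩ := hp
            exact ⟨h1, Cfsg.Lib.InvolCalc.flip_mul h1 h2⟩
          · intro x hx
            simp only [Finset.mem_filter, Finset.mem_product, hIf, Finset.mem_univ, true_and] at hx ⊢
            refine ⟨⟨⟨hx.1, order_two_of_mul_self ?_ ?_⟩, ?_⟩, ?_⟩
            · calc x * r * (x * r) = x * r * x⁻¹ * r := by rw [inv_of_order_two hx.1]; group
                _ = 1 := by rw [hx.2, inv_mul_cancel]
            · intro e
              exact h.no_invol hR hx.1 (by rw [← inv_eq_of_mul_eq_one_right e]; exact (Commute.refl x).inv_left)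
            · intro hc
              refine h.no_invol hR hx.1 ?_
              show r * x = x * r
              calc r * x = x⁻¹ * (x * r * x) := by group
                _ = x⁻¹ * (x * (x * r)) := by rw [hc.eq]
                _ = x * r := by group
            · show x * (x * r) = r
              rw [← mul_assoc, sq_of_order_two hx.1, one_mul]
          · intro p hp
            simp only [Finset.mem_filter, Finset.mem_product, hIf, Finset.mem_univ, true_and] at hp
            refine Prod.ext rfl ?_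
            show p.1 * r = p.2
            rw [← hp.2, ← mul_assoc, sq_of_order_two hp.1.1.1, one_mul]
          · intro x hx; rfl
        · intro p hp
          simp only [Finset.mem_coe, Finset.mem_filter, Finset.mem_product, hIf, Finset.mem_univ, true_and] at hp
          obtain ⟨⟨h1, h2⟩, hnc⟩ := hp
          refine Finset.mem_coe.mpr (hmemR.mpr ⟨fun e => hnc ?_, h.odd_pair h1 h2 hnc, p.1, h1, Cfsg.Lib.InvolCalc.flip_mul h1 h2⟩)
          rw [show p.2 = p.1 by rw [← inv_of_order_two h1]; exact (inv_eq_of_mul_eq_one_right e).symm]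
      have := Finset.card_filter_add_card_filter_not (s := If ×ˢ If) (fun p : H × H => Commute p.1 p.2)
      rw [hc, hnc, Finset.card_product, hnI] at this
      exact this.symm
    have hRsize : Rf.card + n + 1 ≤ Nat.card H := by
      rw [Nat.card_eq_fintype_card, hn, Nat.card_eq_fintype_card, Fintype.card_subtype, ← Finset.card_singleton (1 : H),
        ← Finset.card_union_of_disjoint ?_, ← Finset.card_union_of_disjoint ?_]
      · exact Finset.card_le_univ _
      · rw [Finset.disjoint_singleton_right]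
        rw [Finset.mem_union, not_or]
        exact ⟨fun h1 => (hmemR.mp h1).1 rfl, fun h1 => by have := (Finset.mem_filter.mp h1).2; rw [orderOf_one] at this; norm_num at this⟩
      · rw [Finset.disjoint_left]
        intro r hr hr'
        have := (hmemR.mp hr).2.1
        rw [(Finset.mem_filter.mp hr').2] at this
        exact absurd this (by decide)
    have hFsub : ∀ {r : H}, R r → F r ⊆ Rf := fun hr g hg => hmemR.mpr (h.F_facts hr hg).1
    have hself : ∀ {r : H}, R r → r ∈ F r := fun {r} hr => mem_F.mpr ⟨hr.1, 1, by simp⟩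
    have hFa : ∀ {r : H}, R r → (∑ g ∈ F r, aa g) = (F r).card * aa r := fun {r} hr => by
      rw [Finset.sum_congr rfl (fun g hg => (h.F_facts hr hg).2.2 : ∀ g ∈ F r, aa g = aa r), Finset.sum_const,
        smul_eq_mul]
    have haodd : ∀ {r : H}, R r → Odd (aa r) ∧ 3 ≤ aa r := by
      intro r hr
      obtain ⟨-, -, s, hs, hsr⟩ := id hr
      have hodd : Odd (aa r) := by
        rw [← Nat.not_even_iff_odd, even_iff_two_dvd]
        intro h2
        haveI : Fact (Nat.Prime 2) := ⟨Nat.prime_two⟩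
        obtain ⟨g, hg⟩ := exists_prime_orderOf_dvd_card' (G := ↥(centralizer ({r} : Set H))) 2 h2
        have := ((h.C_facts hr hs hsr).1 g (mem_C.mp g.2)).2
        rw [Subgroup.orderOf_coe, hg] at this
        exact absurd this (by decide)
      refine ⟨hodd, ?_⟩
      by_contra hlt
      obtain ⟨k, hk⟩ := hodd
      have h1 : aa r = 1 := by omega
      exact hr.1 ((eq_bot_iff_forall _).mp (card_eq_one.mp h1) r (mem_C.mpr (Commute.refl r)))
    have hFc : ∀ {r : H}, R r → (F r).card * aa r = 2 * n * (aa r - 1) := by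
      intro r hr
      have := h.F_card hr
      rw [hH] at this
      refine Nat.eq_of_mul_eq_mul_left (show 0 < 2 by norm_num) ?_
      calc 2 * ((F r).card * aa r) = (F r).card * (2 * aa r) := by ring
        _ = n * 4 * (aa r - 1) := this
        _ = _ := by ring
    have hdisj : ∀ {r r' : H}, R r → R r' → r' ∉ F r → Disjoint (F r) (F r') := by
      intro r r' hr hr' hni
      rw [Finset.disjoint_left]
      intro g hg hg'
      apply hni
      rw [← (h.F_facts hr hg).2.1, (h.F_facts hr' hg').2.1]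
      exact hself hr'
    have hdvdn : ∀ {r : H}, R r → aa r ∣ n := by
      intro r hr
      obtain ⟨hodd, h3⟩ := haodd hr
      have hd : aa r ∣ 2 * n * (aa r - 1) := ⟨(F r).card, by rw [← hFc hr]; ring⟩
      have hco : Nat.Coprime (aa r) (aa r - 1) := by
        obtain ⟨k, hk⟩ : ∃ k, aa r = k + 1 := ⟨aa r - 1, by omega⟩
        rw [hk, Nat.add_sub_cancel, Nat.coprime_self_add_left]
        exact Nat.coprime_one_left _
      have := hco.dvd_of_dvd_mul_right hd
      exact (Nat.coprime_two_right.mpr hodd).dvd_of_dvd_mul_left this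
    have hnpos : 0 < n := by
      haveI : Nonempty {x : H // orderOf x = 2} := ⟨⟨a, ha⟩⟩
      exact Nat.card_pos
    obtain ⟨r1, hr1⟩ : ∃ r, R r := ⟨x0 * y0, fun e => hne0 (by
        rw [show y0 = x0 by rw [← inv_of_order_two hx0]; exact (inv_eq_of_mul_eq_one_right e).symm]),
      h.odd_pair hx0 hy0 hne0, x0, hx0, Cfsg.Lib.InvolCalc.flip_mul hx0 hy0⟩
    obtain ⟨r2, hr2, hn2⟩ : ∃ r, R r ∧ r ∉ F r1 := by
      by_contra hh
      simp only [not_exists, not_and, not_not] at hh
      have heq : Rf = F r1 := Finset.Subset.antisymm (fun g hg => hh g (hmemR.mp hg)) (hFsub hr1)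
      rw [heq, hFa hr1, hFc hr1] at hsum
      obtain ⟨h1, h3⟩ := haodd hr1
      have hn2a : n = 2 * aa r1 + 1 := by
        obtain ⟨k, hk⟩ : ∃ k, aa r1 = k + 1 := ⟨aa r1 - 1, by omega⟩
        rw [hk, Nat.add_sub_cancel] at hsum
        have : n = 3 + 2 * k := Nat.eq_of_mul_eq_mul_left hnpos (by rw [hsum]; ring)
        omega
      have hd := hdvdn hr1
      rw [hn2a, Nat.dvd_add_right (dvd_mul_left _ _), Nat.dvd_one] at hd
      omega
    have hd12 := hdisj hr1 hr2 hn2
    have hu : Rf = F r1 ∪ F r2 := by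
      refine Finset.Subset.antisymm (fun g hg => ?_) (Finset.union_subset (hFsub hr1) (hFsub hr2))
      by_contra hg'
      rw [Finset.mem_union, not_or] at hg'
      have hR3 := hmemR.mp hg
      have h13 := hdisj hr1 hR3 hg'.1
      have h23 := hdisj hr2 hR3 hg'.2
      have hsub := Finset.card_le_card (Finset.union_subset (Finset.union_subset (hFsub hr1) (hFsub hr2)) (hFsub hR3))
      rw [Finset.card_union_of_disjoint (Finset.disjoint_union_left.mpr ⟨h13, h23⟩),
        Finset.card_union_of_disjoint hd12] at hsub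
      have key : ∀ {r : H}, R r → 4 * n ≤ 3 * (F r).card := by
        intro r hr
        have h1 := hFc hr
        obtain ⟨-, h3⟩ := haodd hr
        obtain ⟨k, hk⟩ : ∃ k, aa r = k + 3 := ⟨aa r - 3, by omega⟩
        rw [hk, show k + 3 - 1 = k + 2 by omega] at h1
        by_contra hlt
        have : 3 * ((F r).card * (k + 3)) < 4 * n * (k + 3) := by
          rw [← mul_assoc]; exact Nat.mul_lt_mul_of_pos_right (by omega) (by omega)
        rw [h1] at this
        nlinarith
      have := key hr1; have := key hr2; have := key hR3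
      omega
    rw [hu, Finset.sum_union hd12, hFa hr1, hFa hr2, hFc hr1, hFc hr2] at hsum
    rw [hu, Finset.card_union_of_disjoint hd12, hH] at hRsize
    obtain ⟨oa, a3⟩ := haodd hr1
    obtain ⟨ob, b3⟩ := haodd hr2
    have hA := hFc hr1
    have hB := hFc hr2
    obtain ⟨A, hAe⟩ : ∃ A, aa r1 = A + 1 := ⟨aa r1 - 1, by omega⟩
    obtain ⟨B, hBe⟩ : ∃ B, aa r2 = B + 1 := ⟨aa r2 - 1, by omega⟩
    rw [hAe, Nat.add_sub_cancel] at hA hsum
    rw [hBe, Nat.add_sub_cancel] at hB hsum
    have hnv : n = 3 + 2 * A + 2 * B := Nat.eq_of_mul_eq_mul_left hnpos (by rw [hsum]; ring)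
    have hlt : (A + 1) * (B + 1) < 2 * (A + 1) + 2 * (B + 1) := by
      have h1 : ((F r1).card + (F r2).card) * ((A + 1) * (B + 1)) < 3 * n * ((A + 1) * (B + 1)) :=
        Nat.mul_lt_mul_of_pos_right (by omega) (by positivity)
      have h2 : ((F r1).card + (F r2).card) * ((A + 1) * (B + 1)) = 2 * n * A * (B + 1) + 2 * n * B * (A + 1) := by
        calc _ = (F r1).card * (A + 1) * (B + 1) + (F r2).card * (B + 1) * (A + 1) := by ring
          _ = _ := by rw [hA, hB]
      rw [h2] at h1
      by_contra hge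
      push Not at hge
      nlinarith [Nat.mul_le_mul_left n hge]
    have hA5 : A ≤ 4 := by nlinarith
    have hB5 : B ≤ 4 := by nlinarith
    have d1 := hdvdn hr1
    have d2 := hdvdn hr2
    rw [hAe, hnv] at d1
    rw [hBe, hnv] at d2
    have hfin : n = 15 ∧ (aa r1 = 5 ∨ aa r2 = 5) := by
      obtain ⟨ka, hka⟩ := oa
      obtain ⟨kb, hkb⟩ := ob
      interval_cases A <;> interval_cases B <;> omega
    refine ⟨Or.inr (Or.inr (by omega)), fun h60 r hr => ?_⟩
    obtain ⟨r5, hr5, ha5⟩ : ∃ r5, R r5 ∧ aa r5 = 5 :=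
      hfin.2.elim (fun e => ⟨r1, hr1, e⟩) fun e => ⟨r2, hr2, e⟩
    haveI : Fact (Nat.Prime 5) := ⟨by norm_num⟩
    have hf5 : (Nat.card H).factorization 5 = 1 := by
      have h1 := (Nat.Prime.pow_dvd_iff_le_factorization (p := 5) (k := 1) (by norm_num) Nat.card_pos.ne').mp
        (by rw [h60]; norm_num)
      have h2 : ¬ 2 ≤ (Nat.card H).factorization 5 := fun hh => by
        have := (Nat.Prime.pow_dvd_iff_le_factorization (p := 5) (k := 2) (by norm_num) Nat.card_pos.ne').mpr hh
        rw [h60] at this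
        norm_num at this
      omega
    let S1 : Sylow 5 H := Sylow.ofCard (centralizer ({r5} : Set H)) (by rw [hf5, pow_one]; exact ha5)
    let S2 : Sylow 5 H := Sylow.ofCard (zpowers r) (by rw [hf5, pow_one, Nat.card_zpowers, hr])
    obtain ⟨g, hg⟩ := MulAction.exists_smul_eq H S2 S1
    have hrg : MulAut.conj g r ∈ (S1 : Subgroup H) := by
      rw [← hg, Sylow.coe_subgroup_smul]
      exact Subgroup.smul_mem_pointwise_smul r _ _ (mem_zpowers r)
    have hrF : r ∈ F r5 := mem_F.mpr ⟨fun e => by rw [e, orderOf_one] at hr; norm_num at hr, g, mem_C.mp hrg⟩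
    obtain ⟨hRr, -, hcard⟩ := h.F_facts hr5 hrF
    have hc5 : Nat.card ↥(centralizer ({r} : Set H)) = 5 := hcard.trans ha5
    refine ⟨hc5, ?_⟩
    have heq : zpowers r = centralizer ({r} : Set H) := Subgroup.eq_of_le_of_card_ge
      (zpowers_le.mpr (mem_C.mpr (Commute.refl r))) (by rw [hc5, Nat.card_zpowers, hr])
    rw [heq, h.card_N hRr, hc5]

end Hyp

end Cfsg.Lib.SuzukiType.FourCent
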