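import Cfsg.Agent.SuzukiType.Local.Coord

/-!
Recognition of the classes of involutions of the involution centralizer from their automorphisms.
-/

set_option autoImplicit false
set_option maxRecDepth 100000
set_option maxHeartbeats 1000000
set_option linter.unusedSectionVars false

namespace Cfsg.Lib.SuzukiType

open Subgroup Cfsg.Lib.SuzukiType.Code Cfsg.Lib.SuzukiType.Local
open Cfsg.Lib.LargeExtra (X2)

universe u

variable {G : Type u} [Group G] [Finite G] {z : G}

/-- A representative of the second class, with its factors. -/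
structure Sec (z : G) extends Pt z where
  q0 : G
  r0 : G
  hq0 : Pt.A toPt q0
  hr0 : Pt.R toPt r0
  a0 : Pt.α toPt q0 = 10
  b0 : Pt.β toPt r0 = 18

/-- The involution of the second class. -/
def Sec.t (d : Sec z) : G := d.q0 * d.r0

theorem Ctx.exists_sec (c : Ctx z) : Nonempty (Sec z) := by
  obtain ⟨p⟩ := c.exists_pt
  obtain ⟨q, r, hq, hr, a0, b0⟩ := p.exists_tt
  exact ⟨{ toPt := p, q0 := q, r0 := r, hq0 := hq, hr0 := hr, a0 := a0, b0 := b0 }⟩

namespace Local

namespace Frm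

variable (p : Pt z)

theorem tup_Q {q : G} (hq : q ∈ p.Q) : tup p q = inn (p.π q) := by
  have hv := p.π_lt q
  have h63 : p.π q &&& 63 = p.π q := (Nat.and_two_pow_sub_one_eq_mod _ 6).trans (Nat.mod_eq_of_lt hv)
  rcases p.toCtx.pi_eq hq (elt_mem p (p.π q)) (by rw [π_elt, h63]) with e | e
  · conv_lhs => rw [e]
    exact tup_elt p hv
  · conv_lhs => rw [e]
    rw [tup_mul p (Commute.refl z) (p.X.central _ (elt_mem p _)), tup_z, tup_elt p hv]
    exact (by decide +kernel : ∀ v < 64, tm t1 (inn v) = inn v) _ hv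

theorem rimg_facts : ∀ b ∈ W, ∀ i ∈ [1, 2, 8, 16, 32],
    rimg b i = (bif pB (nr i) b then qm 65 i else i) ∧ pB 1 i = false := by decide +kernel

theorem rel_high : ∀ b ∈ W, ∀ c < 128, c &&& 63 = rho b 4 → c = rho b 4 ^^^ (bif c.testBit 6 then 64 else 0) := by
  decide +kernel

theorem elt_one : elt p 1 = p.s := by
  rw [show (1 : ℕ) = 2 ^ 0 from rfl, ← gen_elt p 0 (by norm_num)]; rfl

theorem tup_R {r : G} (hr : p.R r) : ∃ sg, tup p r = rel (p.β r) sg := by
  have hb := p.β_mem r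
  have h : ∀ i, i < 6 → i ≠ 2 → cod p (r * gen p i * r⁻¹) = rimg (p.β r) (2 ^ i) := by
    intro i hi hne
    have hmem : 2 ^ i ∈ [1, 2, 8, 16, 32] :=
      (by decide : ∀ i < 6, i ≠ 2 → 2 ^ i ∈ [1, 2, 8, 16, 32]) i hi hne
    obtain ⟨e1, e2⟩ := rimg_facts _ hb _ hmem
    obtain ⟨hm, hπ⟩ := gen_spec p i hi
    have hA : p.A (gen p i) := p.A_of_perp hm (by rw [hπ]; exact e2)
    have hE := p.cab_E hA hr
    have ha : p.α (gen p i) = nr (2 ^ i) := by rw [Pt.α, hπ]
    have hcod : cod p (gen p i) = 2 ^ i := by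
      rw [gen_elt p i hi]; exact cod_elt p ((by decide : ∀ i < 6, 2 ^ i < 128) i hi)
    have hconj : r * gen p i * r⁻¹ = (Pt.cab (gen p i) r)⁻¹ * gen p i := by simp only [Pt.cab]; group
    rw [inv_eq_of_mul_eq_one_right (p.E_sq hE)] at hconj
    rw [e1, hconj]
    have hz := p.cab_ze hA hr
    have hs := p.cab_se hA hr
    rw [ha] at hz hs
    obtain ⟨⟨z1, s1⟩, -, -, ⟨z4, s4⟩⟩ := p.zse
    cases hp : pB (nr (2 ^ i)) (p.β r)
    · rw [hp] at hz hs
      rw [p.eq_of_zse hE (Or.inl rfl) (hz.trans z1.symm) (hs.trans s1.symm), one_mul, cond_false, hcod]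
    · rw [hp] at hz hs
      rw [p.eq_of_zse hE (Or.inr (Or.inr (Or.inr rfl))) (hz.trans z4.symm) (hs.trans s4.symm), cond_true,
        cod_mul p (mul_mem p.X.mem p.hs) hm, hcod]
      congr 1
      have h1 : cod p p.s = 1 := by rw [← elt_one p]; exact cod_elt p (by norm_num)
      rw [cod_mul p p.X.mem p.hs, cod_z, h1]
      decide +kernel
  have hc := cod_lt p (r * gen p 2 * r⁻¹)
  have h63 : cod p (r * gen p 2 * r⁻¹) &&& 63 = rho (p.β r) 4 := by
    rw [← cod_π p (p.toCtx.norm hr.2 (gen_spec p 2 (by norm_num)).1),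
      p.toCtx.act hr.2 (gen_spec p 2 (by norm_num)).1, (gen_spec p 2 (by norm_num)).2]
    exact p.m_rho hr 4 (by norm_num)
  refine ⟨(cod p (r * gen p 2 * r⁻¹)).testBit 6, ?_⟩
  simp only [tup, rel]
  rw [h 0 (by norm_num) (by norm_num), h 1 (by norm_num) (by norm_num), h 3 (by norm_num) (by norm_num),
    h 4 (by norm_num) (by norm_num), h 5 (by norm_num) (by norm_num), ← rel_high _ hb _ hc h63]
  rfl

theorem count_card (P : ℕ → Bool) :
    Nat.card {c // c < 64 ∧ P c = true} = (List.range 64).countP P := by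
  classical
  rw [List.countP_eq_length_filter, ← List.toFinset_card_of_nodup (List.nodup_range.filter _),
    ← Nat.card_eq_finsetCard]
  exact Nat.card_congr (Equiv.subtypeEquivRight fun c => by simp)

/-- Fixed elements of square one or not come in pairs. -/
theorem card_fixed {x : G} (hx : Commute x z) (S : G → Prop) (Sb : ℕ → Bool)
    (hS : ∀ c < 64, ∀ b : Bool, S ((bif b then z else 1) * elt p c) ↔ Sb c = true) :
    Nat.card {q // q ∈ p.Q ∧ Commute x q ∧ S q} =
      2 * (List.range 64).countP (fun c => Nat.beq (ev (tup p x) c) c && Sb c) := by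
  classical
  rw [← count_card]
  have key : ∀ c, c < 64 → (Commute x (elt p c) ↔ ev (tup p x) c = c) := fun c hc => by
    rw [ev_tup p hx (by omega)]
    constructor
    · intro h; rw [h.eq, mul_inv_cancel_right]; exact cod_elt p (by omega)
    · intro h
      refine mul_inv_eq_iff_eq_mul.mp ?_
      conv_lhs => rw [← (cod_spec p (p.toCtx.norm hx (elt_mem p c))).2, h]
  let T := {c // c < 64 ∧ (Nat.beq (ev (tup p x) c) c && Sb c) = true}
  let f : Bool × T → {q // q ∈ p.Q ∧ Commute x q ∧ S q} := fun u =>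
    ⟨(bif u.1 then z else 1) * elt p u.2.1, by
      obtain ⟨b, c, hc, he⟩ := u
      rw [Bool.and_eq_true, Nat.beq_eq] at he
      refine ⟨mul_mem (zb_mem p b) (elt_mem p c), ?_, (hS c hc b).mpr he.2⟩
      exact Commute.mul_right (zb_comm p b hx) ((key c hc).mpr he.1)⟩
  have hf : Function.Bijective f := by
    constructor
    · rintro ⟨b, c, hc, hb⟩ ⟨b', c', hc', hb'⟩ e
      have e' := congrArg Subtype.val e
      simp only [f] at e'
      have hm : ∀ (b : Bool) (c : ℕ), (bif b then z else 1) * elt p c = elt p (c ^^^ bif b then 64 else 0) := fun b c => by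
        cases b
        · simp
        · rw [cond_true, cond_true, elt_flip]
      rw [hm, hm] at e'
      have hb64 : ∀ (b : Bool) (c : ℕ), c < 64 → (c ^^^ bif b then 64 else 0) < 128 ∧
          ((c ^^^ bif b then 64 else 0) &&& 63 = c) ∧ ((c ^^^ bif b then 64 else 0).testBit 6 = b) := by decide +kernel
      have e2 := elt_inj p (hb64 b c hc).1 (hb64 b' c' hc').1 e'
      have ec : c = c' := by rw [← (hb64 b c hc).2.1, e2, (hb64 b' c' hc').2.1]
      have eb : b = b' := by rw [← (hb64 b c hc).2.2, e2, (hb64 b' c' hc').2.2]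
      subst ec eb; rfl
    · rintro ⟨q, hq, hxq, hSq⟩
      have hv := p.π_lt q
      have h63 : p.π q &&& 63 = p.π q := (Nat.and_two_pow_sub_one_eq_mod _ 6).trans (Nat.mod_eq_of_lt hv)
      obtain ⟨b, hb⟩ : ∃ b : Bool, q = (bif b then z else 1) * elt p (p.π q) := by
        rcases p.toCtx.pi_eq hq (elt_mem p (p.π q)) (by rw [π_elt, h63]) with e | e
        · exact ⟨false, by rw [cond_false, one_mul]; exact e⟩
        · exact ⟨true, e⟩
      have hc' : Commute x (elt p (p.π q)) := by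
        have he : elt p (p.π q) = (bif b then z else 1)⁻¹ * q := eq_inv_mul_of_mul_eq hb.symm
        rw [he]
        exact Commute.mul_right (zb_comm p b hx).inv_right hxq
      refine ⟨(b, ⟨p.π q, hv, ?_⟩), Subtype.ext hb.symm⟩
      rw [Bool.and_eq_true, Nat.beq_eq]
      exact ⟨(key _ hv).mp hc', (hS _ hv b).mp (hb ▸ hSq)⟩
  rw [← Nat.card_congr (Equiv.ofBijective f hf), Nat.card_prod]
  simp [T]

theorem nfix_eq {x : G} (hx : Commute x z) :
    Nat.card {q // q ∈ p.Q ∧ Commute x q ∧ True} = nfix (tup p x) := by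
  rw [card_fixed p hx (fun _ => True) (fun _ => true) fun c _ b => by simp]
  simp [nfix]

theorem nfix4_eq {x : G} (hx : Commute x z) :
    Nat.card {q // q ∈ p.Q ∧ Commute x q ∧ q * q ≠ 1} = nfix4 (tup p x) := by
  rw [card_fixed p hx (fun q => q * q ≠ 1) qB fun c hc b => by
    have hm := mul_mem (zb_mem p b) (elt_mem p c)
    have h1 := p.π_sq _ hm
    rw [p.π_mul _ (zb_mem p b) _ (elt_mem p c), π_zb, Nat.zero_xor, π_elt,
      (Nat.and_two_pow_sub_one_eq_mod c 6).trans (Nat.mod_eq_of_lt hc)] at h1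
    show zb p b * elt p c * (zb p b * elt p c) ≠ 1 ↔ _
    rw [ne_eq, h1, Bool.not_eq_false]]
  rfl

/-- The invariant is constant on classes of the centralizer. -/
theorem ivt_conj {d x : G} (hd : Commute d z) (hx : Commute x z) :
    ivt (tup p (d * x * d⁻¹)) = ivt (tup p x) := by
  have hdx : Commute (d * x * d⁻¹) z := (hd.mul_left hx).mul_left hd.inv_left
  have key : ∀ (S : G → Prop), (∀ q, S (d * q * d⁻¹) ↔ S q) →
      Nat.card {q // q ∈ p.Q ∧ Commute (d * x * d⁻¹) q ∧ S q} = Nat.card {q // q ∈ p.Q ∧ Commute x q ∧ S q} := by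
    intro S hS
    refine Nat.card_congr (Equiv.subtypeEquiv ((MulAut.conj d).symm.toEquiv) fun q => ?_)
    have e : (MulAut.conj d).symm.toEquiv q = d⁻¹ * q * d := by simp
    rw [e]
    have hc : Commute (d * x * d⁻¹) q ↔ Commute x (d⁻¹ * q * d) := by
      conv_lhs => rw [show q = d * (d⁻¹ * q * d) * d⁻¹ by group]
      exact Commute.conj_iff d
    have hQ : q ∈ p.Q ↔ d⁻¹ * q * d ∈ p.Q := by
      constructor
      · intro h; simpa using p.toCtx.norm hd.inv_left h
      · intro h; have := p.toCtx.norm hd h; simpa [mul_assoc] using this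
    rw [hc, hQ]
    constructor
    · rintro ⟨a, b, c⟩
      refine ⟨a, b, ?_⟩
      rw [← hS]; simpa [mul_assoc] using c
    · rintro ⟨a, b, c⟩
      refine ⟨a, b, ?_⟩
      rw [← hS] at c; simpa [mul_assoc] using c
  simp only [ivt]
  rw [← nfix_eq p hdx, ← nfix4_eq p hdx, ← nfix_eq p hx, ← nfix4_eq p hx, key _ fun _ => Iff.rfl, key _ fun q => by
    rw [show d * q * d⁻¹ * (d * q * d⁻¹) = d * (q * q) * d⁻¹ by group, ne_eq, ne_eq, conj_eq_one_iff]]

/-- The square of a product of the two parts. -/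
theorem prod_zse {q r : G} (hq : p.A q) (hr : p.R r) : p.InE (q * r * (q * r)) ∧
    p.ze (q * r * (q * r)) = (qB (p.α q) ^^ pB (p.α q) (p.β r)) ∧
    p.se (q * r * (q * r)) = (qB (p.β r) ^^ pB (p.α q) (p.β r)) := by
  have hE := p.cab_E hq hr
  obtain ⟨he1, z1, t1⟩ := p.sq_zse hq
  obtain ⟨he2, z2, t2⟩ := p.sq_zse' hr
  have e : q * r * (q * r) = q * q * (r * r) * Pt.cab q r := by
    have hx : r * q = (Pt.cab q r)⁻¹ * (q * r) := by rw [Pt.cab]; group
    rw [inv_eq_of_mul_eq_one_right (p.E_sq hE)] at hx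
    calc q * r * (q * r) = q * (r * q) * r := by group
      _ = q * Pt.cab q r * q * (r * r) := by rw [hx]; group
      _ = q * Pt.cab q r * q * (r * r) := rfl
      _ = Pt.cab q r * (q * q) * (r * r) := by rw [(p.E_central hE (p.A_T hq)).eq]; group
      _ = _ := by
        rw [mul_assoc (Pt.cab q r), (p.E_central hE (p.T_mul (p.T_mul (p.A_T hq) (p.A_T hq))
          (p.T_mul (p.R_T hr) (p.R_T hr)))).eq]
  have he12 := p.E_cases he1 _ he2
  rw [e]
  refine ⟨p.E_cases he12 _ hE, ?_, ?_⟩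
  · rw [(p.mul_zse he12 hE).1, (p.mul_zse he1 he2).1, z1, z2, p.cab_ze hq hr]
    cases qB (p.α q) <;> rfl
  · rw [(p.mul_zse he12 hE).2, (p.mul_zse he1 he2).2, t1, t2, p.cab_se hq hr]
    cases qB (p.β r) <;> rfl

/-- An element outside the extraspecial group with square central moves into the product of the two parts. -/
theorem normal_form' {y : G} (hy : Commute y z) (hyy : y * y = 1 ∨ y * y = z) (hyQ : y ∉ p.Q) :
    ∃ d q r, Commute d z ∧ p.A q ∧ p.R r ∧ d * y * d⁻¹ = q * r ∧ p.β r ≠ 0 := by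
  have hmem : y * y ∈ p.Q := hyy.elim (fun e => e ▸ one_mem _) fun e => e ▸ p.X.mem
  have hg : p.toCtx.m y * p.toCtx.m y = 1 := by
    rw [← p.toCtx.m_mul hy hy]; exact (p.toCtx.m_one_iff (hy.mul_left hy)).mpr hmem
  obtain ⟨h, hh, w, hw, he⟩ := inv_conj (p.toCtx.m_mem hy) hg
  obtain ⟨d, hd, rfl⟩ := p.toCtx.m_surj hh
  obtain ⟨r, hr, hb⟩ := p.β_surj hw
  have hyd : Commute (d * y * d⁻¹) z := (hd.mul_left hy).mul_left hd.inv_left
  have hm : p.toCtx.m (d * y * d⁻¹) = p.toCtx.m r := cd_ext fun x hx => by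
    rw [p.toCtx.m_mul (hd.mul_left hy) hd.inv_left, p.toCtx.m_mul hd hy, p.toCtx.m_inv hd, he x hx, p.m_rho hr x hx, hb]
  set y' := d * y * d⁻¹ with hy'
  have hq : y' * r⁻¹ ∈ p.Q := (p.toCtx.m_one_iff (hyd.mul_left hr.2.inv_left)).mp (by
    rw [p.toCtx.m_mul hyd hr.2.inv_left, p.toCtx.m_inv hr.2, hm, mul_inv_cancel])
  have hb0 : p.β r ≠ 0 := fun e => hyQ (by
    have hyd' : y' ∈ p.Q := by
      have := mul_mem hq ((p.β_zero hr).mp e)
      rwa [inv_mul_cancel_right] at this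
    have := p.toCtx.norm hd.inv_left hyd'
    rwa [hy', show d⁻¹ * (d * y * d⁻¹) * d⁻¹⁻¹ = y by group] at this)
  refine ⟨d, y' * r⁻¹, r, hd, p.A_of_perp hq ?_, hr, (inv_mul_cancel_right y' r).symm, hb0⟩
  set q := y' * r⁻¹ with hqdef
  have hy2 : y' * y' = y * y := by
    rcases hyy with e | e <;> rw [hy', show d * y * d⁻¹ * (d * y * d⁻¹) = d * (y * y) * d⁻¹ by group, e]
    · rw [mul_one, mul_inv_cancel]
    · rw [hd.eq, mul_inv_cancel_right]
  have e1 : r * q * r⁻¹ = q⁻¹ * (y * y) * (r * r)⁻¹ := by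
    have h3 : q * r * (q * r) = y * y := by rw [hqdef, inv_mul_cancel_right]; exact hy2
    rw [← h3]; group
  have hrr : (r * r)⁻¹ ∈ p.Q := inv_mem (p.E_A (p.sq_zse' hr).1).1
  have hπy : p.π (y * y) = 0 := hyy.elim (fun e => e ▸ p.toCtx.pi_one) fun e => e ▸ p.toCtx.pi_z
  have e2 := congrArg p.π e1
  rw [p.toCtx.act hr.2 hq, p.m_rho hr _ (p.π_lt q), p.π_mul _ (mul_mem (inv_mem hq) hmem) _ hrr,
    p.π_mul _ (inv_mem hq) _ hmem, hπy, Nat.xor_zero, p.toCtx.pi_inv hq,
    p.se_code (p.E_inv (p.sq_zse' hr).1)] at e2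
  refine rho_fix _ (p.β_mem r) _ (p.π_lt q) hb0 ?_
  rw [e2, Nat.xor_comm (p.π q), Nat.xor_assoc, Nat.xor_self, Nat.xor_zero]
  cases p.se (r * r)⁻¹ <;> decide

end Frm

/-- The invariants on the products of the two parts. -/
def prodChk (v b : ℕ) (sg : Bool) : Bool :=
  pB 1 v || (b == 0) || (qB b != pB (nr v) b) ||
    bif qB (nr v) == pB (nr v) b then
      bif (nr v == 0) || (nr v == b && !qB b) then ivt (tm (inn v) (rel b sg)) == (32, 24)
      else ivt (tm (inn v) (rel b sg)) == (16, 4)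
    else !(ivt (tm (inn v) (rel b sg)) == (32, 24)) && !(ivt (tm (inn v) (rel b sg)) == (16, 4))

theorem prodChk_all : ((List.range 64).all fun v => W.all fun b => [false, true].all fun sg => prodChk v b sg) = true := by
  decide +kernel

theorem inn_ivt : ∀ v < 64, 64 ≤ nfix (inn v) := by decide +kernel

end Local

namespace Sec

variable (d : Sec z)

open Local Local.Frm

theorem t_C : Commute d.t z := (d.A_T d.hq0).1.mul_left (d.R_T d.hr0).1

theorem t_T : d.toPt.T d.t := d.T_mul (d.A_T d.hq0) (d.R_T d.hr0)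

theorem t_sq : d.t * d.t = 1 := (d.prod_sq d.hq0 d.hr0).mpr (by rw [d.a0, d.b0]; decide)

theorem not_conj : ¬ IsConj z d.t := d.tt_not_conj d.hq0 d.hr0 d.a0 d.b0

theorem t_ne : d.t ≠ 1 := fun e => by
  have hr : d.r0 ∈ d.Q := by
    rw [show d.r0 = d.q0⁻¹ * (d.q0 * d.r0) by group, show d.q0 * d.r0 = 1 from e, mul_one]; exact inv_mem d.hq0.1
  have := (d.β_zero d.hr0).mpr hr
  rw [d.b0] at this
  exact absurd this (by decide)

theorem prod_class {q r : G} (hq : d.A q) (hr : d.R r) (hb : d.β r ≠ 0) (h2 : q * r * (q * r) = 1) :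
    ((d.α q = 0 ∨ d.α q = d.β r ∧ qB (d.β r) = false) ∧ IsConj z (q * r)) ∨
      (qB (d.α q) = true ∧ qB (d.β r) = true ∧ pB (d.α q) (d.β r) = true ∧ IsConj d.t (q * r)) := by
  obtain ⟨s1, s2⟩ := (d.prod_sq hq hr).mp h2
  rcases sing_pair _ (d.α_mem q) _ (d.β_mem r) hb s1 s2 with h | ⟨h, hsing⟩ | ⟨ha, hb', hab⟩
  · refine Or.inl ⟨Or.inl h, d.R_invol (d.R_mul (d.E_R (d.α_zero hq h)) hr) h2 ?_⟩
    rw [d.β_mul (d.E_R (d.α_zero hq h)) hr, d.β_E (d.α_zero hq h), Nat.zero_xor]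
    exact hb
  · refine Or.inl ⟨Or.inr ⟨h, hsing⟩, ?_⟩
    obtain ⟨y4, hy4, hn, hp⟩ := move_high _ (d.β_mem r)
    obtain ⟨x, hx, hxπ⟩ := d.π_surj y4 hy4
    set q1 := x * (r * x⁻¹ * r⁻¹) with hq1
    have hq1Q : q1 ∈ d.Q := mul_mem hx (d.toCtx.norm hr.2 (inv_mem hx))
    have hπ : d.π q1 = y4 ^^^ rho (d.β r) y4 := by
      rw [hq1, d.π_mul x hx _ (d.toCtx.norm hr.2 (inv_mem hx)), d.toCtx.act hr.2 (inv_mem hx), d.toCtx.pi_inv hx,
        d.m_rho hr _ (d.π_lt x), hxπ]
    have A1 : d.A q1 := d.A_of_perp hq1Q (by rw [hπ]; exact hp)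
    have a1 : d.α q1 = d.β r := by rw [Pt.α, hπ]; exact hn
    have hE : d.InE (q * q1⁻¹) := d.α_zero (d.A_mul hq (d.A_inv A1)) (by
      rw [d.α_mul hq (d.A_inv A1), d.α_inv A1, a1, h, Nat.xor_self])
    set e' := q * q1⁻¹ with he'
    have eqn : x⁻¹ * (q * r) * x = (x⁻¹ * e' * x) * r := by rw [he', hq1]; group
    have hEx : d.InE (x⁻¹ * e' * x) := by
      by_cases hc : Commute x⁻¹ e'
      · rwa [show x⁻¹ * e' * x = x⁻¹ * e' * x⁻¹⁻¹ by group, hc.eq, mul_inv_cancel_right]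
      · rw [show x⁻¹ * e' * x = x⁻¹ * e' * x⁻¹⁻¹ by group, d.X.not_commute_conj (inv_mem hx) (d.E_A hE).1 hc]
        exact d.E_cases (Or.inr (Or.inl rfl)) _ hE
    have hR := d.R_mul (d.E_R hEx) hr
    refine IsConj.trans (d.R_invol hR ?_ ?_) ?_
    · rw [← eqn, show x⁻¹ * (q * r) * x * (x⁻¹ * (q * r) * x) = x⁻¹ * (q * r * (q * r)) * x by group, h2]; group
    · rw [d.β_mul (d.E_R hEx) hr, d.β_E hEx, Nat.zero_xor]; exact hb
    · exact isConj_iff.mpr ⟨x, by rw [← eqn]; group⟩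
  · exact Or.inr ⟨ha, hb', hab, d.tt_conj hq hr d.hq0 d.hr0 d.a0 d.b0 ha hb' hab⟩

/-- The invariants decide the square and the class. -/
theorem outer_cases {y : G} (hy : Commute y z) (hyy : y * y = 1 ∨ y * y = z) (hyQ : y ∉ d.Q) :
    (y * y = 1 ∧ IsConj z y ∧ ¬ IsConj d.t y ∧ ivt (tup d.toPt y) = (32, 24)) ∨
      (y * y = 1 ∧ IsConj d.t y ∧ ¬ IsConj z y ∧ ivt (tup d.toPt y) = (16, 4)) ∨
      (y * y = z ∧ ivt (tup d.toPt y) ≠ (32, 24) ∧ ivt (tup d.toPt y) ≠ (16, 4)) := by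
  obtain ⟨c, q, r, hc, hq, hr, e, hb⟩ := normal_form' d.toPt hy hyy hyQ
  obtain ⟨sg, hsg⟩ := tup_R d.toPt hr
  have hiv := ivt_conj d.toPt hc hy
  rw [e, tup_mul d.toPt (d.A_T hq).1 hr.2, tup_Q d.toPt hq.1, hsg] at hiv
  have hchk := List.all_eq_true.mp (List.all_eq_true.mp (List.all_eq_true.mp prodChk_all _
    (List.mem_range.mpr (d.π_lt q))) _ (d.β_mem r)) sg (by cases sg <;> simp)
  have hne : (d.β r == 0) = false := beq_eq_false_iff_ne.mpr hb
  have hperp := d.A_perp hq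
  have hsq : q * r * (q * r) = y * y := by
    rw [← e, show c * y * c⁻¹ * (c * y * c⁻¹) = c * (y * y) * c⁻¹ by group]
    rcases hyy with h | h <;> rw [h]
    · simp
    · rw [hc.eq, mul_inv_cancel_right]
  obtain ⟨hE, hze, hse⟩ := prod_zse d.toPt hq hr
  rw [hsq] at hze hse
  obtain ⟨⟨z1, t1'⟩, ⟨z2, t2⟩, -, -⟩ := d.zse
  have hq' : qB (d.β r) = pB (d.α q) (d.β r) := by
    rcases hyy with h | h <;> rw [h] at hse
    · rw [t1'] at hse; revert hse; cases qB (d.β r) <;> cases pB (d.α q) (d.β r) <;> simp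
    · rw [t2] at hse; revert hse; cases qB (d.β r) <;> cases pB (d.α q) (d.β r) <;> simp
  have hbne : (qB (d.β r) != pB (nr (d.π q)) (d.β r)) = false := by rw [bne_eq_false_iff_eq]; exact hq'
  simp only [prodChk, hperp, hne, hbne, Bool.false_or] at hchk
  change (bif qB (d.α q) == pB (d.α q) (d.β r) then
    bif (d.α q == 0) || (d.α q == d.β r && !qB (d.β r)) then _ else _ else _) = true at hchk
  have hcj : IsConj (q * r) y := isConj_iff.mpr ⟨c⁻¹, by rw [← e]; group⟩
  rcases hyy with h | h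
  · rw [h, z1] at hze
    have hqa : (qB (d.α q) == pB (d.α q) (d.β r)) = true := by
      revert hze; cases qB (d.α q) <;> cases pB (d.α q) (d.β r) <;> simp
    rw [hqa, cond_true] at hchk
    rw [h] at hsq
    rcases d.prod_class hq hr hb hsq with ⟨ha, hz⟩ | ⟨ha, hb', hab, ht⟩
    · refine Or.inl ⟨h, hz.trans hcj, fun ht => d.not_conj ((hz.trans hcj).trans ht.symm), ?_⟩
      have hcond : ((d.α q == 0) || (d.α q == d.β r && !qB (d.β r))) = true := by
        rcases ha with ha | ⟨ha, hs⟩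
        · rw [ha]; rfl
        · rw [hs, Bool.not_false, Bool.and_true, beq_iff_eq.mpr ha, Bool.or_true]
      rw [hcond, cond_true, beq_iff_eq] at hchk
      rw [← hiv]; exact hchk
    · refine Or.inr (Or.inl ⟨h, ht.trans hcj, fun hz => d.not_conj (hz.trans (ht.trans hcj).symm), ?_⟩)
      have hcond : ((d.α q == 0) || (d.α q == d.β r && !qB (d.β r))) = false := by
        rw [hb', Bool.not_true, Bool.and_false, Bool.or_false, beq_eq_false_iff_ne]
        intro h0; rw [h0] at ha; exact absurd ha (by decide)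
      rw [hcond, cond_false, beq_iff_eq] at hchk
      rw [← hiv]; exact hchk
  · rw [h, z2] at hze
    have hqa : (qB (d.α q) == pB (d.α q) (d.β r)) = false := by
      revert hze; cases qB (d.α q) <;> cases pB (d.α q) (d.β r) <;> simp
    rw [hqa, cond_false, Bool.and_eq_true, Bool.not_eq_true', Bool.not_eq_true', beq_eq_false_iff_ne,
      beq_eq_false_iff_ne] at hchk
    rw [← hiv]
    exact Or.inr (Or.inr ⟨h, hchk⟩)

theorem ivt_Q {q : G} (hq : q ∈ d.Q) : ivt (tup d.toPt q) ≠ (32, 24) ∧ ivt (tup d.toPt q) ≠ (16, 4) := by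
  rw [tup_Q d.toPt hq]
  have h := inn_ivt _ (d.π_lt q)
  exact ⟨fun e => by simp only [ivt, Prod.mk.injEq] at e; omega, fun e => by simp only [ivt, Prod.mk.injEq] at e; omega⟩

theorem sq_cases {y : G} (hy : Commute y z) (h : tm (tup d.toPt y) (tup d.toPt y) = t1) :
    y * y = 1 ∨ y * y = z :=
  tup_eq_one d.toPt (hy.mul_left hy) (by rw [tup_mul d.toPt hy hy, h])

/-- The second class is read off the invariant. -/
theorem T_iff {y : G} (hy : Commute y z) (h : tm (tup d.toPt y) (tup d.toPt y) = t1) :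
    IsConj d.t y ↔ ivt (tup d.toPt y) = (16, 4) := by
  have hsq := d.sq_cases hy h
  by_cases hQ : y ∈ d.Q
  · refine ⟨fun ht => ?_, fun e => absurd e (d.ivt_Q hQ).2⟩
    exfalso
    obtain ⟨g, hg⟩ := isConj_iff.mp ht
    have hy2 : y * y = 1 := by
      rw [← hg, show g * d.t * g⁻¹ * (g * d.t * g⁻¹) = g * (d.t * d.t) * g⁻¹ by group, d.t_sq]; simp
    have hy1 : y ≠ 1 := fun e => d.t_ne (conj_eq_one_iff.mp (hg.trans e))
    exact d.not_conj ((d.Q_invol hQ hy2 hy1).trans ht.symm)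
  · rcases d.outer_cases hy hsq hQ with ⟨-, -, h1, h2⟩ | ⟨-, h1, -, h2⟩ | ⟨h0, -, h2⟩
    · exact iff_of_false h1 (by rw [h2]; decide)
    · exact iff_of_true h1 h2
    · refine iff_of_false (fun ht => ?_) h2
      obtain ⟨g, hg⟩ := isConj_iff.mp ht
      rw [← hg, show g * d.t * g⁻¹ * (g * d.t * g⁻¹) = g * (d.t * d.t) * g⁻¹ by group, d.t_sq, mul_one,
        mul_inv_cancel] at h0
      exact d.X.ne h0.symm

/-- The first class outside the extraspecial group is read off the invariant. -/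
theorem Z_iff {y : G} (hy : Commute y z) (h : tm (tup d.toPt y) (tup d.toPt y) = t1) :
    (y ∉ d.Q ∧ IsConj z y) ↔ ivt (tup d.toPt y) = (32, 24) := by
  by_cases hQ : y ∈ d.Q
  · exact iff_of_false (fun h => h.1 hQ) (d.ivt_Q hQ).1
  · rcases d.outer_cases hy (d.sq_cases hy h) hQ with ⟨-, h1, -, h2⟩ | ⟨-, -, h1, h2⟩ | ⟨h0, h2, -⟩
    · exact iff_of_true ⟨hQ, h1⟩ h2
    · exact iff_of_false (fun h => h1 h.2) (by rw [h2]; decide)
    · refine iff_of_false (fun hh => ?_) h2
      obtain ⟨g, hg⟩ := isConj_iff.mp hh.2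
      rw [← hg, show g * z * g⁻¹ * (g * z * g⁻¹) = g * (z * z) * g⁻¹ by group, d.X.zz, mul_one, mul_inv_cancel] at h0
      exact d.X.ne h0.symm

end Sec

end Cfsg.Lib.SuzukiType
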