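import Cfsg.Agent.InvolCalc.ZStarApps
import Cfsg.Agent.PGroups.AutOrder
import Cfsg.Agent.LocalThree.HallJankoType.OrderFormula

/-!
A group with two classes of involutions whose centralizers are a group of order 128 and a group of order twice a group
with an isolated involution of quaternion type has order 40320.
-/

set_option autoImplicit false
set_option linter.style.haveILetI false
set_option linter.unusedSectionVars false

namespace Cfsg.Lib.SuzukiType.KOrder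

open Subgroup
open Cfsg.Lib.HallJankoType (PairSet pairInvol two_class_formula card_class_mul order_two_of_conj even_of_not_conj)
open Cfsg.Lib.InvolCalc (central_spec sq_of_order_two order_two_of_mul_self ne_one_of_order_two)

universe u

variable {K : Type u} [Group K] [Finite K]

/-- The hypotheses. -/
structure KData (K : Type u) [Group K] where
  z : K
  y : K
  z_sq : z * z = 1
  y_sq : y * y = 1
  z_ne : z ≠ 1
  y_ne : y ≠ 1
  zy : Commute z y
  D : Subgroup K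
  normal_D : D.Normal
  z_D : z ∈ D
  y_D : y ∉ D
  D_out : ∀ {a b : K}, a ∉ D → b ∉ D → a * b ∈ D
  classes : ∀ {k : K}, k * k = 1 → k ≠ 1 → IsConj z k ∨ IsConj y k
  card_CZ : Nat.card ↥(centralizer ({z} : Set K)) = 128
  outer : ∀ {k : K}, k * k = 1 → k ∉ D → Commute k z → ∃ h, Commute h z ∧ h * y * h⁻¹ = k
  orbit8 : Nat.card {k : K // ∃ h, Commute h z ∧ h * y * h⁻¹ = k} = 8
  card_Q : Nat.card ↥(centralizer ({y} : Set K) ⊓ D ⊓ centralizer ({z} : Set K)) = 8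
  Q_invol : ∀ {k : K}, Commute k y → k ∈ D → Commute k z → k * k = 1 → k = 1 ∨ k = z
  card_zz : Nat.card {k : K // IsConj z k ∧ Commute k z} = 27
  noncomm : ∃ a b, IsConj z a ∧ IsConj z b ∧ ¬ Commute a b

/-- An automorphism of square one without fixed points inverts, and the group is abelian. -/
theorem inverted {s : K} (hs : s * s = 1) {H : Subgroup K} (hH : ∀ a ∈ H, s * a * s⁻¹ ∈ H)
    (hfix : ∀ a ∈ H, Commute a s → a = 1) :
    (∀ a ∈ H, s * a * s⁻¹ = a⁻¹) ∧ ∀ a ∈ H, ∀ b ∈ H, Commute a b := by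
  let f : H → H := fun a => ⟨a.1⁻¹ * (s * a.1 * s⁻¹), mul_mem (inv_mem a.2) (hH _ a.2)⟩
  have hinj : Function.Injective f := by
    rintro ⟨a, ha⟩ ⟨b, hb⟩ e
    have e' : a⁻¹ * (s * a * s⁻¹) = b⁻¹ * (s * b * s⁻¹) := congrArg Subtype.val e
    have e2 : b * a⁻¹ = s * (b * a⁻¹) * s⁻¹ := by
      calc b * a⁻¹ = b * (a⁻¹ * (s * a * s⁻¹)) * (s * a⁻¹ * s⁻¹) := by group
        _ = b * (b⁻¹ * (s * b * s⁻¹)) * (s * a⁻¹ * s⁻¹) := by rw [e']
        _ = _ := by group
    have := hfix _ (mul_mem hb (inv_mem ha)) (eq_mul_inv_iff_mul_eq.mp e2)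
    exact Subtype.ext (mul_inv_eq_one.mp this).symm
  have hinv : ∀ a ∈ H, s * a * s⁻¹ = a⁻¹ := by
    intro a ha
    obtain ⟨⟨c, hc⟩, e⟩ := (Finite.injective_iff_surjective.mp hinj) ⟨a, ha⟩
    have e' : c⁻¹ * (s * c * s⁻¹) = a := congrArg Subtype.val e
    rw [← e', show s * (c⁻¹ * (s * c * s⁻¹)) * s⁻¹ = s * c⁻¹ * (s * c * (s⁻¹ * s⁻¹)) by group,
      ← mul_inv_rev, hs, inv_one, mul_one]
    have hs' : s⁻¹ = s := inv_eq_of_mul_eq_one_right hs
    calc s * c⁻¹ * (s * c) = s * c⁻¹ * (s⁻¹ * c) := by rw [hs']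
      _ = _ := by group
  refine ⟨hinv, fun a ha b hb => ?_⟩
  have h := hinv _ (mul_mem ha hb)
  rw [show s * (a * b) * s⁻¹ = (s * a * s⁻¹) * (s * b * s⁻¹) by group, hinv a ha, hinv b hb, ← mul_inv_rev,
    inv_inj] at h
  exact h.symm

/-- An element of two-power order has an involution among its powers. -/
theorem exists_invol {x : K} {k : ℕ} (hx : x ^ 2 ^ k = 1) (h1 : x ≠ 1) : ∃ j : ℕ, orderOf (x ^ j) = 2 := by
  obtain ⟨i, -, hi⟩ := (Nat.dvd_prime_pow Nat.prime_two).mp (orderOf_dvd_of_pow_eq_one hx)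
  obtain ⟨m, rfl⟩ := Nat.exists_eq_succ_of_ne_zero (n := i) fun e => h1 (orderOf_eq_one_iff.mp (by rw [hi, e, pow_zero]))
  refine ⟨2 ^ m, ?_⟩
  rw [orderOf_pow, hi, Nat.gcd_eq_right ⟨2, by rw [pow_succ]⟩, pow_succ, Nat.mul_div_cancel_left _ (by positivity)]

/-- A subgroup acting freely by conjugation on a set of elements has order dividing its size. -/
theorem conj_free_dvd (H : Subgroup K) (p : K → Prop) (hp : ∀ h ∈ H, ∀ x, p x → p (h * x * h⁻¹))
    (hfree : ∀ h ∈ H, ∀ x, p x → h * x * h⁻¹ = x → h = 1) : Nat.card ↥H ∣ Nat.card {x : K // p x} := by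
  letI : MulAction ↥H {x : K // p x} :=
    { smul := fun h x => ⟨h.1 * x.1 * h.1⁻¹, hp _ h.2 _ x.2⟩
      one_smul := fun x => Subtype.ext (by show (1 : K) * x.1 * (1 : K)⁻¹ = x.1; simp)
      mul_smul := fun a b x => Subtype.ext (by
        show a.1 * b.1 * x.1 * (a.1 * b.1)⁻¹ = a.1 * (b.1 * x.1 * b.1⁻¹) * a.1⁻¹
        group) }
  exact Cfsg.Lib.PGroups.card_dvd_of_free fun h x e => Subtype.ext (hfree _ h.2 _ x.2 (congrArg Subtype.val e))

/-- An element of odd order is a power of its square. -/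
theorem exists_sqrt {x : K} (hx : Odd (orderOf x)) : ∃ j : ℕ, x = (x * x) ^ j := by
  obtain ⟨k, hk⟩ := hx
  refine ⟨k + 1, ?_⟩
  rw [← pow_two, ← pow_mul, show 2 * (k + 1) = orderOf x + 1 by omega, pow_succ, pow_orderOf_eq_one, one_mul]

namespace KData

variable (d : KData K)

theorem ord_z : orderOf d.z = 2 := order_two_of_mul_self d.z_sq d.z_ne

theorem ord_y : orderOf d.y = 2 := order_two_of_mul_self d.y_sq d.y_ne

theorem z_inv : d.z⁻¹ = d.z := inv_eq_of_mul_eq_one_right d.z_sq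

theorem y_inv : d.y⁻¹ = d.y := inv_eq_of_mul_eq_one_right d.y_sq

theorem class_D {k : K} (h : IsConj d.z k) : k ∈ d.D := by
  obtain ⟨c, rfl⟩ := isConj_iff.mp h
  exact d.normal_D.conj_mem _ d.z_D c

theorem class_out {k : K} (h : IsConj d.y k) : k ∉ d.D := by
  obtain ⟨c, rfl⟩ := isConj_iff.mp h
  intro hD
  have := d.normal_D.conj_mem _ hD c⁻¹
  rw [show c⁻¹ * (c * d.y * c⁻¹) * c⁻¹⁻¹ = d.y by group] at this
  exact d.y_D this

theorem not_fused : ¬ IsConj d.z d.y := fun h => d.y_D (d.class_D h)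

theorem class_sq {k : K} (h : IsConj d.z k) : k * k = 1 ∧ k ≠ 1 :=
  ⟨sq_of_order_two (order_two_of_conj d.ord_z h), ne_one_of_order_two (order_two_of_conj d.ord_z h)⟩

theorem invol_D {k : K} (hk : k * k = 1) (h1 : k ≠ 1) (hD : k ∈ d.D) : IsConj d.z k :=
  (d.classes hk h1).resolve_right fun h => d.class_out h hD

theorem invol_out {k : K} (hk : k * k = 1) (hD : k ∉ d.D) : IsConj d.y k :=
  (d.classes hk fun e => hD (e ▸ one_mem _)).resolve_left fun h => hD (d.class_D h)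

theorem pow128 {x : K} (hx : Commute x d.z) : x ^ 2 ^ 7 = 1 := by
  have h : Subgroup.zpowers x ≤ centralizer ({d.z} : Set K) := zpowers_le.mpr (mem_centralizer_singleton_iff.mpr hx)
  have h2 := card_dvd_of_le h
  rw [Nat.card_zpowers, d.card_CZ] at h2
  exact orderOf_dvd_iff_pow_eq_one.mp (by simpa using h2)

theorem odd_comm {x : K} (hx : Commute x d.z) (ho : Odd (orderOf x)) : x = 1 := by
  obtain ⟨i, -, hi⟩ := (Nat.dvd_prime_pow Nat.prime_two).mp (orderOf_dvd_of_pow_eq_one (d.pow128 hx))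
  cases i with
  | zero => exact orderOf_eq_one_iff.mp (by rw [hi, pow_zero])
  | succ m =>
    exfalso
    rw [hi, Nat.odd_iff, pow_succ] at ho
    omega

theorem odd_comm_class {x w : K} (hw : IsConj d.z w) (hx : Commute x w) (ho : Odd (orderOf x)) : x = 1 := by
  obtain ⟨c, hc⟩ := isConj_iff.mp hw
  have h1 : Commute (c⁻¹ * x * c) d.z := by
    have e : c⁻¹ * w * c = d.z := by rw [← hc]; group
    rw [← e]
    show c⁻¹ * x * c * (c⁻¹ * w * c) = c⁻¹ * w * c * (c⁻¹ * x * c)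
    rw [show c⁻¹ * x * c * (c⁻¹ * w * c) = c⁻¹ * (x * w) * c by group, hx.eq]
    group
  have h2 := d.odd_comm h1 (by
    rw [show c⁻¹ * x * c = MulAut.conj c⁻¹ x by simp, MulEquiv.orderOf_eq]; exact ho)
  calc x = c * (c⁻¹ * x * c) * c⁻¹ := by group
    _ = 1 := by rw [h2]; group

/-- The part of the centralizer of the outer involution in the index two subgroup. -/
def X : Subgroup K := centralizer ({d.y} : Set K) ⊓ d.D

/-- Its intersection with the centralizer of the inner involution. -/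
def Q : Subgroup K := d.X ⊓ centralizer ({d.z} : Set K)

theorem mem_X {x : K} : x ∈ d.X ↔ Commute x d.y ∧ x ∈ d.D := by
  simp only [X, mem_inf, mem_centralizer_singleton_iff]; rfl

theorem mem_Q {x : K} : x ∈ d.Q ↔ x ∈ d.X ∧ Commute x d.z := by
  simp only [Q, mem_inf, mem_centralizer_singleton_iff]; rfl

theorem z_X : d.z ∈ d.X := d.mem_X.mpr ⟨d.zy, d.z_D⟩

theorem Q_inv {x : K} (hx : x ∈ d.Q) (h2 : x * x = 1) : x = 1 ∨ x = d.z :=
  d.Q_invol (d.mem_X.mp (d.mem_Q.mp hx).1).1 (d.mem_X.mp (d.mem_Q.mp hx).1).2 (d.mem_Q.mp hx).2 h2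

theorem isolated : Cfsg.IsIsolatedInvolution (⟨d.z, d.z_X⟩ : ↥d.X) := by
  refine ⟨by rw [Subgroup.orderOf_mk]; exact d.ord_z, fun g hc => Subtype.ext ?_⟩
  have hc' : Commute d.z (g.1 * d.z * g.1⁻¹) := congrArg Subtype.val hc
  have hm : g.1 * d.z * g.1⁻¹ ∈ d.X := mul_mem (mul_mem g.2 d.z_X) (inv_mem g.2)
  refine (d.Q_inv (d.mem_Q.mpr ⟨hm, hc'.symm⟩) ?_).resolve_left fun e => d.z_ne (conj_eq_one_iff.mp e)
  rw [show g.1 * d.z * g.1⁻¹ * (g.1 * d.z * g.1⁻¹) = g.1 * (d.z * d.z) * g.1⁻¹ by group, d.z_sq]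
  group

/-- The odd part. -/
def A : Subgroup K := (Cfsg.pPrimeCore 2 ↥d.X).map d.X.subtype

theorem A_le : d.A ≤ d.X := map_subtype_le _

theorem A_odd {a : K} (ha : a ∈ d.A) : Odd (orderOf a) := by
  obtain ⟨a, h, rfl⟩ := mem_map.mp ha
  rw [show orderOf (d.X.subtype a) = orderOf a from (Subgroup.orderOf_coe a).symm ▸ rfl,
    show a = ((⟨a, h⟩ : ↥(Cfsg.pPrimeCore 2 ↥d.X)) : ↥d.X) from rfl, Subgroup.orderOf_coe]
  exact Cfsg.Lib.ZStarApps.odd_card_pPrimeCore.of_dvd_nat (orderOf_dvd_natCard _)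

theorem A_norm {g a : K} (hg : g ∈ d.X) (ha : a ∈ d.A) : g * a * g⁻¹ ∈ d.A := by
  obtain ⟨a, h, rfl⟩ := mem_map.mp ha
  exact mem_map.mpr ⟨⟨g, hg⟩ * a * ⟨g, hg⟩⁻¹,
    Subgroup.Normal.conj_mem inferInstance _ h _, rfl⟩

theorem A_comm {g : K} (hg : g ∈ d.X) : g * d.z * g⁻¹ * d.z⁻¹ ∈ d.A := by
  have h := Cfsg.Lib.ZStarApps.zstarProp d.isolated (⟨g, hg⟩ : ↥d.X)
  refine mem_map.mpr ⟨_, inv_mem h, ?_⟩
  simp [mul_assoc]

theorem A_fix {a : K} (ha : a ∈ d.A) (h : Commute a d.z) : a = 1 := d.odd_comm h (d.A_odd ha)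

theorem A_inv {a : K} (ha : a ∈ d.A) : d.z * a * d.z⁻¹ = a⁻¹ :=
  (inverted d.z_sq (fun _ h => d.A_norm d.z_X h) (fun _ h => d.A_fix h)).1 a ha

theorem A_abelian {a b : K} (ha : a ∈ d.A) (hb : b ∈ d.A) : Commute a b :=
  (inverted d.z_sq (fun _ h => d.A_norm d.z_X h) (fun _ h => d.A_fix h)).2 a ha b hb

theorem A_y {a : K} (ha : a ∈ d.A) : Commute a d.y := (d.mem_X.mp (d.A_le ha)).1

theorem A_D {a : K} (ha : a ∈ d.A) : a ∈ d.D := (d.mem_X.mp (d.A_le ha)).2

theorem A_z {a : K} (ha : a ∈ d.A) : ∃ b ∈ d.A, b * d.z * b⁻¹ = a * d.z := by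
  obtain ⟨j, hj⟩ := exists_sqrt (d.A_odd ha)
  refine ⟨a ^ j, pow_mem ha j, ?_⟩
  have hi := d.A_inv (pow_mem ha j)
  rw [d.z_inv] at hi
  calc a ^ j * d.z * (a ^ j)⁻¹ = a ^ j * d.z * (d.z * a ^ j * d.z) := by rw [hi]
    _ = a ^ j * (d.z * d.z) * a ^ j * d.z := by group
    _ = a * d.z := by rw [d.z_sq, mul_one, ← (Commute.refl a).mul_pow, ← hj]

theorem decomp {g : K} (hg : g ∈ d.X) : ∃ a ∈ d.A, ∃ q ∈ d.Q, g = a * q := by
  obtain ⟨b, hb, e⟩ := d.A_z (d.A_comm hg)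
  rw [inv_mul_cancel_right] at e
  refine ⟨b, hb, b⁻¹ * g, d.mem_Q.mpr ⟨mul_mem (inv_mem (d.A_le hb)) hg, ?_⟩, (mul_inv_cancel_left b g).symm⟩
  show b⁻¹ * g * d.z = d.z * (b⁻¹ * g)
  calc b⁻¹ * g * d.z = b⁻¹ * (g * d.z * g⁻¹) * g := by group
    _ = b⁻¹ * (b * d.z * b⁻¹) * g := by rw [e]
    _ = _ := by group

theorem card_X : Nat.card ↥d.X = Nat.card ↥d.A * 8 := by
  have hQ : Nat.card ↥d.Q = 8 := by rw [Q, X]; exact d.card_Q
  rw [← hQ, ← Nat.card_prod]
  refine (Nat.card_congr (Equiv.ofBijective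
    (fun u : ↥d.A × ↥d.Q => (⟨u.1.1 * u.2.1, mul_mem (d.A_le u.1.2) (d.mem_Q.mp u.2.2).1⟩ : ↥d.X)) ⟨?_, ?_⟩)).symm
  · rintro ⟨⟨a, ha⟩, ⟨q, hq⟩⟩ ⟨⟨a', ha'⟩, ⟨q', hq'⟩⟩ e
    have e' : a * q = a' * q' := congrArg Subtype.val e
    have e2 : a'⁻¹ * a = q' * q⁻¹ := by
      calc a'⁻¹ * a = a'⁻¹ * (a * q) * q⁻¹ := by group
        _ = _ := by rw [e']; group
    have h1 := d.A_fix (mul_mem (inv_mem ha') ha)
      (e2 ▸ (d.mem_Q.mp hq').2.mul_left (d.mem_Q.mp hq).2.inv_left)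
    have : a = a' := (inv_mul_eq_one.mp h1).symm
    subst this
    have := mul_left_cancel e'
    subst this
    rfl
  · rintro ⟨g, hg⟩
    obtain ⟨a, ha, q, hq, rfl⟩ := d.decomp hg
    exact ⟨(⟨a, ha⟩, ⟨q, hq⟩), rfl⟩

theorem card_CY : Nat.card ↥(centralizer ({d.y} : Set K)) = 16 * Nat.card ↥d.A := by
  rw [show 16 * Nat.card ↥d.A = 2 * (Nat.card ↥d.A * 8) by ring, ← d.card_X,
    show 2 = Nat.card Bool by simp, ← Nat.card_prod]
  refine (Nat.card_congr (Equiv.ofBijective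
    (fun u : Bool × ↥d.X => (⟨(bif u.1 then d.y else 1) * u.2.1, mul_mem
      (by cases u.1; exacts [one_mem _, mem_centralizer_singleton_iff.mpr rfl])
      (mem_centralizer_singleton_iff.mpr (d.mem_X.mp u.2.2).1)⟩ : ↥(centralizer ({d.y} : Set K)))) ⟨?_, ?_⟩)).symm
  · rintro ⟨b, x, hx⟩ ⟨b', x', hx'⟩ e
    have e' : (bif b then d.y else 1) * x = (bif b' then d.y else 1) * x' := congrArg Subtype.val e
    have hxD := (d.mem_X.mp hx).2
    have hxD' := (d.mem_X.mp hx').2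
    have hout : ∀ w ∈ d.D, d.y * w ∉ d.D := fun w hw h => d.y_D (by simpa using mul_mem h (inv_mem hw))
    cases b <;> cases b'
    · simp at e'; subst e'; rfl
    · simp at e'; exact absurd (e' ▸ hxD) (hout _ hxD')
    · simp at e'; exact absurd (e' ▸ hxD') (hout _ hxD)
    · simp at e'; subst e'; rfl
  · rintro ⟨g, hg⟩
    have hg' : Commute g d.y := mem_centralizer_singleton_iff.mp hg
    by_cases hD : g ∈ d.D
    · exact ⟨(false, ⟨g, d.mem_X.mpr ⟨hg', hD⟩⟩), Subtype.ext (one_mul g)⟩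
    · refine ⟨(true, ⟨d.y * g, d.mem_X.mpr ⟨(Commute.refl d.y).mul_left hg', d.D_out d.y_D hD⟩⟩), Subtype.ext ?_⟩
      show d.y * (d.y * g) = g
      rw [← mul_assoc, d.y_sq, one_mul]

theorem X_class {k : K} : (Commute k d.y ∧ IsConj d.z k) ↔ ∃ a ∈ d.A, k = a * d.z := by
  constructor
  · rintro ⟨hc, hk⟩
    obtain ⟨hkk, hk1⟩ := d.class_sq hk
    obtain ⟨a, ha, q, hq, rfl⟩ := d.decomp (d.mem_X.mpr ⟨hc, d.class_D hk⟩)
    have hqq : q * q ∈ d.A := by
      have e : q * q = (a * (q * a * q⁻¹))⁻¹ := by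
        refine eq_inv_of_mul_eq_one_right ?_
        rw [← hkk]; group
      rw [e]
      exact inv_mem (mul_mem ha (d.A_norm (d.mem_Q.mp hq).1 ha))
    rcases d.Q_inv hq (d.A_fix hqq ((d.mem_Q.mp hq).2.mul_left (d.mem_Q.mp hq).2)) with rfl | rfl
    · exfalso
      rw [mul_one] at hkk hk1
      obtain ⟨j, hj⟩ := exists_sqrt (d.A_odd ha)
      exact hk1 (by rw [hj, hkk, one_pow])
    · exact ⟨a, ha, rfl⟩
  · rintro ⟨a, ha, rfl⟩
    obtain ⟨b, -, e⟩ := d.A_z ha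
    exact ⟨(d.A_y ha).mul_left d.zy, isConj_iff.mpr ⟨b, e⟩⟩

theorem out_y {k : K} (hk : k * k = 1) (hc : Commute k d.y) (hD : k ∉ d.D) :
    k = d.y ∨ ∃ a ∈ d.A, k = d.y * (a * d.z) := by
  have hsq : d.y * k * (d.y * k) = 1 := by rw [hc.mul_mul_mul_comm, d.y_sq, hk, one_mul]
  have hk' : k = d.y * (d.y * k) := by rw [← mul_assoc, d.y_sq, one_mul]
  by_cases h1 : d.y * k = 1
  · exact Or.inl (by rw [hk', h1, mul_one])
  · obtain ⟨a, ha, e⟩ :=
      d.X_class.mp ⟨(Commute.refl d.y).mul_left hc, d.invol_D hsq h1 (d.D_out d.y_D hD)⟩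
    exact Or.inr ⟨a, ha, by rw [hk', e]⟩

theorem y_az {b : K} (hb : b ∈ d.A) : IsConj d.y (d.y * (b * d.z)) := by
  obtain ⟨hc, hk⟩ := d.X_class.mpr ⟨b, hb, rfl⟩
  refine d.invol_out (by rw [hc.mul_mul_mul_comm, d.y_sq, (d.class_sq hk).1, one_mul]) fun h => d.y_D ?_
  have := mul_mem h (inv_mem (d.class_D hk))
  rwa [mul_inv_cancel_right] at this

theorem pair_y : Nat.card (PairSet d.z d.y d.y) = Nat.card ↥d.A * Nat.card ↥d.A := by
  rw [← Nat.card_prod]
  have hval : ∀ a ∈ d.A, ∀ b ∈ d.A, pairInvol (a * d.z) (d.y * (b * d.z)) = d.y := by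
    intro a ha b hb
    have hi := d.A_inv hb
    rw [d.z_inv] at hi
    have e : a * d.z * (d.y * (b * d.z)) = d.y * (a * b⁻¹) := by
      rw [← hi]
      calc a * d.z * (d.y * (b * d.z)) = a * (d.z * d.y) * b * d.z := by group
        _ = (a * d.y) * (d.z * b * d.z) := by rw [d.zy.eq]; group
        _ = _ := by rw [(d.A_y ha).eq]; group
    have hc : a * b⁻¹ ∈ d.A := mul_mem ha (inv_mem hb)
    have hodd := d.A_odd hc
    have hcom : Commute d.y (a * b⁻¹) := (d.A_y hc).symm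
    rw [pairInvol, e, hcom.orderOf_mul_eq_mul_orderOf_of_coprime (by rw [d.ord_y]; exact Nat.coprime_two_left.mpr hodd),
      d.ord_y, Nat.mul_div_cancel_left _ (by norm_num), hcom.mul_pow, pow_orderOf_eq_one, mul_one]
    obtain ⟨m, hm⟩ := hodd
    rw [hm, pow_succ, pow_mul, pow_two, d.y_sq, one_pow, one_mul]
  refine (Nat.card_congr (Equiv.ofBijective (fun u : ↥d.A × ↥d.A =>
    (⟨(u.1.1 * d.z, d.y * (u.2.1 * d.z)), (d.X_class.mpr ⟨_, u.1.2, rfl⟩).2, d.y_az u.2.2,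
      hval _ u.1.2 _ u.2.2⟩ : PairSet d.z d.y d.y)) ⟨?_, ?_⟩)).symm
  · rintro ⟨a, b⟩ ⟨a', b'⟩ e
    have e' := congrArg Subtype.val e
    simp only [Prod.mk.injEq, mul_left_inj, mul_right_inj] at e'
    exact Prod.ext (Subtype.ext e'.1) (Subtype.ext e'.2)
  · rintro ⟨⟨p, q⟩, hp, hq, he⟩
    have h1 := order_two_of_conj d.ord_z hp
    have h2 := order_two_of_conj d.ord_y hq
    obtain ⟨-, c1, c2⟩ := central_spec h1 h2 (even_of_not_conj h1 h2 fun e => d.not_fused ((hp.trans e).trans hq.symm))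
    rw [show (p * q) ^ (orderOf (p * q) / 2) = d.y from he] at c1 c2
    obtain ⟨a, ha, rfl⟩ := d.X_class.mp ⟨c1.symm, hp⟩
    rcases d.out_y (sq_of_order_two h2) c2.symm (d.class_out hq) with rfl | ⟨b, hb, rfl⟩
    · exfalso
      have hsq : a * d.z * d.y * (a * d.z * d.y) = 1 := by
        rw [c1.mul_mul_mul_comm, sq_of_order_two h1, d.y_sq, one_mul]
      have hne : a * d.z * d.y ≠ 1 := fun e => d.y_D (by
        rw [← d.y_inv, ← eq_inv_of_mul_eq_one_left e]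
        exact mul_mem (d.A_D ha) d.z_D)
      rw [pairInvol, order_two_of_mul_self hsq hne, show 2 / 2 = 1 from rfl, pow_one] at he
      exact ne_one_of_order_two h1 (mul_eq_right.mp he)
    · exact ⟨(⟨a, ha⟩, ⟨b, hb⟩), rfl⟩

theorem pair_z : Nat.card (PairSet d.z d.y d.z) = 208 := by
  have h26 : Nat.card {k : K // (IsConj d.z k ∧ Commute k d.z) ∧ k ≠ d.z} = 26 := by
    have h := Set.ncard_sdiff_singleton_of_mem (s := {k : K | IsConj d.z k ∧ Commute k d.z})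
      (a := d.z) ⟨IsConj.refl _, Commute.refl _⟩
    rw [← Nat.card_coe_set_eq, ← Nat.card_coe_set_eq] at h
    rw [show Nat.card ↥{k : K | IsConj d.z k ∧ Commute k d.z} = 27 from d.card_zz] at h
    exact h
  rw [show 208 = 26 * 8 from rfl, ← h26, ← d.orbit8, ← Nat.card_prod]
  have hval : ∀ p q : K, IsConj d.z p → Commute p d.z → p ≠ d.z → ∀ h, Commute h d.z → h * d.y * h⁻¹ = q →
      pairInvol p q = d.z := by
    intro p q hp hpz hne h hh e
    have h1 := order_two_of_conj d.ord_z hp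
    have hq : IsConj d.y q := isConj_iff.mpr ⟨h, e⟩
    have h2 := order_two_of_conj d.ord_y hq
    have hqz : Commute q d.z := e ▸ (hh.mul_left d.zy.symm).mul_left hh.inv_left
    obtain ⟨k, -, hk⟩ := (Nat.dvd_prime_pow Nat.prime_two).mp
      (orderOf_dvd_of_pow_eq_one (d.pow128 (hpz.mul_left hqz)))
    have hev := even_of_not_conj h1 h2 fun e' => d.not_fused ((hp.trans e').trans hq.symm)
    obtain ⟨-, c1, c2⟩ := central_spec h1 h2 hev
    have hcz : Commute (pairInvol p q) d.z := (hpz.mul_left hqz).pow_left _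
    have key : ∀ r : K, r ∈ d.D → Commute r q → Commute r d.z → r * r = 1 → r = 1 ∨ r = d.z := by
      intro r hr hrq hrz hrr
      have hhi := hh.inv_left
      have e0 : h⁻¹ * q * h⁻¹⁻¹ = d.y := by rw [← e]; group
      have e1 := d.Q_invol (k := h⁻¹ * r * h⁻¹⁻¹) (e0 ▸ (Commute.conj_iff h⁻¹).mpr hrq)
        (d.normal_D.conj_mem _ hr _) ((hhi.mul_left hrz).mul_left hhi.inv_left)
        (by rw [show h⁻¹ * r * h⁻¹⁻¹ * (h⁻¹ * r * h⁻¹⁻¹) = h⁻¹ * (r * r) * h by group, hrr]; group)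
      refine e1.imp (fun e2 => conj_eq_one_iff.mp e2) fun e2 => ?_
      calc r = h * (h⁻¹ * r * h⁻¹⁻¹) * h⁻¹ := by group
        _ = d.z := by rw [e2, hh.eq, mul_inv_cancel_right]
    rcases Nat.lt_or_ge k 2 with hk2 | hk2
    · exfalso
      have hm : (p * q) ^ 2 = 1 := orderOf_dvd_iff_pow_eq_one.mp (by rw [hk]; interval_cases k <;> norm_num)
      rw [pow_two] at hm
      have hpq : Commute p q := by
        have := inv_eq_of_mul_eq_one_right hm
        rw [mul_inv_rev, Cfsg.Lib.InvolCalc.inv_of_order_two h1, Cfsg.Lib.InvolCalc.inv_of_order_two h2] at this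
        exact this.symm
      rcases key p (d.class_D hp) hpq hpz (sq_of_order_two h1) with r | r
      · exact ne_one_of_order_two h1 r
      · exact hne r
    · obtain ⟨m, rfl⟩ := Nat.exists_eq_add_of_le hk2
      have hpi : pairInvol p q = (p * q * (p * q)) ^ 2 ^ m := by
        rw [pairInvol, hk, ← pow_two (p * q), ← pow_mul]
        congr 1
        rw [show 2 + m = m + 1 + 1 by omega, pow_succ, Nat.mul_div_cancel _ (by norm_num), pow_succ, mul_comm]
      have hrD : pairInvol p q ∈ d.D := by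
        rw [hpi]
        have hout : p * q ∉ d.D := fun h' => d.class_out hq (by simpa using mul_mem (inv_mem (d.class_D hp)) h')
        exact pow_mem (d.D_out hout hout) _
      exact (key _ hrD c2 hcz (sq_of_order_two (central_spec h1 h2 hev).1)).resolve_left
        (ne_one_of_order_two (central_spec h1 h2 hev).1)
  refine (Nat.card_congr (Equiv.ofBijective
    (fun u : {k : K // (IsConj d.z k ∧ Commute k d.z) ∧ k ≠ d.z} × {k : K // ∃ h, Commute h d.z ∧ h * d.y * h⁻¹ = k} =>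
      (⟨(u.1.1, u.2.1), u.1.2.1.1, isConj_iff.mpr ⟨u.2.2.choose, u.2.2.choose_spec.2⟩,
        hval _ _ u.1.2.1.1 u.1.2.1.2 u.1.2.2 _ u.2.2.choose_spec.1 u.2.2.choose_spec.2⟩ : PairSet d.z d.y d.z))
    ⟨?_, ?_⟩)).symm
  · rintro ⟨a, b⟩ ⟨a', b'⟩ e
    have e' := congrArg Subtype.val e
    simp only [Prod.mk.injEq] at e'
    exact Prod.ext (Subtype.ext e'.1) (Subtype.ext e'.2)
  · rintro ⟨⟨p, q⟩, hp, hq, he⟩
    have h1 := order_two_of_conj d.ord_z hp
    have h2 := order_two_of_conj d.ord_y hq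
    obtain ⟨-, c1, c2⟩ := central_spec h1 h2 (even_of_not_conj h1 h2 fun e => d.not_fused ((hp.trans e).trans hq.symm))
    rw [show (p * q) ^ (orderOf (p * q) / 2) = d.z from he] at c1 c2
    refine ⟨(⟨p, ⟨hp, c1.symm⟩, fun e => ?_⟩, ⟨q, d.outer (sq_of_order_two h2) (d.class_out hq) c2.symm⟩), rfl⟩
    subst e
    have hsq : d.z * q * (d.z * q) = 1 := by rw [c2.symm.mul_mul_mul_comm, d.z_sq, sq_of_order_two h2, one_mul]
    have hne : d.z * q ≠ 1 := fun e => d.class_out hq (by rw [← eq_inv_of_mul_eq_one_right e |>.symm]; exact inv_mem d.z_D)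
    rw [pairInvol, order_two_of_mul_self hsq hne, show 2 / 2 = 1 from rfl, pow_one] at he
    exact ne_one_of_order_two h2 (mul_eq_left.mp he)

include d in
theorem card_eq : Nat.card K = 128 * (Nat.card ↥d.A * (26 + Nat.card ↥d.A)) := by
  rw [two_class_formula d.ord_z d.ord_y d.not_fused
    (fun x hx => d.classes (sq_of_order_two hx) (ne_one_of_order_two hx)), d.pair_z, d.pair_y, d.card_CY, d.card_CZ]
  ring

theorem odd_X {x : K} (hx : x ∈ d.X) (ho : Odd (orderOf x)) : x ∈ d.A := by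
  obtain ⟨a, ha, q, hq, rfl⟩ := d.decomp hx
  have hqX := (d.mem_Q.mp hq).1
  have hk : ∀ k : ℕ, (a * q) ^ k * (q ^ k)⁻¹ ∈ d.A := by
    intro k
    induction k with
    | zero => simp
    | succ k ih =>
      rw [pow_succ, pow_succ, show (a * q) ^ k * (a * q) * (q ^ k * q)⁻¹ =
        ((a * q) ^ k * (q ^ k)⁻¹) * (q ^ k * a * (q ^ k)⁻¹) by group]
      exact mul_mem ih (d.A_norm (pow_mem hqX k) ha)
  have h1 := hk (orderOf (a * q))
  rw [pow_orderOf_eq_one, one_mul] at h1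
  have h2 : q ^ orderOf (a * q) = 1 :=
    d.A_fix ((inv_mem_iff (H := d.A)).mp h1) ((d.mem_Q.mp hq).2.pow_left _)
  have h3 : orderOf q = 1 := Nat.eq_one_of_dvd_coprimes
    (Nat.Coprime.pow_left 7 (Nat.coprime_two_left.mpr ho))
    (orderOf_dvd_of_pow_eq_one (d.pow128 (d.mem_Q.mp hq).2)) (orderOf_dvd_of_pow_eq_one h2)
  rw [orderOf_eq_one_iff.mp h3, mul_one]
  exact ha

/-- The centralizer of the odd part in the index two subgroup. -/
def OA : Subgroup K := centralizer (d.A : Set K) ⊓ d.D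

theorem single {a : K} (ha : a ∈ d.A) (h1 : a ≠ 1) {x : K} (hx : Commute x a) (hD : x ∈ d.D) :
    x ∈ d.OA ∧ d.z * x * d.z⁻¹ = x⁻¹ ∧ Odd (orderOf x) := by
  set H := centralizer ({a} : Set K) ⊓ d.D with hH
  have mem : ∀ {w}, w ∈ H ↔ Commute w a ∧ w ∈ d.D := by
    intro w; simp only [hH, mem_inf, mem_centralizer_singleton_iff]; rfl
  have hz : ∀ w ∈ H, d.z * w * d.z⁻¹ ∈ H := by
    intro w hw
    obtain ⟨hwa, hwD⟩ := mem.mp hw
    refine mem.mpr ⟨?_, d.normal_D.conj_mem _ hwD _⟩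
    have h := (Commute.conj_iff d.z).mpr hwa.inv_right
    rwa [show d.z * a⁻¹ * d.z⁻¹ = (d.z * a * d.z⁻¹)⁻¹ by group, d.A_inv ha, inv_inv] at h
  have hfix : ∀ w ∈ H, Commute w d.z → w = 1 := by
    intro w hw hwz
    by_contra hne
    obtain ⟨hwa, hwD⟩ := mem.mp hw
    obtain ⟨j, hj⟩ := exists_invol (d.pow128 hwz) hne
    exact h1 (d.odd_comm_class (d.invol_D (sq_of_order_two hj) (ne_one_of_order_two hj) (pow_mem hwD j))
      (hwa.pow_left j).symm (d.A_odd ha))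
  obtain ⟨hinv, hab⟩ := inverted d.z_sq hz hfix
  have hxH := mem.mpr ⟨hx, hD⟩
  refine ⟨?_, hinv x hxH, ?_⟩
  · refine mem_inf.mpr ⟨mem_centralizer_iff.mpr fun b hb => ?_, hD⟩
    exact (hab b (mem.mpr ⟨d.A_abelian hb ha, d.A_D hb⟩) x hxH).eq
  · rw [← Nat.not_even_iff_odd]
    intro hev
    have h2 : orderOf (x ^ (orderOf x / 2)) = 2 := by
      obtain ⟨m, hm⟩ := hev
      rw [orderOf_pow, show orderOf x / 2 = m by omega, Nat.gcd_eq_right ⟨2, by omega⟩, hm]
      exact Nat.div_eq_of_eq_mul_left (by have := orderOf_pos x; omega) (by ring)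
    set r := x ^ (orderOf x / 2) with hr
    have hrH : r ∈ H := pow_mem hxH _
    have h3 := hinv r hrH
    rw [inv_eq_of_mul_eq_one_right (sq_of_order_two h2), mul_inv_eq_iff_eq_mul] at h3
    exact ne_one_of_order_two h2 (hfix r hrH h3.symm)

theorem exists_ne_one (h : Nat.card ↥d.A ≠ 1) : ∃ a ∈ d.A, a ≠ 1 := by
  by_contra hne
  simp only [not_exists, not_and, not_not] at hne
  exact h (card_eq_one.mpr ((eq_bot_iff_forall _).mpr hne))

theorem OA_facts (hn : Nat.card ↥d.A ≠ 1) {x : K} (hx : x ∈ d.OA) :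
    d.z * x * d.z⁻¹ = x⁻¹ ∧ Odd (orderOf x) := by
  obtain ⟨a, ha, h1⟩ := d.exists_ne_one hn
  exact (d.single ha h1 (mem_centralizer_iff.mp (mem_inf.mp hx).1 a ha).symm (mem_inf.mp hx).2).2

theorem OA_abelian (hn : Nat.card ↥d.A ≠ 1) {x w : K} (hx : x ∈ d.OA) (hw : w ∈ d.OA) : Commute x w := by
  have h := (d.OA_facts hn (mul_mem hx hw)).1
  rw [show d.z * (x * w) * d.z⁻¹ = (d.z * x * d.z⁻¹) * (d.z * w * d.z⁻¹) by group, (d.OA_facts hn hx).1,
    (d.OA_facts hn hw).1, ← mul_inv_rev, inv_inj] at h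
  exact h.symm

theorem A_le_OA : d.A ≤ d.OA := fun _ ha =>
  mem_inf.mpr ⟨mem_centralizer_iff.mpr fun _ hb => (d.A_abelian hb ha).eq, d.A_D ha⟩

/-- The elements inverted by the outer involution. -/
def B : Subgroup K := d.OA ⊓ centralizer ({d.y * d.z} : Set K)

theorem OA_eq (hn : Nat.card ↥d.A ≠ 1) : d.OA = d.A := by
  have mB : ∀ {w}, w ∈ d.B ↔ w ∈ d.OA ∧ Commute w (d.y * d.z) := by
    intro w; simp only [B, mem_inf, mem_centralizer_singleton_iff]; rfl
  have hyOA : ∀ x ∈ d.OA, d.y * x * d.y⁻¹ ∈ d.OA := by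
    intro x hx
    refine mem_inf.mpr ⟨mem_centralizer_iff.mpr fun a ha => ?_, d.normal_D.conj_mem _ (mem_inf.mp hx).2 _⟩
    have hc : Commute a x := mem_centralizer_iff.mp (mem_inf.mp hx).1 a ha
    have h := (Commute.conj_iff d.y).mpr hc
    rwa [(d.A_y ha).symm.eq, mul_inv_cancel_right] at h
  have hcapA : ∀ x ∈ d.OA, Commute x d.y → x ∈ d.A := fun x hx hc =>
    d.odd_X (d.mem_X.mpr ⟨hc, (mem_inf.mp hx).2⟩) (d.OA_facts hn hx).2
  have hcard : Nat.card ↥d.OA = Nat.card ↥d.A * Nat.card ↥d.B := by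
    rw [← Nat.card_prod]
    refine (Nat.card_congr (Equiv.ofBijective
      (fun u : ↥d.A × ↥d.B => (⟨u.1.1 * u.2.1, mul_mem (d.A_le_OA u.1.2) (mB.mp u.2.2).1⟩ : ↥d.OA)) ⟨?_, ?_⟩)).symm
    · rintro ⟨⟨a, ha⟩, ⟨b, hb⟩⟩ ⟨⟨a', ha'⟩, ⟨b', hb'⟩⟩ e
      have e' : a * b = a' * b' := congrArg Subtype.val e
      have e2 : a'⁻¹ * a = b' * b⁻¹ := by
        calc a'⁻¹ * a = a'⁻¹ * (a * b) * b⁻¹ := by group
          _ = _ := by rw [e']; group
      have hm := mul_mem (inv_mem ha') ha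
      have hcy := d.A_y hm
      have hcb : Commute (a'⁻¹ * a) (d.y * d.z) := e2 ▸ (mB.mp hb').2.mul_left (mB.mp hb).2.inv_left
      have h1 := d.A_fix hm (by
        have := hcy.mul_right hcb
        rwa [← mul_assoc, d.y_sq, one_mul] at this)
      have : a = a' := (inv_mul_eq_one.mp h1).symm
      subst this
      have := mul_left_cancel e'
      subst this
      rfl
    · rintro ⟨x, hx⟩
      set x' := d.y * x * d.y⁻¹ with hx'
      have hx'm := hyOA x hx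
      have hxx' := d.OA_abelian hn hx hx'm
      have hy' : d.y * x' * d.y⁻¹ = x := by
        rw [hx', d.y_inv, show d.y * (d.y * x * d.y) * d.y = (d.y * d.y) * x * (d.y * d.y) by group, d.y_sq]; group
      have hP : x * x' ∈ d.A := hcapA _ (mul_mem hx hx'm) (by
        refine (mul_inv_eq_iff_eq_mul.mp ?_).symm
        rw [show d.y * (x * x') * d.y⁻¹ = x' * (d.y * x' * d.y⁻¹) by rw [hx']; group, hy', hxx'.eq])
      have hM : x * x'⁻¹ ∈ d.B := by
        refine mB.mpr ⟨mul_mem hx (inv_mem hx'm), (mul_inv_eq_iff_eq_mul.mp ?_).symm⟩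
        rw [show d.y * d.z * (x * x'⁻¹) * (d.y * d.z)⁻¹ = d.y * (d.z * (x * x'⁻¹) * d.z⁻¹) * d.y⁻¹ by group,
          (d.OA_facts hn (mul_mem hx (inv_mem hx'm))).1, mul_inv_rev, inv_inv,
          show d.y * (x' * x⁻¹) * d.y⁻¹ = (d.y * x' * d.y⁻¹) * (d.y * x * d.y⁻¹)⁻¹ by group, hy']
      obtain ⟨j, hj⟩ := exists_sqrt (d.OA_facts hn hx).2
      refine ⟨(⟨(x * x') ^ j, pow_mem hP j⟩, ⟨(x * x'⁻¹) ^ j, pow_mem hM j⟩), Subtype.ext ?_⟩
      show (x * x') ^ j * (x * x'⁻¹) ^ j = x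
      have hc1 : Commute (x * x') (x * x'⁻¹) :=
        d.OA_abelian hn (mul_mem hx hx'm) (mul_mem hx (inv_mem hx'm))
      rw [← hc1.mul_pow, hxx'.eq, mul_assoc, ← mul_assoc x x, show x' * (x * x * x'⁻¹) = x * x by
        rw [← mul_assoc, ((hxx'.symm).mul_right hxx'.symm).eq, mul_inv_cancel_right], ← hj]
  have hoddB : ∀ x ∈ d.B, Odd (orderOf x) := fun x hx => (d.OA_facts hn (mB.mp hx).1).2
  obtain ⟨h, hh, e⟩ : ∃ h, Commute h d.z ∧ h * d.y * h⁻¹ = d.y * d.z := d.outer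
    (by rw [d.zy.mul_mul_mul_comm, d.y_sq, d.z_sq, one_mul])
    (fun h => d.y_D (by simpa using mul_mem h (inv_mem d.z_D))) ((d.zy.symm).mul_left (Commute.refl _))
  have hbn : Nat.card ↥d.B ∣ Nat.card ↥d.A := by
    have hinj : Function.Injective (MulAut.conj h⁻¹).toMonoidHom := (MulAut.conj h⁻¹).injective
    rw [Nat.card_congr (equivMapOfInjective d.B _ hinj).toEquiv]
    refine card_dvd_of_le ?_
    rintro _ ⟨x, hx, rfl⟩
    show h⁻¹ * x * h⁻¹⁻¹ ∈ d.A
    refine d.odd_X (d.mem_X.mpr ⟨?_, d.normal_D.conj_mem _ (mem_inf.mp (mB.mp hx).1).2 _⟩) ?_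
    · rw [show d.y = h⁻¹ * (d.y * d.z) * h⁻¹⁻¹ by rw [← e]; group]
      exact (Commute.conj_iff h⁻¹).mpr (mB.mp hx).2
    · rw [show h⁻¹ * x * h⁻¹⁻¹ = MulAut.conj h⁻¹ x from rfl, MulEquiv.orderOf_eq]
      exact hoddB x hx
  have hb26 : Nat.card ↥d.B ∣ 26 + Nat.card ↥d.A := by
    have hd := card_subgroup_dvd_card d.OA
    rw [d.card_eq] at hd
    have hodd : Odd (Nat.card ↥d.OA) := by
      rw [← Nat.not_even_iff_odd, even_iff_two_dvd]
      intro h2
      haveI : Fact (Nat.Prime 2) := ⟨Nat.prime_two⟩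
      obtain ⟨g, hg⟩ := exists_prime_orderOf_dvd_card' 2 h2
      have := (d.OA_facts hn g.2).2
      rw [Subgroup.orderOf_coe, hg] at this
      exact absurd this (by decide)
    have hd' := (Nat.Coprime.dvd_of_dvd_mul_left
      (Nat.Coprime.pow_right 7 (Nat.coprime_two_right.mpr hodd)) hd)
    rw [hcard] at hd'
    exact Nat.dvd_of_mul_dvd_mul_left Nat.card_pos hd'
  have hb13 : Nat.card ↥d.B ≠ 13 := by
    intro h13
    have hQ : Nat.card ↥d.Q = 8 := by rw [Q, X]; exact d.card_Q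
    have hne : Nat.card {x : K // x ∈ d.B ∧ x ≠ 1} = 12 := by
      have h := Set.ncard_sdiff_singleton_of_mem (s := (d.B : Set K)) (a := 1) (one_mem _)
      rw [← Nat.card_coe_set_eq, ← Nat.card_coe_set_eq] at h
      rw [show Nat.card ↥(d.B : Set K) = 13 from h13] at h
      exact h
    have := conj_free_dvd d.Q (fun x => x ∈ d.B ∧ x ≠ 1) ?_ ?_
    · rw [hQ, hne] at this; norm_num at this
    · intro q hq x hx
      obtain ⟨hqX, hqz⟩ := d.mem_Q.mp hq
      refine ⟨mB.mpr ⟨mem_inf.mpr ⟨mem_centralizer_iff.mpr fun a ha => ?_,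
        d.normal_D.conj_mem _ (mem_inf.mp (mB.mp hx.1).1).2 _⟩, ?_⟩, fun e1 => hx.2 (conj_eq_one_iff.mp e1)⟩
      · have hc : Commute (q⁻¹ * a * q⁻¹⁻¹) x :=
          mem_centralizer_iff.mp (mem_inf.mp (mB.mp hx.1).1).1 _ (d.A_norm (inv_mem hqX) ha)
        have := (Commute.conj_iff q).mpr hc
        rwa [show q * (q⁻¹ * a * q⁻¹⁻¹) * q⁻¹ = a by group] at this
      · have hqyz : Commute q (d.y * d.z) := (d.mem_X.mp hqX).1.mul_right hqz
        exact (hqyz.mul_left (mB.mp hx.1).2).mul_left hqyz.inv_left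
    · intro q hq x hx hfix
      by_contra hq1
      obtain ⟨hqX, hqz⟩ := d.mem_Q.mp hq
      obtain ⟨j, hj⟩ := exists_invol (d.pow128 hqz) hq1
      have hqx : Commute q x := mul_inv_eq_iff_eq_mul.mp hfix
      have hzx : Commute (q ^ j) x := hqx.pow_left j
      rw [(d.Q_inv (pow_mem hq j) (sq_of_order_two hj)).resolve_left (ne_one_of_order_two hj)] at hzx
      exact hx.2 (d.odd_comm hzx.symm (hoddB x hx.1))
  have hb1 : Nat.card ↥d.B = 1 := by
    have h26 : Nat.card ↥d.B ∣ 26 := (Nat.dvd_add_left hbn).mp hb26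
    have hnodd : Nat.card ↥d.B % 2 ≠ 0 := by
      intro h2
      haveI : Fact (Nat.Prime 2) := ⟨Nat.prime_two⟩
      obtain ⟨g, hg⟩ := exists_prime_orderOf_dvd_card' 2 (Nat.dvd_of_mod_eq_zero h2)
      have := hoddB g g.2
      rw [Subgroup.orderOf_coe, hg] at this
      exact absurd this (by decide)
    have := Nat.le_of_dvd (by norm_num) h26
    interval_cases hb : Nat.card ↥d.B <;> omega
  exact (eq_of_le_of_card_ge d.A_le_OA (by rw [hcard, hb1, mul_one])).symm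

theorem cent_A {a : K} (ha : a ∈ d.A) (h1 : a ≠ 1) {x : K} (hx : Commute x a) :
    x ∈ d.A ∨ ∃ b ∈ d.A, x = d.y * b := by
  have hn : Nat.card ↥d.A ≠ 1 := fun e => h1 ((eq_bot_iff_forall _).mp (card_eq_one.mp e) a ha)
  have key : ∀ w, Commute w a → w ∈ d.D → w ∈ d.A := fun w hw hD => d.OA_eq hn ▸ (d.single ha h1 hw hD).1
  by_cases hD : x ∈ d.D
  · exact Or.inl (key x hx hD)
  · exact Or.inr ⟨d.y * x, key _ ((d.A_y ha).symm.mul_left hx) (d.D_out d.y_D hD),
      by rw [← mul_assoc, d.y_sq, one_mul]⟩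

theorem card_A : Nat.card ↥d.A = 9 := by
  have hQ : Nat.card ↥d.Q = 8 := by rw [Q, X]; exact d.card_Q
  set n := Nat.card ↥d.A with hn
  have hA1 : Nat.card {x : K // x ∈ d.A ∧ x ≠ 1} = n - 1 := by
    have h := Set.ncard_sdiff_singleton_of_mem (s := (d.A : Set K)) (a := 1) (one_mem _)
    rw [← Nat.card_coe_set_eq, ← Nat.card_coe_set_eq] at h
    exact h
  have h8 : 8 ∣ n - 1 := by
    rw [← hQ, ← hA1]
    refine conj_free_dvd d.Q _ (fun q hq x hx => ⟨d.A_norm (d.mem_Q.mp hq).1 hx.1,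
      fun e1 => hx.2 (conj_eq_one_iff.mp e1)⟩) fun q hq x hx hfix => ?_
    by_contra hq1
    obtain ⟨j, hj⟩ := exists_invol (d.pow128 (d.mem_Q.mp hq).2) hq1
    have hzx : Commute (q ^ j) x := (show Commute q x from mul_inv_eq_iff_eq_mul.mp hfix).pow_left j
    rw [(d.Q_inv (pow_mem hq j) (sq_of_order_two hj)).resolve_left (ne_one_of_order_two hj)] at hzx
    exact hx.2 (d.A_fix hx.1 hzx.symm)
  have hclass : Nat.card {k // IsConj d.y k} = 8 * (26 + n) := by
    have h := card_class_mul d.y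
    rw [d.card_CY, d.card_eq] at h
    exact Nat.eq_of_mul_eq_mul_right (show 0 < 16 * n by have := Nat.card_pos (α := ↥d.A); omega)
      (by rw [h]; ring)
  have h2 : Nat.card {k : K // IsConj d.y k ∧ k ≠ d.y} = 8 * (26 + n) - 1 := by
    have h := Set.ncard_sdiff_singleton_of_mem (s := {k : K | IsConj d.y k}) (a := d.y) (IsConj.refl _)
    rw [← Nat.card_coe_set_eq, ← Nat.card_coe_set_eq] at h
    rw [show Nat.card ↥{k : K | IsConj d.y k} = 8 * (26 + n) from hclass] at h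
    exact h
  have hdiv : n ∣ 8 * (26 + n) - 1 := by
    rw [← h2]
    refine conj_free_dvd d.A _ (fun a ha k hk => ⟨hk.1.trans (isConj_iff.mpr ⟨a, rfl⟩), fun e => hk.2 ?_⟩)
      fun a ha k hk hfix => ?_
    · calc k = a⁻¹ * (a * k * a⁻¹) * a := by group
        _ = d.y := by rw [e, (d.A_y ha).inv_left.eq, inv_mul_cancel_right]
    · by_contra ha1
      rcases d.cent_A ha ha1 (show Commute k a from (mul_inv_eq_iff_eq_mul.mp hfix).symm) with h | ⟨b, hb, rfl⟩
      · exact d.class_out hk.1 (d.A_D h)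
      · have hsq := sq_of_order_two (order_two_of_conj d.ord_y hk.1)
        rw [(d.A_y hb).mul_mul_mul_comm, d.y_sq, one_mul] at hsq
        obtain ⟨j, hj⟩ := exists_sqrt (d.A_odd hb)
        exact hk.2 (by rw [hj, hsq, one_pow, mul_one])
  have h207 : n ∣ 207 := by
    rw [show 8 * (26 + n) - 1 = n * 8 + 207 by omega] at hdiv
    exact (Nat.dvd_add_right (dvd_mul_right n 8)).mp hdiv
  have h1 : n ≠ 1 := by
    intro e
    obtain ⟨a, b, ha, hb, hne⟩ := d.noncomm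
    refine hne ?_
    have hK : Nat.card K = 128 * (1 * (26 + 1)) := by rw [d.card_eq, ← hn, e]
    have hz27 : Nat.card {x // IsConj d.z x} = 27 := by
      have h := card_class_mul d.z
      rw [d.card_CZ, hK] at h
      omega
    have hall : ∀ x, IsConj d.z x → Commute x d.z := by
      intro x hx
      have hsub : {k : K | IsConj d.z k ∧ Commute k d.z} = {k : K | IsConj d.z k} := by
        refine Set.eq_of_subset_of_ncard_le (fun k hk => hk.1) ?_
        rw [← Nat.card_coe_set_eq, ← Nat.card_coe_set_eq]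
        exact (hz27.trans d.card_zz.symm).le
      have h : x ∈ {k : K | IsConj d.z k} := hx
      rw [← hsub] at h
      exact h.2
    obtain ⟨c, hc⟩ := isConj_iff.mp hb
    rw [← hc]
    have h := (Commute.conj_iff c).mpr (hall (c⁻¹ * a * c⁻¹⁻¹) (ha.trans (isConj_iff.mpr ⟨c⁻¹, rfl⟩)))
    rwa [show c * (c⁻¹ * a * c⁻¹⁻¹) * c⁻¹ = a by group] at h
  have := Nat.le_of_dvd (by norm_num) h207
  interval_cases n <;> omega

include d in
theorem card_K : Nat.card K = 40320 := by rw [d.card_eq, d.card_A]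

end KData

end Cfsg.Lib.SuzukiType.KOrder
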