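import Cfsg.Agent.SuzukiType.Local.Quotient
import Cfsg.Agent.SuzukiType.Local.KOrder

/-!
The second centralizer: order, and the class of the first kind inside it.
-/

set_option autoImplicit false
set_option maxRecDepth 100000
set_option maxHeartbeats 1000000
set_option linter.unusedSectionVars false

namespace Cfsg.Lib.SuzukiType

open Subgroup Cfsg.Lib.SuzukiType.Local

universe u

variable {G : Type u} [Group G] [Finite G] {z : G}

namespace Four

variable (d : Four z)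

theorem Zt_pr_inj {x x' : G} (hx : d.Zt x) (hx' : d.Zt x') (h : d.pr x hx.1 = d.pr x' hx'.1) : x = x' := by
  have hv := (d.pr_eq hx.1 hx'.1).mp h
  have := d.Zt_coset hx hv (by rw [mul_inv_cancel_left]; exact hx')
  exact inv_mul_eq_one.mp this

theorem exists_noncomm : ∃ a b, d.Zt a ∧ d.Zt b ∧ ¬ Commute a b := by
  have h := chk_two
  simp only [List.any_eq_true, Bool.and_eq_true, Bool.not_eq_true'] at h
  obtain ⟨x0, hx0, x1, hx1, h01, -⟩ := h
  have hL : ∀ a ∈ Zn, a ∈ L1 := by decide +kernel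
  obtain ⟨a, ha, ea⟩ := d.S1_surj (hL _ hx0)
  obtain ⟨b, hb, eb⟩ := d.S1_surj (hL _ hx1)
  have na := d.NC_of_img ha (ea ▸ hx0)
  have nb := d.NC_of_img hb (eb ▸ hx1)
  refine ⟨a, b, d.NC_Zt na, d.NC_Zt nb, fun hc => ?_⟩
  rw [← d.NC_rel na nb, ea, eb, h01] at hc
  exact Bool.false_ne_true hc

/-- The quotient satisfies the hypotheses of the order computation. -/
def kd : KOrder.KData d.K where
  z := d.zb
  y := d.yb
  z_sq := d.zb_sq
  y_sq := d.yb_sq
  z_ne := d.zb_ne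
  y_ne := d.yb_ne
  zy := d.comm_zy
  D := d.Db
  normal_D := d.normal_Db
  z_D := d.zb_Db
  y_D := d.yb_not_Db
  D_out := fun ha hb => d.Db_out ha hb
  classes := fun hk h1 => d.classes (Cfsg.Lib.InvolCalc.order_two_of_mul_self hk h1)
  card_CZ := d.card_CZ
  outer := by
    intro k hk hD hc
    obtain ⟨w, hw, rfl⟩ := d.pr_surj k
    have hwS := (d.mem_CZ hw).mp (mem_centralizer_singleton_iff.mpr hc)
    rw [d.pr_mul hw hw, d.pr_one_iff] at hk
    rcases d.sq_U_S hwS hk with h | ⟨v, hv, hz⟩ | ⟨hnu, v, hv, hvv⟩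
    · exact absurd ((d.pr_one_iff hw).mpr h ▸ one_mem _) hD
    · exfalso
      refine hD ((d.mem_Db hw).mpr ?_)
      have := (d.Zt_comm_u hz).mul_left (d.U_comm (inv_mem hv) d.u_U)
      rwa [mul_inv_cancel_right] at this
    · have hvS : v ∈ d.S := d.S1_le (d.mem_M.mp (d.mem_U.mp hv).1).1
      have h1' : w * v ∉ d.S1 := fun h => hnu (by
        have := (d.S1_U h d.u_U).mul_left (d.U_comm (inv_mem hv) d.u_U)
        rwa [mul_inv_cancel_right] at this)
      obtain ⟨h, hh, v', hv', e⟩ := d.S_diff_comm (mul_mem hwS hvS) h1' hvv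
      refine ⟨d.pr h (d.mem_S.mp hh).2, mem_centralizer_singleton_iff.mp ((d.mem_CZ _).mpr hh), ?_⟩
      rw [yb, d.pr_conj, d.pr_eq, e, show (w * v * v')⁻¹ * w = (v * v')⁻¹ by group]
      exact inv_mem (mul_mem hv hv')
  orbit8 := by
    rw [← d.card_orbit_y]
    refine Nat.card_congr (Equiv.subtypeEquivRight fun k => ?_)
    simp only [mem_centralizer_singleton_iff]
    rfl
  card_Q := d.card_Q8
  Q_invol := fun hy hD hz h2 => d.Q8_invol (d.mem_Q8.mpr ⟨d.mem_X8.mpr ⟨hy, hD⟩, hz⟩) h2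
  card_zz := by
    rw [← d.card_Zt_S]
    refine (Nat.card_congr (Equiv.ofBijective
      (fun x : {x : G // d.Zt x ∧ Commute x z} => (⟨d.pr x.1 x.2.1.1, d.Zt_conj_zb x.2.1,
        mem_centralizer_singleton_iff.mp ((d.mem_CZ _).mpr (d.mem_S.mpr ⟨x.2.2, x.2.1.1⟩))⟩ :
        {k : d.K // IsConj d.zb k ∧ Commute k d.zb})) ⟨?_, ?_⟩)).symm
    · rintro ⟨x, hx, hxz⟩ ⟨x', hx', hxz'⟩ e
      exact Subtype.ext (d.Zt_pr_inj hx hx' (congrArg Subtype.val e))
    · rintro ⟨k, hk, hc⟩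
      obtain ⟨hkk, h1⟩ : k * k = 1 ∧ k ≠ 1 :=
        ⟨Cfsg.Lib.InvolCalc.sq_of_order_two (Cfsg.Lib.HallJankoType.order_two_of_conj
          (Cfsg.Lib.InvolCalc.order_two_of_mul_self d.zb_sq d.zb_ne) hk),
        Cfsg.Lib.InvolCalc.ne_one_of_order_two (Cfsg.Lib.HallJankoType.order_two_of_conj
          (Cfsg.Lib.InvolCalc.order_two_of_mul_self d.zb_sq d.zb_ne) hk)⟩
      obtain ⟨x, hx, rfl⟩ := d.Db_invol hkk h1 (d.conj_Db hk)
      exact ⟨⟨x, hx, (d.mem_S.mp ((d.mem_CZ hx.1).mp (mem_centralizer_singleton_iff.mpr hc))).1⟩, rfl⟩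
  noncomm := by
    obtain ⟨a, b, ha, hb, hne⟩ := d.exists_noncomm
    refine ⟨_, _, d.Zt_conj_zb ha, d.Zt_conj_zb hb, fun hc => hne ?_⟩
    have e : d.pr b hb.1 * d.pr a ha.1 * (d.pr b hb.1)⁻¹ = d.pr a ha.1 := by rw [← hc.eq, mul_inv_cancel_right]
    rw [d.pr_conj] at e
    have := d.Zt_pr_inj (d.Zt_conj ha hb.1) ha e
    exact (mul_inv_eq_iff_eq_mul.mp this).symm

include d in
theorem card_K : Nat.card d.K = 40320 := d.kd.card_K

theorem order_Ct : Nat.card ↥d.Ct = 161280 := by rw [d.card_Ct, d.card_K]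

theorem card_Zt : Nat.card {x : G // d.Zt x} = 315 := by
  have h := orbit_mul_stab d.Ct z
  rw [d.order_Ct] at h
  have hset : ∀ x : G, (∃ c ∈ d.Ct, c * z * c⁻¹ = x) ↔ d.Zt x := fun x => by
    constructor
    · rintro ⟨c, hc, rfl⟩
      exact d.Zt_conj (d.Tri_conj (Or.inl rfl)) (d.mem_Ct.mp hc)
    · intro hx
      obtain ⟨c, hc, e⟩ := d.to_z hx
      exact ⟨c⁻¹, inv_mem (d.mem_Ct.mpr hc), by rw [← e]; group⟩
  have hst : Nat.card ↥(d.Ct ⊓ centralizer ({z} : Set G)) = 512 := by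
    rw [← d.toSec.card_S, inf_comm]
    rfl
  rw [Nat.card_congr (Equiv.subtypeEquivRight hset), hst] at h
  omega

end Four

end Cfsg.Lib.SuzukiType
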