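import Cfsg.Agent.SuzukiType.Code

/-!
A coded extraspecial group of order `128` of minus type and the automorphisms induced on it by the centralizer of the
involution.
-/

set_option autoImplicit false
set_option maxRecDepth 100000
set_option maxHeartbeats 4000000

namespace Cfsg.Lib.SuzukiType.Local

open Cfsg.Lib.SuzukiType.Code

/-- The sign of the product of two coded elements, at the bit of weight `64`: it is bilinear, with the form on the
diagonal and no contribution to ordered products. -/
def coc (a b : ℕ) : ℕ :=
  ((a &&& b &&& 16) <<< 2) ^^^ ((a &&& 32 &&& (b ^^^ (b <<< 1))) <<< 1) ^^^ (((a >>> 2) &&& b &&& 1) <<< 6) ^^^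
    (((a >>> 2) &&& b &&& 2) <<< 5)

/-- The product of two coded elements; the bit of weight `64` is the central one. -/
def qm (a b : ℕ) : ℕ := a ^^^ b ^^^ coc a b

/-- An automorphism, given by the images of the six generators. -/
structure T6 where
  a0 : ℕ
  a1 : ℕ
  a2 : ℕ
  a3 : ℕ
  a4 : ℕ
  a5 : ℕ
deriving DecidableEq

/-- The image of a coded element. -/
def ev (t : T6) (c : ℕ) : ℕ :=
  qm (qm (qm (qm (qm (qm (c &&& 64) ((c &&& 1) * t.a0)) (((c >>> 1) &&& 1) * t.a1)) (((c >>> 2) &&& 1) * t.a2))
    (((c >>> 3) &&& 1) * t.a3)) (((c >>> 4) &&& 1) * t.a4)) (((c >>> 5) &&& 1) * t.a5)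

/-- Composition. -/
def tm (s t : T6) : T6 := ⟨ev s t.a0, ev s t.a1, ev s t.a2, ev s t.a3, ev s t.a4, ev s t.a5⟩

/-- The identity. -/
def t1 : T6 := ⟨1, 2, 4, 8, 16, 32⟩

/-- Adding a sign according to a functional. -/
def flip (v : ℕ) (x : ℕ) : ℕ := bif pB v x then x ^^^ 64 else x

/-- Conjugation by an element with the given vector. -/
def inn (v : ℕ) : T6 := ⟨flip v 1, flip v 2, flip v 4, flip v 8, flip v 16, flip v 32⟩

/-- The image of a generator of the hyperplane under an element of the conjugate part. -/
def rimg (b x : ℕ) : ℕ := bif pB (nr x) b then qm 65 x else x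

/-- Conjugation by an element of the conjugate part with the given vector, the sign on the generator outside the
hyperplane being given. -/
def rel (b : ℕ) (sg : Bool) : T6 :=
  ⟨rimg b 1, rimg b 2, rho b 4 ^^^ (bif sg then 64 else 0), rimg b 8, rimg b 16, rimg b 32⟩

/-- The number of fixed elements. -/
def nfix (t : T6) : ℕ := 2 * (List.range 64).countP fun c => Nat.beq (ev t c) c

/-- The number of fixed elements which are not of square one. -/
def nfix4 (t : T6) : ℕ := 2 * (List.range 64).countP fun c => Nat.beq (ev t c) c && qB c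

/-- The first invariant of an automorphism: fixed elements, and fixed elements of order four. -/
def ivt (t : T6) : ℕ × ℕ := (nfix t, nfix4 t)

end Cfsg.Lib.SuzukiType.Local
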