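import Cfsg.Agent.SuzukiType.Local.Four
import Cfsg.Agent.InvolCalc.ZStarApps
import Mathlib.GroupTheory.FixedPointFree

/-!
The four-group is normal in the centralizer of the second involution.
-/

set_option autoImplicit false
set_option maxRecDepth 100000
set_option maxHeartbeats 1000000
set_option linter.unusedSectionVars false
set_option linter.style.haveILetI false

namespace Cfsg.Lib.SuzukiType

open Subgroup Cfsg.Lib.SuzukiType.Code Cfsg.Lib.SuzukiType.Local Cfsg.Lib.SuzukiType.Local.Frm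

universe u

theorem chk_class_size : (Zn.all fun x => Nat.beq (Zn.countP fun a => xcomm a x) 6) = true := by decide +kernel

theorem Zn_nodup : Zn.Nodup := by decide +kernel

variable {G : Type u} [Group G] [Finite G] {z : G}

namespace Four

variable (d : Four z)

/-- The involutions of the first class commuting with the second involution. -/
def Zt (x : G) : Prop := Commute x d.t ∧ IsConj z x

theorem Zt_sq {x : G} (hx : d.Zt x) : x * x = 1 := by
  obtain ⟨a, ha⟩ := isConj_iff.mp hx.2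
  rw [← ha, show a * z * a⁻¹ * (a * z * a⁻¹) = a * (z * z) * a⁻¹ by group, d.X.zz]; simp

theorem Zt_conj {x h : G} (hx : d.Zt x) (hh : Commute h d.t) : d.Zt (h * x * h⁻¹) :=
  ⟨(hh.mul_left hx.1).mul_left hh.inv_left, hx.2.trans (isConj_iff.mpr ⟨h, rfl⟩)⟩

/-- The first class meets the centralizer of the second involution in one class. -/
theorem to_z {x : G} (hx : d.Zt x) : ∃ h, Commute h d.t ∧ h * x * h⁻¹ = z := by
  obtain ⟨a, ha⟩ := isConj_iff.mp hx.2
  have h1 : Commute (a⁻¹ * d.t * a) z := by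
    have := (Commute.conj_iff a⁻¹).mpr hx.1.symm
    rwa [inv_inv, show a⁻¹ * x * a = z by rw [← ha]; group] at this
  obtain ⟨c, hc, e⟩ := d.toSec.T_class h1 (isConj_iff.mpr ⟨a⁻¹, by group⟩)
  refine ⟨c⁻¹ * a⁻¹, mul_inv_eq_iff_eq_mul.mp ?_, ?_⟩
  · rw [show c⁻¹ * a⁻¹ * d.t * (c⁻¹ * a⁻¹)⁻¹ = c⁻¹ * (a⁻¹ * d.t * a) * c by group, ← e]; group
  · rw [← ha, show c⁻¹ * a⁻¹ * (a * z * a⁻¹) * (c⁻¹ * a⁻¹)⁻¹ = c⁻¹ * z * c by group, mul_assoc, ← hc.eq]; group

/-- The four-group attached to a member of the first class. -/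
def Ux (x v : G) : Prop := ∀ h, Commute h d.t → h * x * h⁻¹ = z → h * v * h⁻¹ ∈ d.U

/-- The triple attached to a member of the first class. -/
def Ex (x v : G) : Prop := ∀ h, Commute h d.t → h * x * h⁻¹ = z → d.Tri (h * v * h⁻¹)

theorem mem_S_of {n : G} (hn : Commute n d.t) (hz : n * z * n⁻¹ = z) : n ∈ d.S :=
  d.mem_S.mpr ⟨mul_inv_eq_iff_eq_mul.mp hz, hn⟩

theorem change {x h h' : G} (hh : Commute h d.t) (e : h * x * h⁻¹ = z) (hh' : Commute h' d.t)
    (e' : h' * x * h'⁻¹ = z) : h' * h⁻¹ ∈ d.S := by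
  refine d.mem_S_of (hh'.mul_left hh.inv_left) ?_
  rw [conj_comp]
  conv_lhs => arg 1; arg 2; rw [← e]
  rw [show h⁻¹ * (h * x * h⁻¹) * h⁻¹⁻¹ = x by group, e']

theorem Ux_iff {x h : G} (hh : Commute h d.t) (e : h * x * h⁻¹ = z) (v : G) :
    d.Ux x v ↔ h * v * h⁻¹ ∈ d.U := by
  refine ⟨fun H => H h hh e, fun H h' hh' e' => ?_⟩
  have := d.S_U (d.change hh e hh' e') H
  rwa [show h' * h⁻¹ * (h * v * h⁻¹) * (h' * h⁻¹)⁻¹ = h' * v * h'⁻¹ by group] at this

theorem Ex_iff {x h : G} (hh : Commute h d.t) (e : h * x * h⁻¹ = z) (v : G) :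
    d.Ex x v ↔ d.Tri (h * v * h⁻¹) := by
  refine ⟨fun H => H h hh e, fun H h' hh' e' => ?_⟩
  have := d.S_Tri (d.change hh e hh' e') H
  rwa [show h' * h⁻¹ * (h * v * h⁻¹) * (h' * h⁻¹)⁻¹ = h' * v * h'⁻¹ by group] at this

theorem Ux_conj {n : G} (hn : Commute n d.t) {x v : G} (hx : d.Zt x) :
    d.Ux (n * x * n⁻¹) (n * v * n⁻¹) ↔ d.Ux x v := by
  obtain ⟨h, hh, e⟩ := d.to_z hx
  have e' : h * n⁻¹ * (n * x * n⁻¹) * (h * n⁻¹)⁻¹ = z := by rw [← e]; group
  rw [d.Ux_iff hh e, d.Ux_iff (hh.mul_left hn.inv_left) e',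
    show h * n⁻¹ * (n * v * n⁻¹) * (h * n⁻¹)⁻¹ = h * v * h⁻¹ by group]

theorem Ex_conj {n : G} (hn : Commute n d.t) {x v : G} (hx : d.Zt x) :
    d.Ex (n * x * n⁻¹) (n * v * n⁻¹) ↔ d.Ex x v := by
  obtain ⟨h, hh, e⟩ := d.to_z hx
  have e' : h * n⁻¹ * (n * x * n⁻¹) * (h * n⁻¹)⁻¹ = z := by rw [← e]; group
  rw [d.Ex_iff hh e, d.Ex_iff (hh.mul_left hn.inv_left) e',
    show h * n⁻¹ * (n * v * n⁻¹) * (h * n⁻¹)⁻¹ = h * v * h⁻¹ by group]

theorem Tri_conj {e : G} (he : d.Tri e) : d.Zt e := by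
  have hM := d.Tri_M he
  refine ⟨(d.mem_S1.mp (d.mem_M.mp hM).1).2, ?_⟩
  have hsq := (d.M_facts hM).1
  rcases he with rfl | rfl | rfl
  · exact IsConj.refl _
  · exact d.Q_invol d.hs hsq d.s_ne.1
  · exact d.Q_invol (mul_mem d.X.mem d.hs) hsq d.zs_ne.1

/-- An element of the centralizer moving a member of the triple to the first involution. -/
theorem Tri_to_z {e : G} (he : d.Tri e) :
    ∃ n, Commute n d.t ∧ n * e * n⁻¹ = z ∧ (∀ v, d.Tri (n * v * n⁻¹) ↔ d.Tri v) ∧
      ∀ v, n * v * n⁻¹ ∈ d.U ↔ v ∈ d.U := by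
  have hgz := d.g_Tri_move (x := z) (Or.inl rfl)
  have hcyc : ∀ v, d.g * (d.g * (d.g * v * d.g⁻¹) * d.g⁻¹) * d.g⁻¹ = v := fun v => by
    rw [← conj_comp, ← conj_comp, d.g_cube, one_mul, inv_one, mul_one]
  have hU : ∀ v, d.g * v * d.g⁻¹ ∈ d.U ↔ v ∈ d.U := fun v => by
    have h1 : ∀ w, w ∈ d.U → d.g * w * d.g⁻¹ ∈ d.U := fun w hw => by
      rwa [← (d.mem_U.mp hw).2.eq, mul_inv_cancel_right]
    refine ⟨fun h => ?_, h1 v⟩
    have := h1 _ (h1 _ h)
    rwa [hcyc] at this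
  have hT : ∀ v, d.Tri (d.g * v * d.g⁻¹) ↔ d.Tri v := fun v => by
    refine ⟨fun h => ?_, d.g_Tri⟩
    have := d.g_Tri (d.g_Tri h)
    rwa [hcyc] at this
  have hT2 : ∀ v, d.Tri (d.g * d.g * v * (d.g * d.g)⁻¹) ↔ d.Tri v := fun v => by rw [conj_comp, hT, hT]
  have hU2 : ∀ v, d.g * d.g * v * (d.g * d.g)⁻¹ ∈ d.U ↔ v ∈ d.U := fun v => by rw [conj_comp, hU, hU]
  by_cases h0 : e = z
  · exact ⟨1, Commute.one_left _, by rw [h0]; simp, fun v => by simp, fun v => by simp⟩
  by_cases h1 : d.g * e * d.g⁻¹ = z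
  · exact ⟨d.g, d.g_t', h1, hT, hU⟩
  · refine ⟨d.g * d.g, d.g_t'.mul_left d.g_t', ?_, hT2, hU2⟩
    have a := d.g_Tri he
    have b := d.g_Tri a
    have hab := d.g_Tri_move a
    have hea := d.g_Tri_move he
    rw [conj_comp]
    rcases he with r | he
    · exact absurd r h0
    rcases a with r | a
    · exact absurd r h1
    rcases b with r | b
    · exact r
    exfalso
    have hd : d.g * (d.g * e * d.g⁻¹) * d.g⁻¹ ≠ e := fun r => hea (by
      have := hcyc e
      rw [r] at this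
      exact this)
    rcases he with r | r <;> rcases a with r' | r' <;> rcases b with r'' | r'' <;>
      first
        | exact hea (r'.trans r.symm)
        | exact hab (r''.trans r'.symm)
        | exact hd (r''.trans r.symm)

theorem Ex_same {x v : G} (hx : d.Zt x) (hv : d.Ex x v) :
    d.Zt v ∧ (∀ w, d.Ex x w ↔ d.Ex v w) ∧ ∀ w, d.Ux x w ↔ d.Ux v w := by
  obtain ⟨h, hh, e⟩ := d.to_z hx
  have he := (d.Ex_iff hh e v).mp hv
  obtain ⟨n, hn, hne, hnT, hnU⟩ := d.Tri_to_z he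
  have e' : n * h * v * (n * h)⁻¹ = z := by rw [conj_comp, hne]
  refine ⟨?_, fun w => ?_, fun w => ?_⟩
  · have := d.Zt_conj (d.Tri_conj he) hh.inv_left
    rwa [show h⁻¹ * (h * v * h⁻¹) * h⁻¹⁻¹ = v by group] at this
  · rw [d.Ex_iff hh e, d.Ex_iff (hn.mul_left hh) e', conj_comp, hnT]
  · rw [d.Ux_iff hh e, d.Ux_iff (hn.mul_left hh) e', conj_comp, hnU]

theorem Ex_refl {x : G} : d.Ex x x := fun h _ e => Or.inl e

/-- Members of the first class in the pair's centralizer centralize the distinguished four-group and triple. -/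
theorem Zt_S {x : G} (hx : d.Zt x) (hz : Commute x z) : x ∈ d.S1 := by
  rcases d.φ_invol (d.mem_S.mpr ⟨hz, hx.1⟩) (d.Zt_sq hx) with ⟨h, -⟩ | ⟨-, -, -, h⟩
  · exact h
  · exact absurd hx.2 h

/-- Members of the triple and of the four-group attached to a member commute with all commuting members. -/
theorem attached_comm {x v w : G} (hx : d.Zt x) (hv : d.Ex x v ∨ d.Ux x v) (hw : d.Zt w) (hwx : Commute w x) :
    Commute w v := by
  obtain ⟨h, hh, e⟩ := d.to_z hx
  have hwz : Commute (h * w * h⁻¹) z := by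
    have := (Commute.conj_iff h).mpr hwx
    rwa [e] at this
  have hS1 := d.Zt_S (d.Zt_conj hw hh) hwz
  refine (Commute.conj_iff h).mp ?_
  rcases hv with hv | hv
  · exact ((d.mem_M.mp (d.Tri_M ((d.Ex_iff hh e v).mp hv))).2 _ hS1).symm
  · exact d.S1_U hS1 ((d.Ux_iff hh e v).mp hv)

theorem Ex_comm {x v : G} (hx : d.Zt x) (hv : d.Ex x v) : Commute v x := (d.attached_comm hx (Or.inl hv) hx (Commute.refl x)).symm

/-- The members outside the triple. -/
def NC (x : G) : Prop := x ∈ d.S1 ∧ IsConj z x ∧ ¬ d.Tri x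

theorem NC_Zt {x : G} (hx : d.NC x) : d.Zt x := ⟨(d.mem_S1.mp hx.1).2, hx.2.1⟩

theorem NC_img {x : G} (hx : d.NC x) : d.φ x ∈ Zn ∧ x * x = 1 := by
  have hC := (d.mem_S1.mp hx.1).1.1
  have hxx := d.Zt_sq (d.NC_Zt hx)
  refine ⟨?_, hxx⟩
  rcases d.φ_invol (d.S1_le hx.1) hxx with ⟨-, hI⟩ | ⟨h, -⟩
  · have hZ := (d.isZ_iff hC hxx).mpr ⟨hx.2.1, fun e => hx.2.2 (Or.inl e)⟩
    rw [(Std.I1_facts hI).2.2.1, decide_eq_true_eq] at hZ
    rw [Zn, List.mem_filter]
    refine ⟨hZ, ?_⟩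
    rw [Bool.not_eq_true', decide_eq_false_iff_not]
    intro e
    rcases d.φ_eq d.sz hC (d.φ_s.trans e.symm) with r | r
    · exact hx.2.2 (Or.inr (Or.inl r))
    · exact hx.2.2 (Or.inr (Or.inr r))
  · exact absurd hx.1 h

theorem NC_of_img {x : G} (hx : x ∈ d.S1) (h : d.φ x ∈ Zn) : d.NC x := by
  have hC := (d.mem_S1.mp hx).1.1
  rw [Zn, List.mem_filter, Bool.not_eq_true', decide_eq_false_iff_not] at h
  have hI : d.φ x ∈ I1 := (by decide +kernel : ∀ a ∈ Z1, a ∈ I1) _ h.1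
  have hxx := d.sq1_sound hC (Std.I1_facts hI).2.1
  have hZ := (d.isZ_iff hC hxx).mp (by rw [(Std.I1_facts hI).2.2.1, decide_eq_true h.1])
  refine ⟨hx, hZ.1, fun ht => ?_⟩
  rcases ht with r | r | r
  · exact hZ.2 r
  · exact h.2 (by rw [r]; exact d.φ_s)
  · refine h.2 ?_
    rw [r, d.φ_mul (Commute.refl z) d.sz, d.φ_z, ← d.φ_one, ← d.φ_mul (Commute.one_left z) d.sz, one_mul]
    exact d.φ_s

theorem NC_rel {a b : G} (ha : d.NC a) (hb : d.NC b) : xcomm (d.φ a) (d.φ b) = true ↔ Commute a b :=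
  d.xcomm_iff (d.mem_S1.mp ha.1).1.1 (d.mem_S1.mp hb.1).1.1 (d.NC_img ha).2 (d.NC_img hb).2

theorem NC_trans {a b c : G} (ha : d.NC a) (hb : d.NC b) (hc : d.NC c) (h1 : Commute a b) (h2 : Commute b c) :
    Commute a c := by
  have h := List.all_eq_true.mp chk_rel _ (d.NC_img ha).1
  simp only [Bool.and_eq_true, List.all_eq_true] at h
  have h' := h.2 _ (d.NC_img hb).1 _ (d.NC_img hc).1
  rw [(d.NC_rel ha hb).mpr h1, (d.NC_rel hb hc).mpr h2] at h'
  exact (d.NC_rel ha hc).mp (by simpa using h')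

theorem NC_dicho {a b c : G} (ha : d.NC a) (hb : d.NC b) (hc : d.NC c) (h1 : ¬ Commute a b) :
    Commute c a ∨ Commute c b := by
  have h := chk_two
  simp only [List.any_eq_true, Bool.and_eq_true, Bool.not_eq_true', List.all_eq_true, Bool.or_eq_true] at h
  obtain ⟨x0, hx0, x1, hx1, -, hall⟩ := h
  have hrel := fun x hx => (List.all_eq_true.mp chk_rel x hx)
  simp only [Bool.and_eq_true, List.all_eq_true] at hrel
  have hsym : ∀ x ∈ Zn, ∀ w ∈ Zn, xcomm x w = xcomm w x := by decide +kernel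
  have tr : ∀ {x w v}, x ∈ Zn → w ∈ Zn → v ∈ Zn → xcomm x w = true → xcomm w v = true → xcomm x v = true :=
    fun {x w v} hx hw hv e1 e2 => by
      have := (hrel x hx).2 w hw v hv
      rw [e1, e2] at this
      simpa using this
  have ma := (d.NC_img ha).1; have mb := (d.NC_img hb).1; have mc := (d.NC_img hc).1
  have ne : ∀ {x}, x ∈ Zn → xcomm (d.φ a) x = true → xcomm (d.φ b) x = true → False := fun hx e1 e2 =>
    h1 ((d.NC_rel ha hb).mp (tr ma hx mb e1 (by rw [hsym _ hx _ mb]; exact e2)))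
  have go : ∀ {x v : G}, (hv : d.NC v) → d.φ v ∈ Zn → ∀ {w}, w ∈ Zn → xcomm (d.φ c) w = true →
      xcomm (d.φ v) w = true → Commute c v := fun {_ v} hv mv {w} hw e1 e2 =>
    (d.NC_rel hc hv).mp (tr mc hw mv e1 (by rw [hsym _ hw _ mv]; exact e2))
  rcases hall _ ma with ea | ea <;> rcases hall _ mb with eb | eb
  · exact (ne hx0 ea eb).elim
  · rcases hall _ mc with ec | ec
    · exact Or.inl (go (x := a) ha ma hx0 ec ea)
    · exact Or.inr (go (x := b) hb mb hx1 ec eb)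
  · rcases hall _ mc with ec | ec
    · exact Or.inr (go (x := b) hb mb hx0 ec eb)
    · exact Or.inl (go (x := a) ha ma hx1 ec ea)
  · exact (ne hx1 ea eb).elim

theorem g_NC {a : G} (ha : d.NC a) : d.NC (d.g * a * d.g⁻¹) :=
  ⟨d.g_S1 ha.1, ha.2.1.trans (isConj_iff.mpr ⟨d.g, rfl⟩), fun h => ha.2.2 (by
    have := d.g_Tri (d.g_Tri h)
    rwa [← conj_comp, ← conj_comp, d.g_cube, one_mul, inv_one, mul_one] at this)⟩

theorem g_rel {a : G} (ha : d.NC a) : Commute (d.g * a * d.g⁻¹) a := by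
  by_contra hn
  have h2 := d.g_NC (d.g_NC ha)
  have hcyc : d.g * (d.g * (d.g * a * d.g⁻¹) * d.g⁻¹) * d.g⁻¹ = a := by
    rw [← conj_comp, ← conj_comp, d.g_cube, one_mul, inv_one, mul_one]
  rcases d.NC_dicho (d.g_NC ha) ha h2 hn with h | h
  · exact hn ((Commute.conj_iff d.g).mp h)
  · have := (Commute.conj_iff d.g).mpr h
    rw [hcyc] at this
    exact hn this.symm

/-- A member of the four-group's coset is a conjugate under the centralizer of the pair of involutions. -/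
theorem shift {x e : G} (hx : d.NC x) (he : d.InE e) : ∃ h ∈ d.S1, h * x * h⁻¹ = x * e := by
  have h := List.all_eq_true.mp chk_shift _ (d.NC_img hx).1
  simp only [Bool.and_eq_true, List.any_eq_true, decide_eq_true_eq] at h
  obtain ⟨⟨a, ha, h1⟩, ⟨b, hb, h2⟩⟩ := h
  obtain ⟨wa, hwa, hwaa, ea⟩ := d.S1_invol ha
  obtain ⟨wb, hwb, hwbb, eb⟩ := d.S1_invol hb
  have hC : ∀ {v}, v ∈ d.S1 → Commute v z := fun h => (d.mem_S1.mp h).1.1
  have hxC := hC hx.1
  have hzb : wb * x * wb⁻¹ = x * z := by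
    have := (d.xanti_iff (hC hwb) hxC hwbb (d.NC_img hx).2).mp (by rw [eb]; exact h2)
    rw [this, show z * (x * wb) * wb⁻¹ = z * x by group, hxC.eq]
  have hsa : wa * x * wa⁻¹ = x * d.s ∨ wa * x * wa⁻¹ = x * (z * d.s) := by
    have hφ : d.φ (wa * x) = d.φ (x * d.s * wa) := by
      rw [d.φ_mul (hC hwa) hxC, d.φ_mul (hxC.mul_left d.sz) (hC hwa), d.φ_mul hxC d.sz, d.φ_s, ea]
      exact h1
    rcases d.φ_eq ((hxC.mul_left d.sz).mul_left (hC hwa)) ((hC hwa).mul_left hxC) hφ.symm with r | r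
    · exact Or.inl (by rw [r]; group)
    · refine Or.inr ?_
      rw [r, show z * (x * d.s * wa) * wa⁻¹ = z * x * d.s by group, ← hxC.eq, mul_assoc]
  have hcomp : ∀ {f w}, w ∈ d.S1 → d.InE f → wb * x * wb⁻¹ = x * z → w * x * w⁻¹ = x * f →
      wb * w * x * (wb * w)⁻¹ = x * (z * f) := fun {f w} _ hf e1 e2 => by
    rw [conj_comp, e2, show wb * (x * f) * wb⁻¹ = wb * x * wb⁻¹ * (wb * f * wb⁻¹) by group, e1,
      (d.E_central hf (d.mem_S1.mp hwb).1).eq, mul_inv_cancel_right, mul_assoc]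
  rcases he with rfl | rfl | rfl | rfl
  · exact ⟨1, one_mem _, by simp⟩
  · exact ⟨wb, hwb, hzb⟩
  · rcases hsa with r | r
    · exact ⟨wa, hwa, r⟩
    · exact ⟨wb * wa, mul_mem hwb hwa, by
        rw [hcomp hwa (Or.inr (Or.inr (Or.inr rfl))) hzb r, ← mul_assoc z z, d.X.zz, one_mul]⟩
  · rcases hsa with r | r
    · exact ⟨wb * wa, mul_mem hwb hwa, hcomp hwa (Or.inr (Or.inr (Or.inl rfl))) hzb r⟩
    · exact ⟨wa, hwa, r⟩

theorem shift_NC {x e : G} (hx : d.NC x) (he : d.InE e) : d.NC (x * e) ∧ Commute (x * e) x := by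
  obtain ⟨h, hh, e'⟩ := d.shift hx he
  have hT : d.T x := (d.mem_S1.mp hx.1).1
  refine ⟨⟨mul_mem hx.1 (d.mem_M.mp (d.InE_M he)).1, e' ▸ hx.2.1.trans (isConj_iff.mpr ⟨h, rfl⟩), fun ht => hx.2.2 ?_⟩,
    (Commute.refl x).mul_left (d.E_central he hT).symm⟩
  have h' := d.S_Tri (inv_mem (d.S1_le hh)) ht
  rwa [← e', show h⁻¹ * (h * x * h⁻¹) * h⁻¹⁻¹ = x by group] at h'

theorem line_NC {x v : G} (hx : d.NC x) (hv : d.Ex x v) : d.NC v ∧ Commute v x := by
  obtain ⟨hZ, hE, -⟩ := d.Ex_same (d.NC_Zt hx) hv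
  have hc := d.Ex_comm (d.NC_Zt hx) hv
  have hvz : Commute v z :=
    (d.attached_comm (d.NC_Zt hx) (Or.inl hv) (d.Tri_conj (Or.inl rfl)) (d.mem_S1.mp hx.1).1.1.symm).symm
  refine ⟨⟨d.Zt_S hZ hvz, hZ.2, fun ht => hx.2.2 ?_⟩, hc⟩
  obtain ⟨n, hn, hne, hnT, -⟩ := d.Tri_to_z ht
  have := ((hE x).mp d.Ex_refl) n hn hne
  exact (hnT x).mp this

theorem class_bound {x : G} (hx : d.NC x) : Nat.card {v // d.NC v ∧ Commute v x} ≤ 12 := by
  classical
  let L := Zn.filter fun a => xcomm a (d.φ x)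
  have hL : L.length = 6 := by
    have := List.all_eq_true.mp chk_class_size _ (d.NC_img hx).1
    rw [Nat.beq_eq, List.countP_eq_length_filter] at this
    exact this
  have hmem : ∀ v : {v // d.NC v ∧ Commute v x}, d.φ v.1 ∈ L := fun v =>
    List.mem_filter.mpr ⟨(d.NC_img v.2.1).1, (d.NC_rel v.2.1 hx).mpr v.2.2⟩
  have hsel : ∀ a : {a // a ∈ L}, ∃ y ∈ d.S1, d.φ y = a.1 := fun a => by
    have hz : a.1 ∈ Zn := (List.mem_filter.mp a.2).1
    exact d.S1_surj ((by decide +kernel : ∀ b ∈ Zn, b ∈ L1) _ hz)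
  choose sel hs hsφ using hsel
  let f : {v // d.NC v ∧ Commute v x} → Bool × {a // a ∈ L} := fun v =>
    (decide (v.1 = sel ⟨_, hmem v⟩), ⟨_, hmem v⟩)
  have hf : Function.Injective f := fun v w e => by
    obtain ⟨e1, e2⟩ := Prod.mk.injEq .. ▸ e
    refine Subtype.ext ?_
    have hv := d.φ_eq (d.mem_S1.mp (hs ⟨_, hmem v⟩)).1.1 (d.mem_S1.mp v.2.1.1).1.1 (hsφ _)
    have hw := d.φ_eq (d.mem_S1.mp (hs ⟨_, hmem w⟩)).1.1 (d.mem_S1.mp w.2.1.1).1.1 (hsφ _)
    rw [← e2] at e1 hw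
    rcases hv with hv | hv <;> rcases hw with hw | hw
    · rw [hv, hw]
    · rw [decide_eq_true hv, eq_comm, decide_eq_true_eq] at e1; rw [hv, e1]
    · rw [decide_eq_true hw, decide_eq_true_eq] at e1; rw [e1, hw]
    · rw [hv, hw]
  have := Nat.card_le_card_of_injective f hf
  rwa [Nat.card_prod, Nat.card_congr (Equiv.subtypeEquivRight fun a => (List.mem_toFinset).symm), Nat.card_eq_finsetCard,
    List.toFinset_card_of_nodup (Zn_nodup.filter _), hL, show Nat.card Bool = 2 by simp] at this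

theorem lines_disjoint {x e e' : G} (hx : d.NC x) (he : d.InE e) (he' : d.InE e') (h : d.Ex (x * e) (x * e')) :
    e = e' := by
  by_contra hne
  have hN := (d.shift_NC hx he).1
  obtain ⟨n, hn, e0⟩ := d.to_z (d.NC_Zt hN)
  have h1 : d.Tri (n * (x * e') * n⁻¹) := (d.Ex_iff hn e0 _).mp h
  have hne' : n * (x * e') * n⁻¹ ≠ z := fun r => hne (by
    rw [← e0] at r
    exact (mul_left_cancel (mul_left_cancel (mul_right_cancel r))).symm)
  have hp : d.Tri (z * (n * (x * e') * n⁻¹)) := by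
    rcases h1 with r | r | r
    · exact absurd r hne'
    · rw [r]; exact Or.inr (Or.inr rfl)
    · rw [r, ← mul_assoc, d.X.zz, one_mul]; exact Or.inr (Or.inl rfl)
  have heq : z * (n * (x * e') * n⁻¹) = n * (e * e') * n⁻¹ := by
    have hc : Commute x e := d.E_central he (d.mem_S1.mp hx.1).1
    rw [← e0, show n * (x * e) * n⁻¹ * (n * (x * e') * n⁻¹) = n * (x * e * (x * e')) * n⁻¹ by group,
      show x * e * (x * e') = x * x * (e * e') by rw [hc.symm.mul_mul_mul_comm], (d.NC_img hx).2, one_mul]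
  rw [heq] at hp
  obtain ⟨hnc, -⟩ := d.line_NC hN ((d.Ex_iff hn e0 _).mpr hp)
  refine hnc.2.2 ((d.E_cases he _ he').resolve_left fun r => hne ?_)
  exact (eq_inv_of_mul_eq_one_left r).trans (inv_eq_of_mul_eq_one_right (d.E_sq he'))

theorem card_InE : Nat.card {e : G // d.InE e} = 4 := by
  classical
  obtain ⟨a1, a2, a3⟩ := d.zs_ne
  obtain ⟨s1, s2⟩ := d.s_ne
  rw [Nat.card_congr (Equiv.subtypeEquivRight (q := fun x => x ∈ ({1, z, d.s, z * d.s} : Finset G)) fun x => by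
    simp [Pt.InE]), Nat.card_eq_finsetCard]
  simp [Ne.symm d.X.ne, Ne.symm s1, Ne.symm a1, Ne.symm s2, Ne.symm a2, Ne.symm a3]

theorem card_Tri : Nat.card {e : G // d.Tri e} = 3 := by
  classical
  obtain ⟨a1, a2, a3⟩ := d.zs_ne
  obtain ⟨s1, s2⟩ := d.s_ne
  rw [Nat.card_congr (Equiv.subtypeEquivRight (q := fun x => x ∈ ({z, d.s, z * d.s} : Finset G)) fun x => by
    simp [Four.Tri]), Nat.card_eq_finsetCard]
  simp [Ne.symm s2, Ne.symm a2, Ne.symm a3]

/-- The four lines through a coset exhaust the class. -/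
theorem cover {x w : G} (hx : d.NC x) (hw : d.NC w) (hwx : Commute w x) : ∃ e, d.InE e ∧ d.Ex (x * e) w := by
  classical
  choose n hn hne using fun e : {e : G // d.InE e} => d.to_z (d.NC_Zt (d.shift_NC hx e.2).1)
  have hEx : ∀ (e : {e : G // d.InE e}) (v : {v : G // d.Tri v}), d.Ex (x * e.1) ((n e)⁻¹ * v.1 * n e) := fun e v =>
    (d.Ex_iff (hn e) (hne e) _).mpr (by
      rw [show n e * ((n e)⁻¹ * v.1 * n e) * (n e)⁻¹ = v.1 by group]; exact v.2)
  let f : {e : G // d.InE e} × {v : G // d.Tri v} → {v // d.NC v ∧ Commute v x} := fun u =>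
    ⟨(n u.1)⁻¹ * u.2.1 * n u.1, by
      obtain ⟨h1, h2⟩ := d.line_NC (d.shift_NC hx u.1.2).1 (hEx u.1 u.2)
      exact ⟨h1, d.NC_trans h1 (d.shift_NC hx u.1.2).1 hx h2 (d.shift_NC hx u.1.2).2⟩⟩
  have hf : Function.Injective f := by
    rintro ⟨e, v⟩ ⟨e', v'⟩ r
    have r' : (n e)⁻¹ * v.1 * n e = (n e')⁻¹ * v'.1 * n e' := congrArg Subtype.val r
    have h1 := (d.Ex_same (d.NC_Zt (d.shift_NC hx e.2).1) (hEx e v)).2.1
    have h2 := (d.Ex_same (d.NC_Zt (d.shift_NC hx e'.2).1) (hEx e' v')).2.1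
    rw [← r'] at h2
    have := (h1 (x * e'.1)).mpr ((h2 (x * e'.1)).mp d.Ex_refl)
    have ee : e = e' := Subtype.ext (d.lines_disjoint hx e.2 e'.2 this)
    subst ee
    exact Prod.ext rfl (Subtype.ext (mul_left_cancel (mul_right_cancel r')))
  have hc : Nat.card ({e : G // d.InE e} × {v : G // d.Tri v}) = Nat.card {v // d.NC v ∧ Commute v x} := by
    refine le_antisymm (Nat.card_le_card_of_injective f hf) ?_
    rw [Nat.card_prod, d.card_InE, d.card_Tri]
    exact d.class_bound hx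
  obtain ⟨⟨e, v⟩, hev⟩ := ((Nat.bijective_iff_injective_and_card f).mpr ⟨hf, hc⟩).2 ⟨w, hw, hwx⟩
  refine ⟨e.1, e.2, ?_⟩
  rw [show w = (n e)⁻¹ * v.1 * n e from (congrArg Subtype.val hev).symm]
  exact hEx e v

/-- A line fixed by the element of order three. -/
theorem exists_fixed_line {x : G} (hx : d.NC x) :
    ∃ e, d.InE e ∧ d.Ex (x * e) (d.g * (x * e) * d.g⁻¹) := by
  classical
  letI := Fintype.ofFinite G
  let P := {e : G // d.InE e}
  have hcl : ∀ e : P, ∃ e' : P, d.Ex (x * e'.1) (d.g * (x * e.1) * d.g⁻¹) := fun e => by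
    obtain ⟨h1, h2⟩ := d.shift_NC hx e.2
    have h3 := d.g_NC h1
    obtain ⟨e', he', h⟩ := d.cover hx h3 (d.NC_trans h3 h1 hx (d.g_rel h1) h2)
    exact ⟨⟨e', he'⟩, h⟩
  choose σ hσ using hcl
  have step : ∀ e : P, ∀ v, d.Ex (x * e.1) v → d.Ex (x * (σ e).1) (d.g * v * d.g⁻¹) := fun e v hv => by
    have hN := d.NC_Zt (d.shift_NC hx e.2).1
    have h1 := (d.Ex_conj (n := d.g) d.g_t' hN (v := v)).mpr hv
    exact ((d.Ex_same (d.NC_Zt (d.shift_NC hx (σ e).2).1) (hσ e)).2.1 _).mpr h1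
  have hcube : ∀ e, σ (σ (σ e)) = e := fun e => by
    have h := step (σ (σ e)) _ (step (σ e) _ (hσ e))
    rw [← conj_comp, ← conj_comp, d.g_cube, one_mul, inv_one, mul_one] at h
    exact Subtype.ext (d.lines_disjoint hx (σ (σ (σ e))).2 e.2 h)
  let π : Equiv.Perm P := ⟨σ, fun e => σ (σ e), fun e => hcube e, fun e => hcube e⟩
  haveI : Fact (Nat.Prime 3) := ⟨Nat.prime_three⟩
  obtain ⟨e, he⟩ := Equiv.Perm.exists_fixed_point_of_prime (p := 3) (n := 1) (σ := π)
    (by rw [← Nat.card_eq_fintype_card, show Nat.card P = 4 from d.card_InE]; norm_num)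
    (by
      ext e
      show ((π * (π * π)) e : G) = _
      exact congrArg Subtype.val (hcube e))
  refine ⟨e.1, e.2, ?_⟩
  have := hσ e
  rwa [show σ e = e from he] at this

theorem not_commute_g {x : G} (hx : d.Zt x) : ¬ Commute d.g x := by
  intro h
  obtain ⟨n, hn, e⟩ := d.to_z hx
  have hS : n * d.g * n⁻¹ ∈ d.S := by
    refine d.mem_S.mpr ⟨?_, (hn.mul_left d.g_t').mul_left hn.inv_left⟩
    have := (Commute.conj_iff n).mpr h
    rwa [e] at this
  have h1 : orderOf d.g ∣ 512 := by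
    rw [← d.toSec.card_S, show orderOf d.g = orderOf (n * d.g * n⁻¹) from
      ((MulAut.conj n).orderOf_eq d.g).symm, ← Subgroup.orderOf_mk _ hS]
    exact orderOf_dvd_natCard _
  have h3 : orderOf d.g ∣ 3 := orderOf_dvd_of_pow_eq_one (by rw [pow_succ, pow_two]; exact d.g_cube)
  have hg1 : d.g = 1 := orderOf_eq_one_iff.mp (Nat.eq_one_of_dvd_coprimes (by norm_num) h1 h3)
  exact d.g_Tri_move (x := z) (Or.inl rfl) (by rw [hg1]; simp)

/-- The four-group attached to a member of the first class in the centralizer of the pair is the distinguished one. -/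
theorem U_attached {x : G} (hx : x ∈ d.S1) (hc : IsConj z x) {v : G} (hv : v ∈ d.U) : d.Ux x v := by
  classical
  by_cases hT : d.Tri x
  · obtain ⟨n, hn, hne, -, hnU⟩ := d.Tri_to_z hT
    exact (d.Ux_iff hn hne v).mpr ((hnU v).mpr hv)
  have hN : d.NC x := ⟨hx, hc, hT⟩
  obtain ⟨e, he, hfix⟩ := d.exists_fixed_line hN
  obtain ⟨hF, -⟩ := d.shift_NC hN he
  obtain ⟨n, hn, hne⟩ := d.to_z (d.NC_Zt hF)
  have hsame := (d.Ex_same (d.NC_Zt hF) hfix).2.2
  obtain ⟨hS1F, -, -⟩ := hF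
  have hF : d.NC (x * e) := (d.shift_NC hN he).1
  have hin : ∀ w, d.Ux (x * e) w → w ∈ d.U := by
    intro w hw
    have hwU : n * w * n⁻¹ ∈ d.U := (d.Ux_iff hn hne w).mp hw
    have hback : w = n⁻¹ * (n * w * n⁻¹) * n := by group
    by_cases h1 : w = 1
    · rw [h1]; exact one_mem _
    by_cases h2 : w = d.t
    · rw [h2]; exact d.t_U
    have hww : w * w = 1 := by
      have := (d.M_facts (d.mem_U.mp hwU).1).1
      rwa [show n * w * n⁻¹ * (n * w * n⁻¹) = n * (w * w) * n⁻¹ by group, conj_eq_one_iff] at this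
    have hwt : Commute w d.t := by
      have := ((d.U_comm hwU d.t_U))
      rw [show d.t = n * d.t * n⁻¹ by rw [hn.eq, mul_inv_cancel_right]] at this
      exact (Commute.conj_iff n).mp this
    have hcomm : ∀ a, d.Zt a → Commute a (x * e) → Commute a w := fun a ha hae =>
      d.attached_comm (d.NC_Zt hF) (Or.inr hw) ha hae
    have hxeT : d.T (x * e) := (d.mem_S1.mp hF.1).1
    have hwz : Commute w z := (hcomm z (d.Tri_conj (Or.inl rfl)) hxeT.1.symm).symm
    have hws : Commute w d.s := (hcomm d.s (d.Tri_conj (Or.inr (Or.inl rfl))) hxeT.2.symm).symm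
    have hwS : w ∈ d.S := d.mem_S.mpr ⟨hwz, hwt⟩
    have hwT : IsConj d.t w :=
      (d.U_conj hwU (fun r => h1 (conj_eq_one_iff.mp r))).trans (isConj_iff.mpr ⟨n⁻¹, by group⟩)
    -- the element of order three fixes it
    have hgw : d.g * w * d.g⁻¹ = w := by
      have h3 : d.Ux (x * e) (d.g * w * d.g⁻¹) := (hsame _).mpr ((d.Ux_conj d.g_t' (d.NC_Zt hF)).mpr hw)
      have h4 := (d.Ux_iff hn hne _).mp h3
      have hnt : n * d.t * n⁻¹ = d.t := by rw [hn.eq, mul_inv_cancel_right]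
      have hgt : d.g * d.t * d.g⁻¹ = d.t := by rw [d.g_t'.eq, mul_inv_cancel_right]
      have hne1 : n * w * n⁻¹ ≠ 1 := fun r => h1 (conj_eq_one_iff.mp r)
      have hnet : n * w * n⁻¹ ≠ d.t := fun r => h2 (mul_left_cancel (mul_right_cancel (r.trans hnt.symm)))
      have hne1' : n * (d.g * w * d.g⁻¹) * n⁻¹ ≠ 1 := fun r => h1 (conj_eq_one_iff.mp (conj_eq_one_iff.mp r))
      have hnet' : n * (d.g * w * d.g⁻¹) * n⁻¹ ≠ d.t := fun r => h2 (mul_left_cancel (mul_right_cancel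
        ((mul_left_cancel (mul_right_cancel (r.trans hnt.symm))).trans hgt.symm)))
      have hcase : d.g * w * d.g⁻¹ = w ∨ d.g * w * d.g⁻¹ = d.t * w := by
        have two : ∀ {a b : G}, a ∈ d.U → b ∈ d.U → a ≠ 1 → a ≠ d.t → b ≠ 1 → b ≠ d.t → b = a ∨ b = d.t * a := by
          intro a b ha hb a1 a2 b1 b2
          rcases d.U_cases ha with r | r | r | r
          · exact absurd r a1
          · exact absurd r a2
          · rcases d.U_cases hb with r' | r' | r' | r'
            · exact absurd r' b1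
            · exact absurd r' b2
            · exact Or.inl (r'.trans r.symm)
            · exact Or.inr (by rw [r', r])
          · rcases d.U_cases hb with r' | r' | r' | r'
            · exact absurd r' b1
            · exact absurd r' b2
            · exact Or.inr (by rw [r', r, ← mul_assoc, d.t_sq, one_mul])
            · exact Or.inl (r'.trans r.symm)
        rcases two hwU h4 hne1 hnet hne1' hnet' with r | r
        · exact Or.inl (mul_left_cancel (mul_right_cancel r))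
        · refine Or.inr (mul_left_cancel (a := n) (mul_right_cancel (b := n⁻¹) ?_))
          rw [r, show n * (d.t * w) * n⁻¹ = n * d.t * n⁻¹ * (n * w * n⁻¹) by group, hnt]
      rcases hcase with r | r
      · exact r
      · exfalso
        have h3 : d.g * (d.g * (d.g * w * d.g⁻¹) * d.g⁻¹) * d.g⁻¹ = d.t * w := by
          have hmul : ∀ v, d.g * (d.t * v) * d.g⁻¹ = d.t * (d.g * v * d.g⁻¹) := fun v => by
            rw [show d.g * (d.t * v) * d.g⁻¹ = d.g * d.t * d.g⁻¹ * (d.g * v * d.g⁻¹) by group, hgt]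
          rw [r, hmul, r, ← mul_assoc d.t d.t, d.t_sq, one_mul, r]
        rw [← conj_comp, ← conj_comp, d.g_cube, one_mul, inv_one, mul_one] at h3
        exact d.t_ne (mul_eq_right.mp h3.symm)
    -- split it
    have hI : d.φ w ∈ I1 ++ YI := by
      rcases d.φ_invol hwS hww with ⟨-, h⟩ | ⟨-, h, -⟩
      · exact List.mem_append_left _ h
      · exact List.mem_append_right _ h
    have h := List.all_eq_true.mp (List.all_eq_true.mp chk_CF _ (d.NC_img hF).1) _ hI
    rw [(d.isT_iff hwz hww).mpr hwT] at h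
    have hs : xcomm (d.φ w) (inn 1) = true := by rw [← d.φ_s]; exact (d.xcomm_iff hwz d.sz hww d.ss).mpr hws
    rw [hs, Bool.not_true, Bool.false_or, Bool.false_or, Bool.or_eq_true] at h
    rcases h with h | h
    · exfalso
      simp only [List.any_eq_true, Bool.and_eq_true, Bool.not_eq_true'] at h
      obtain ⟨a, ha, ha1, ha2⟩ := h
      obtain ⟨xa, hxa, eqa⟩ := d.S1_surj ((by decide +kernel : ∀ b ∈ Zn, b ∈ L1) a ha)
      have hNa := d.NC_of_img hxa (eqa ▸ ha)
      have hc1 := (d.NC_rel hNa hF).mp (by rw [eqa]; exact ha1)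
      have hc2 := hcomm xa (d.NC_Zt hNa) hc1
      rw [← eqa, (d.xcomm_iff hwz (d.mem_S1.mp hxa).1.1 hww (d.NC_img hNa).2).mpr hc2.symm] at ha2
      exact Bool.noConfusion ha2
    · have h5 := List.all_eq_true.mp h _ d.φ_u
      simp only [List.any_eq_true, Bool.and_eq_true, Bool.or_eq_true, decide_eq_true_eq] at h5
      obtain ⟨a, ha, b, hb, hab, hb'⟩ := h5
      obtain ⟨v', hv', ev'⟩ : ∃ v' ∈ d.U, d.φ v' = a := by
        simp only [List.mem_cons, List.not_mem_nil, or_false] at ha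
        rcases ha with r | r | r | r <;> subst r
        · exact ⟨1, one_mem _, d.φ_one⟩
        · exact ⟨d.t, d.t_U, d.φ_t⟩
        · exact ⟨d.u, d.u_U, rfl⟩
        · exact ⟨d.t * d.u, mul_mem d.t_U d.u_U, by rw [d.φ_mul d.t_C d.u_C, d.φ_t]⟩
      have hv'S := (d.mem_M.mp (d.mem_U.mp hv').1).1
      have hv'C := (d.mem_S1.mp hv'S).1.1
      have hv'2 := (d.M_facts (d.mem_U.mp hv').1).1
      have hwS1 : w ∈ d.S1 := d.mem_S1.mpr ⟨⟨hwz, hws⟩, hwt⟩
      set f' := v' * w with hf'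
      have hfS : f' ∈ d.S1 := mul_mem hv'S hwS1
      have hfC := (d.mem_S1.mp hfS).1.1
      have hf2 : f' * f' = 1 := by
        have hc' : Commute v' w := (d.mem_M.mp (d.mem_U.mp hv').1).2 w hwS1
        rw [hf', hc'.symm.mul_mul_mul_comm, hv'2, hww, one_mul]
      have ef : d.φ f' = b := by
        obtain ⟨yb, hyb, eyb⟩ := d.S1_surj (a := b) (by
          rcases List.mem_cons.mp hb with r | r
          · subst r; exact (by decide +kernel : t1 ∈ L1)
          · exact (by decide +kernel : ∀ c ∈ Z1, c ∈ L1) b r)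
        rw [hf', d.φ_mul hv'C hwz, hab, ← ev', ← eyb, ← d.φ_mul hv'C (d.mem_S1.mp hyb).1.1,
          ← d.φ_mul hv'C (hv'C.mul_left (d.mem_S1.mp hyb).1.1), ← mul_assoc, hv'2, one_mul]
      have hgf : Commute d.g f' :=
        (d.mem_U.mp hv').2.symm.mul_right (mul_inv_eq_iff_eq_mul.mp hgw)
      have hf1 : f' = 1 := by
        by_contra hne1
        have hfix : d.g * f' * d.g⁻¹ = f' := by rw [hgf.eq, mul_inv_cancel_right]
        rcases hb' with hb' | hb'
        · have htr : d.Tri f' := by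
            simp only [List.mem_cons, List.not_mem_nil, or_false] at hb'
            rcases hb' with r | r
            · rcases d.φ_eq (Commute.one_left z) hfC (d.φ_one.trans (ef.trans r).symm) with q | q
              · exact absurd q hne1
              · exact Or.inl (q.trans (mul_one z))
            · rcases d.φ_eq d.sz hfC (d.φ_s.trans (ef.trans r).symm) with q | q
              · exact Or.inr (Or.inl q)
              · exact Or.inr (Or.inr q)
          exact d.g_Tri_move htr hfix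
        · rcases List.mem_cons.mp hb with r | r
          · rcases d.φ_eq (Commute.one_left z) hfC (d.φ_one.trans (ef.trans r).symm) with q | q
            · exact absurd q hne1
            · exact d.g_Tri_move (Or.inl (q.trans (mul_one z))) hfix
          · by_cases hbn : b = inn 1
            · rcases d.φ_eq d.sz hfC (d.φ_s.trans (ef.trans hbn).symm) with q | q
              · exact d.g_Tri_move (Or.inr (Or.inl q)) hfix
              · exact d.g_Tri_move (Or.inr (Or.inr q)) hfix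
            · have hNf := d.NC_of_img hfS (by
                rw [ef, Zn, List.mem_filter, Bool.not_eq_true', decide_eq_false_iff_not]; exact ⟨r, hbn⟩)
              exact d.not_commute_g (d.NC_Zt hNf) hgf
      have hwv : w = v' := by
        calc w = v' * (v' * w) := by rw [← mul_assoc, hv'2, one_mul]
          _ = v' := by rw [← hf', hf1, mul_one]
      rw [hwv]; exact hv'
  have hall : ∀ w ∈ d.U, d.Ux (x * e) w := by
    intro w hw
    let f : ↥d.U → ↥d.U := fun a => ⟨n⁻¹ * a.1 * n, hin _ ((d.Ux_iff hn hne _).mpr (by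
      rw [show n * (n⁻¹ * a.1 * n) * n⁻¹ = a.1 by group]; exact a.2))⟩
    have hf : Function.Injective f := fun a b r =>
      Subtype.ext (mul_left_cancel (mul_right_cancel (congrArg Subtype.val r)))
    obtain ⟨a, ha⟩ := ((Nat.bijective_iff_injective_and_card f).mpr ⟨hf, rfl⟩).2 ⟨w, hw⟩
    rw [show w = n⁻¹ * a.1 * n from (congrArg Subtype.val ha).symm]
    exact (d.Ux_iff hn hne _).mpr (by rw [show n * (n⁻¹ * a.1 * n) * n⁻¹ = a.1 by group]; exact a.2)
  obtain ⟨h, hh, he'⟩ := d.shift hN he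
  have := hall v hv
  rw [← he', show v = h * v * h⁻¹ by rw [(d.S1_U hh hv).eq, mul_inv_cancel_right]] at this
  exact (d.Ux_conj (d.mem_S1.mp hh).2 (d.NC_Zt hN)).mp this

end Four

end Cfsg.Lib.SuzukiType
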