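import Cfsg.Agent.SuzukiType.Local.Total
import Cfsg.Agent.SuzukiType.Local.FourCent

/-!
Elements of order five and seven in the second centralizer and their centralizers in the group.
-/

set_option autoImplicit false
set_option maxRecDepth 100000
set_option maxHeartbeats 1000000
set_option linter.unusedSectionVars false
set_option linter.style.haveILetI false

namespace Cfsg.Lib.SuzukiType

open Subgroup Cfsg.Lib.SuzukiType.Local
open Cfsg.Lib.InvolCalc (sq_of_order_two order_two_of_mul_self ne_one_of_order_two)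
open Cfsg.Lib.HallJankoType (order_two_of_conj)

universe u

theorem mem_Cs {L : Type u} [Group L] {x g : L} : x ∈ centralizer ({g} : Set L) ↔ Commute x g :=
  mem_centralizer_singleton_iff

theorem commute_of_mem_zpowers {L : Type u} [Group L] {x g w : L} (h : Commute x g) (hw : w ∈ zpowers g) :
    Commute x w := by
  obtain ⟨i, rfl⟩ := hw
  exact h.zpow_right i

theorem centralizer_zpowers {L : Type u} [Group L] (g : L) :
    centralizer (zpowers g : Set L) = centralizer ({g} : Set L) := by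
  refine le_antisymm (fun x hx => mem_Cs.mpr ((mem_centralizer_iff.mp hx) g (mem_zpowers g)).symm) fun x hx => ?_
  exact mem_centralizer_iff.mpr fun w hw => (commute_of_mem_zpowers (mem_Cs.mp hx) hw).symm

/-- The normalizer of a subgroup of prime order. -/
theorem norm_zpowers {L : Type u} [Group L] [Finite L] {g : L} {p : ℕ} (hp : p.Prime) (hg : orderOf g = p) :
    ∃ e, e ∣ p - 1 ∧
      Nat.card ↥(normalizer (zpowers g : Set L)) = Nat.card ↥(centralizer ({g} : Set L)) * e ∧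
      (e = p - 1 → ∀ i, 1 ≤ i → i < p → ∃ k ∈ normalizer (zpowers g : Set L), k * g * k⁻¹ = g ^ i) := by
  classical
  haveI : IsCyclic ↥(zpowers g) := inferInstance
  set N := normalizer (zpowers g : Set L) with hN
  set f := (zpowers g).normalizerMonoidHom with hf
  have hC : centralizer (zpowers g : Set L) ≤ N := centralizer_le_normalizer _
  have hker : Nat.card ↥f.ker = Nat.card ↥(centralizer ({g} : Set L)) := by
    rw [hf, normalizerMonoidHom_ker, Nat.card_congr (subgroupOfEquivOfLe hC).toEquiv, centralizer_zpowers]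
  refine ⟨f.ker.index, ?_, ?_, ?_⟩
  · rw [index_ker]
    have h := card_subgroup_dvd_card f.range
    rwa [IsCyclic.card_mulAut, Nat.card_zpowers, hg, Nat.totient_prime hp] at h
  · rw [← hker, card_mul_index]
  · intro he i hi1 hip
    have hle : N ⊓ centralizer ({g} : Set L) = centralizer ({g} : Set L) :=
      inf_eq_right.mpr (centralizer_zpowers g ▸ hC)
    have h1 := orbit_mul_stab N g
    rw [hle, ← f.ker.card_mul_index, hker, he, mul_comm] at h1
    have hcard : Nat.card {y : L // ∃ h ∈ N, h * g * h⁻¹ = y} = p - 1 := Nat.eq_of_mul_eq_mul_left Nat.card_pos h1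
    let φ : Fin (p - 1) → {y : L // y ∈ zpowers g ∧ y ≠ 1} := fun j =>
      ⟨g ^ (j.1 + 1), pow_mem (mem_zpowers g) _, fun e => by
        have := Nat.le_of_dvd (by omega) (orderOf_dvd_of_pow_eq_one e)
        rw [hg] at this
        have := j.2
        omega⟩
    have hsub : ∀ y, (∃ h ∈ N, h * g * h⁻¹ = y) → y ∈ zpowers g ∧ y ≠ 1 := by
      rintro y ⟨h, hh, rfl⟩
      refine ⟨(mem_normalizer_iff.mp hh g).mp (mem_zpowers g), fun e => ?_⟩
      rw [conj_eq_one_iff.mp e, orderOf_one] at hg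
      exact hp.ne_one hg.symm
    have hcard2 : Nat.card {y : L // y ∈ zpowers g ∧ y ≠ 1} = p - 1 := by
      have h' := Set.ncard_sdiff_singleton_of_mem (s := (zpowers g : Set L)) (a := 1) (one_mem _)
      rw [← Nat.card_coe_set_eq, ← Nat.card_coe_set_eq] at h'
      rw [show Nat.card ↥(zpowers g : Set L) = p from (Nat.card_zpowers g).trans hg] at h'
      exact h'
    let ι : {y : L // ∃ h ∈ N, h * g * h⁻¹ = y} → {y : L // y ∈ zpowers g ∧ y ≠ 1} := fun y => ⟨y.1, hsub y.1 y.2⟩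
    have hι : Function.Bijective ι := (Nat.bijective_iff_injective_and_card ι).mpr
      ⟨fun a b e => Subtype.ext (congrArg Subtype.val e :), by rw [hcard, hcard2]⟩
    obtain ⟨⟨y, k, hk, e⟩, hy⟩ := hι.2 (φ ⟨i - 1, by omega⟩)
    refine ⟨k, hk, ?_⟩
    have hyv : y = g ^ (i - 1 + 1) := congrArg Subtype.val hy
    rw [e, hyv, show i - 1 + 1 = i by omega]

theorem sylow_count {L : Type u} [Group L] [Finite L] {p : ℕ} (hp : p.Prime) {g : L} (hg : orderOf g = p)
    (hf : (Nat.card L).factorization p = 1) :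
    (normalizer (zpowers g : Set L)).index % p = 1 := by
  haveI : Fact p.Prime := ⟨hp⟩
  let P : Sylow p L := Sylow.ofCard (zpowers g) (by rw [hf, pow_one, Nat.card_zpowers, hg])
  have h := card_sylow_modEq_one p L
  rw [P.card_eq_index_normalizer] at h
  rw [show (P : Set L) = (zpowers g : Set L) from rfl] at h
  exact Nat.mod_eq_of_modEq h hp.one_lt

theorem factorization_one {n p : ℕ} (hp : p.Prime) (hn : n ≠ 0) (h1 : p ∣ n) (h2 : ¬ p ^ 2 ∣ n) :
    n.factorization p = 1 := by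
  refine le_antisymm ?_ ((hp.pow_dvd_iff_le_factorization hn).mp (by simpa using h1))
  by_contra hlt
  exact h2 ((hp.pow_dvd_iff_le_factorization hn).mpr (by omega))

namespace KOrder.KData

variable {K : Type u} [Group K] [Finite K] (d : KData K)

include d in
theorem no_invol_comm {b x : K} {p : ℕ} (hp : p = 5 ∨ p = 7) (hb : orderOf b = p) (hx : orderOf x = 2) :
    ¬ Commute b x := by
  intro hc
  rcases d.classes (sq_of_order_two hx) (ne_one_of_order_two hx) with h | h
  · have := d.odd_comm_class h hc (by rw [hb]; rcases hp with rfl | rfl <;> decide)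
    rw [this, orderOf_one] at hb
    omega
  · obtain ⟨c, rfl⟩ := isConj_iff.mp h
    have h2 : Commute (c⁻¹ * b * c⁻¹⁻¹) d.y := by
      have := (Commute.conj_iff c⁻¹).mpr hc
      rwa [show c⁻¹ * (c * d.y * c⁻¹) * c⁻¹⁻¹ = d.y by group] at this
    have h3 := orderOf_dvd_natCard (⟨_, mem_Cs.mpr h2⟩ : ↥(centralizer ({d.y} : Set K)))
    rw [Subgroup.orderOf_mk, d.card_CY, d.card_A, show c⁻¹ * b * c⁻¹⁻¹ = MulAut.conj c⁻¹ b from rfl,
      MulEquiv.orderOf_eq, hb] at h3
    rcases hp with rfl | rfl <;> norm_num at h3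

include d in
theorem no_three_comm {b g : K} {p : ℕ} (hp : p = 5 ∨ p = 7) (hb : orderOf b = p) (hg : orderOf g = 3) :
    ¬ Commute b g := by
  intro hc
  haveI : Fact (Nat.Prime 3) := ⟨Nat.prime_three⟩
  have hf : (Nat.card K).factorization 3 = 2 := by
    refine le_antisymm ?_ ((Nat.prime_three.pow_dvd_iff_le_factorization Nat.card_pos.ne').mp (by rw [d.card_K]; norm_num))
    by_contra hlt
    have := (Nat.prime_three.pow_dvd_iff_le_factorization Nat.card_pos.ne').mpr
      (show 3 ≤ (Nat.card K).factorization 3 by omega)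
    rw [d.card_K] at this
    norm_num at this
  let P : Sylow 3 K := Sylow.ofCard d.A (by rw [hf, d.card_A]; norm_num)
  obtain ⟨Q, hQ⟩ := (IsPGroup.of_card (p := 3) (n := 1) (show Nat.card ↥(zpowers g) = 3 ^ 1 by
    rw [Nat.card_zpowers, hg, pow_one])).exists_le_sylow
  obtain ⟨c, hcQ⟩ := MulAction.exists_smul_eq K Q P
  have ha : MulAut.conj c g ∈ d.A := by
    show MulAut.conj c g ∈ (P : Subgroup K)
    rw [← hcQ, Sylow.coe_subgroup_smul]
    exact Subgroup.smul_mem_pointwise_smul g _ _ (hQ (mem_zpowers g))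
  have ha1 : MulAut.conj c g ≠ 1 := fun e => by
    rw [MulEquiv.map_eq_one_iff] at e
    rw [e, orderOf_one] at hg
    norm_num at hg
  have hb' : orderOf (MulAut.conj c b) = p := by rw [MulEquiv.orderOf_eq, hb]
  have hc' : Commute (MulAut.conj c b) (MulAut.conj c g) := hc.map _
  rcases d.cent_A ha ha1 hc' with h | ⟨a, haA, e⟩
  · have h3 := orderOf_dvd_natCard (⟨_, h⟩ : ↥d.A)
    rw [Subgroup.orderOf_mk, hb', d.card_A] at h3
    rcases hp with rfl | rfl <;> norm_num at h3
  · have hpow := pow_orderOf_eq_one (MulAut.conj c b)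
    rw [hb', e, (d.A_y haA).symm.mul_pow] at hpow
    have hyp : d.y ^ p = d.y := by
      rcases hp with rfl | rfl
      · rw [show (5 : ℕ) = 2 * 2 + 1 from rfl, pow_succ, pow_mul, pow_two d.y, d.y_sq, one_pow, one_mul]
      · rw [show (7 : ℕ) = 2 * 3 + 1 from rfl, pow_succ, pow_mul, pow_two d.y, d.y_sq, one_pow, one_mul]
    rw [hyp] at hpow
    exact d.y_D (eq_inv_of_mul_eq_one_left hpow ▸ inv_mem (pow_mem (d.A_D haA) p))

include d in
theorem cent_dvd {b : K} {p : ℕ} (hp : p = 5 ∨ p = 7) (hb : orderOf b = p) :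
    Nat.card ↥(centralizer ({b} : Set K)) ∣ 35 := by
  have h1 := card_subgroup_dvd_card (centralizer ({b} : Set K))
  rw [d.card_K] at h1
  have h2 : ¬ 2 ∣ Nat.card ↥(centralizer ({b} : Set K)) := by
    intro h
    haveI : Fact (Nat.Prime 2) := ⟨Nat.prime_two⟩
    obtain ⟨x, hx⟩ := exists_prime_orderOf_dvd_card' 2 h
    exact d.no_invol_comm hp hb (by rw [Subgroup.orderOf_coe]; exact hx) (mem_Cs.mp x.2).symm
  have h3 : ¬ 3 ∣ Nat.card ↥(centralizer ({b} : Set K)) := by
    intro h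
    haveI : Fact (Nat.Prime 3) := ⟨Nat.prime_three⟩
    obtain ⟨x, hx⟩ := exists_prime_orderOf_dvd_card' 3 h
    exact d.no_three_comm hp hb (by rw [Subgroup.orderOf_coe]; exact hx) (mem_Cs.mp x.2).symm
  have hco : Nat.Coprime (Nat.card ↥(centralizer ({b} : Set K))) 1152 := by
    rw [show 1152 = 2 ^ 7 * 3 ^ 2 by norm_num]
    exact Nat.Coprime.mul_right ((Nat.coprime_comm.mp ((Nat.prime_two.coprime_iff_not_dvd).mpr h2)).pow_right 7)
      ((Nat.coprime_comm.mp ((Nat.prime_three.coprime_iff_not_dvd).mpr h3)).pow_right 2)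
  exact hco.dvd_of_dvd_mul_right (show Nat.card ↥(centralizer ({b} : Set K)) ∣ 35 * 1152 by
    rw [show 35 * 1152 = 40320 by norm_num]; exact h1)

include d in
theorem cent_big {b : K} {p : ℕ} (hp : p = 5 ∨ p = 7) (hb : orderOf b = p) :
    Nat.card ↥(centralizer ({b} : Set K)) = p := by
  have h7 : ∀ {g : K}, orderOf g = 7 → Nat.card ↥(centralizer ({g} : Set K)) ≠ 35 := by
    intro g hg h35
    obtain ⟨e, he, hN, -⟩ := norm_zpowers (by norm_num) hg
    have hs := sylow_count (by norm_num) hg (factorization_one (by norm_num) Nat.card_pos.ne'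
      (by rw [d.card_K]; norm_num) (by rw [d.card_K]; norm_num))
    have hm := (normalizer (zpowers g : Set K)).card_mul_index
    rw [hN, h35, d.card_K] at hm
    have h6 := Nat.le_of_dvd (by norm_num) he
    interval_cases e <;> omega
  have hpp : p.Prime := by rcases hp with rfl | rfl <;> norm_num
  have hd := d.cent_dvd hp hb
  have hb' : p ∣ Nat.card ↥(centralizer ({b} : Set K)) := by
    have := orderOf_dvd_natCard (⟨b, mem_Cs.mpr (Commute.refl b)⟩ : ↥(centralizer ({b} : Set K)))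
    rwa [Subgroup.orderOf_mk, hb] at this
  have hne : Nat.card ↥(centralizer ({b} : Set K)) ≠ 35 := by
    intro h35
    rcases hp with rfl | rfl
    · haveI : Fact (Nat.Prime 7) := ⟨by norm_num⟩
      obtain ⟨g, hg⟩ := exists_prime_orderOf_dvd_card' (G := ↥(centralizer ({b} : Set K))) 7 (by rw [h35]; norm_num)
      rw [← Subgroup.orderOf_coe] at hg
      refine h7 hg (Nat.dvd_antisymm (d.cent_dvd (Or.inr rfl) hg) ?_)
      rw [show 35 = 5 * 7 from rfl]
      refine Nat.Coprime.mul_dvd_of_dvd_of_dvd (by norm_num) ?_ ?_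
      · have := orderOf_dvd_natCard (⟨b, mem_Cs.mpr (mem_Cs.mp g.2).symm⟩ : ↥(centralizer ({(g : K)} : Set K)))
        rwa [Subgroup.orderOf_mk, hb] at this
      · have := orderOf_dvd_natCard (⟨(g : K), mem_Cs.mpr (Commute.refl _)⟩ : ↥(centralizer ({(g : K)} : Set K)))
        rwa [Subgroup.orderOf_mk, hg] at this
    · exact h7 hb h35
  have := Nat.le_of_dvd (by norm_num) hd
  rcases hp with rfl | rfl
  · interval_cases hc : Nat.card ↥(centralizer ({b} : Set K)) <;> omega
  · interval_cases hc : Nat.card ↥(centralizer ({b} : Set K)) <;> omega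

include d in
theorem five_norm {b : K} (hb : orderOf b = 5) : ∃ k, k * b * k⁻¹ = b ^ 2 := by
  obtain ⟨e, he, hN, hfull⟩ := norm_zpowers (by norm_num) hb
  have hs := sylow_count (by norm_num) hb (factorization_one (by norm_num) Nat.card_pos.ne'
    (by rw [d.card_K]; norm_num) (by rw [d.card_K]; norm_num))
  have hm := (normalizer (zpowers b : Set K)).card_mul_index
  rw [hN, d.cent_big (Or.inl rfl) hb, d.card_K] at hm
  have h4 := Nat.le_of_dvd (by norm_num) he
  have he4 : e = 4 := by interval_cases e <;> omega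
  obtain ⟨k, -, hk⟩ := hfull he4 2 (by norm_num) (by norm_num)
  exact ⟨k, hk⟩

end KOrder.KData

variable {G : Type u} [Group G] [Finite G] {z : G}

namespace Four

variable (d : Four z)

theorem exists_elem {p : ℕ} (hp : p = 5 ∨ p = 7) : ∃ b, orderOf b = p ∧ Commute b d.t := by
  haveI : Fact p.Prime := ⟨by rcases hp with rfl | rfl <;> norm_num⟩
  obtain ⟨b, hb⟩ := exists_prime_orderOf_dvd_card' (G := ↥d.Ct) p (by
    rw [d.order_Ct]; rcases hp with rfl | rfl <;> norm_num)
  exact ⟨b, by rw [Subgroup.orderOf_coe]; exact hb, d.mem_Ct.mp b.2⟩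

theorem pr_order {b : G} {p : ℕ} (hp : p = 5 ∨ p = 7) (hb : orderOf b = p) (hbt : Commute b d.t) :
    orderOf (d.pr b hbt) = p := by
  haveI : Fact p.Prime := ⟨by rcases hp with rfl | rfl <;> norm_num⟩
  refine orderOf_eq_prime ?_ fun h => ?_
  · rw [d.pr_pow, d.pr_one_iff, ← hb, pow_orderOf_eq_one]; exact one_mem _
  · rw [d.pr_one_iff] at h
    have h2 := orderOf_dvd_of_pow_eq_one (show b ^ 2 = 1 by rw [pow_two]; exact d.U_sq h)
    rw [hb] at h2
    rcases hp with rfl | rfl <;> norm_num at h2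

theorem odd_U {b v : G} {p : ℕ} (hp : p = 5 ∨ p = 7) (hb : orderOf b = p) (hbt : Commute b d.t) (hv : v ∈ d.U) :
    Commute b v := by
  have hu : Commute b d.u := by
    have hsw : b * b * d.u * (b * b)⁻¹ = d.u := by
      rw [conj_comp]
      rcases d.normal_U hbt with r | r <;> rw [r]
      · exact r
      · rw [show b * (d.t * d.u) * b⁻¹ = b * d.t * b⁻¹ * (b * d.u * b⁻¹) by group, hbt.eq, mul_inv_cancel_right, r,
          ← mul_assoc, d.t_sq, one_mul]
    have hc : Commute (b * b) d.u := mul_inv_eq_iff_eq_mul.mp hsw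
    obtain ⟨j, hj⟩ := KOrder.exists_sqrt (x := b) (by rw [hb]; rcases hp with rfl | rfl <;> decide)
    rw [hj]
    exact hc.pow_left j
  rcases d.U_cases hv with r | r | r | r <;> rw [r]
  exacts [Commute.one_right b, hbt, hu, hbt.mul_right hu]

/-- The centralizer in the second centralizer: the four-group times the cyclic group. -/
theorem cent_Ct {b : G} {p : ℕ} (hp : p = 5 ∨ p = 7) (hb : orderOf b = p) (hbt : Commute b d.t) :
    Nat.card ↥(centralizer ({b} : Set G) ⊓ d.Ct) = 4 * p ∧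
      ∀ x, Commute x b → Commute x d.t → ∃ v ∈ d.U, ∃ i : ℤ, x = b ^ i * v := by
  set bb := d.pr b hbt with hbb
  have hob := d.pr_order hp hb hbt
  have hC : centralizer ({bb} : Set d.K) = zpowers bb := (eq_of_le_of_card_ge
    (zpowers_le.mpr (mem_Cs.mpr (Commute.refl bb)))
    (by rw [d.kd.cent_big hp hob, Nat.card_zpowers, hob])).symm
  have hform : ∀ x, Commute x b → Commute x d.t → ∃ v ∈ d.U, ∃ i : ℤ, x = b ^ i * v := by
    intro x hxb hxt
    have hm : d.pr x hxt ∈ zpowers bb := hC ▸ mem_Cs.mpr (by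
      show d.pr x hxt * d.pr b hbt = d.pr b hbt * d.pr x hxt
      simp only [d.pr_mul, hxb.eq])
    obtain ⟨i, hi⟩ := hm
    have hi' : d.pr (b ^ i) (hbt.zpow_left i) = d.pr x hxt := by
      rw [← hi]
      exact (map_zpow (QuotientGroup.mk' d.Usub) (⟨b, d.mem_Ct.mpr hbt⟩ : ↥d.Ct) i)
    exact ⟨(b ^ i)⁻¹ * x, (d.pr_eq _ _).mp hi', i, (mul_inv_cancel_left _ _).symm⟩
  refine ⟨?_, hform⟩
  have h := d.card_comap (zpowers bb)
  rw [Nat.card_zpowers, hob] at h
  rw [← h]
  refine Nat.card_congr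
    { toFun := fun x => ⟨⟨x.1, (mem_inf.mp x.2).2⟩, ?_⟩
      invFun := fun x => ⟨x.1.1, mem_inf.mpr ⟨mem_Cs.mpr ?_, x.1.2⟩⟩
      left_inv := fun _ => rfl
      right_inv := fun _ => rfl }
  · show d.pr x.1 (d.mem_Ct.mp (mem_inf.mp x.2).2) ∈ zpowers bb
    obtain ⟨hxb, hxt⟩ := mem_inf.mp x.2
    rw [← hC]
    refine mem_Cs.mpr ?_
    show d.pr x.1 _ * d.pr b hbt = d.pr b hbt * d.pr x.1 _
    simp only [d.pr_mul, (mem_Cs.mp hxb).eq]
  · obtain ⟨i, hi⟩ := x.2
    have hi' : d.pr (b ^ i) (hbt.zpow_left i) = d.pr x.1.1 (d.mem_Ct.mp x.1.2) :=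
      ((map_zpow (QuotientGroup.mk' d.Usub) (⟨b, d.mem_Ct.mpr hbt⟩ : ↥d.Ct) i).trans hi)
    have hv := (d.pr_eq _ _).mp hi'
    rw [show x.1.1 = b ^ i * ((b ^ i)⁻¹ * x.1.1) by group]
    exact (Commute.zpow_self b i).mul_left (d.odd_U hp hb hbt hv).symm

theorem five_conj {b : G} (hb : orderOf b = 5) (hbt : Commute b d.t) :
    ∃ k, Commute k d.t ∧ k * b * k⁻¹ = b ^ 2 := by
  obtain ⟨kk, hk⟩ := d.kd.five_norm (d.pr_order (Or.inl rfl) hb hbt)
  obtain ⟨k, hkt, rfl⟩ := d.pr_surj kk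
  refine ⟨k, hkt, ?_⟩
  rw [d.pr_conj, d.pr_pow, d.pr_eq] at hk
  set v := (k * b * k⁻¹)⁻¹ * b ^ 2 with hv
  have hbv : Commute (k * b * k⁻¹) v := by
    have ho : orderOf (k * b * k⁻¹) = 5 := by
      rw [show k * b * k⁻¹ = MulAut.conj k b from rfl, MulEquiv.orderOf_eq, hb]
    exact d.odd_U (Or.inl rfl) ho ((hkt.mul_left hbt).mul_left hkt.inv_left) hk
  have e : k * b * k⁻¹ * v = b ^ 2 := by rw [hv, mul_inv_cancel_left]
  have h5 : v ^ 5 = 1 := by
    have := congrArg (fun w => w ^ 5) e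
    simp only [hbv.mul_pow, conj_pow, ← pow_mul] at this
    rw [show b ^ 5 = 1 by rw [← hb, pow_orderOf_eq_one], mul_one, mul_inv_cancel, one_mul,
      show b ^ (2 * 5) = 1 by rw [mul_comm, pow_mul, ← hb, pow_orderOf_eq_one, one_pow]] at this
    exact this
  have hv1 : v = 1 := by
    rw [show (5 : ℕ) = 2 * 2 + 1 from rfl, pow_succ, pow_mul, pow_two v, d.U_sq hk, one_pow, one_mul] at h5
    exact h5
  rw [hv1, mul_one] at e
  exact e

theorem cent_tee {b x : G} {p : ℕ} (hp : p = 5 ∨ p = 7) (hb : orderOf b = p) (hx : IsConj d.t x)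
    (hc : Commute b x) : Nat.card ↥(centralizer ({b} : Set G) ⊓ centralizer ({x} : Set G)) = 4 * p := by
  obtain ⟨g, rfl⟩ := isConj_iff.mp hx
  have hb' : orderOf (g⁻¹ * b * g⁻¹⁻¹) = p := by
    rw [show g⁻¹ * b * g⁻¹⁻¹ = MulAut.conj g⁻¹ b from rfl, MulEquiv.orderOf_eq, hb]
  have hbt : Commute (g⁻¹ * b * g⁻¹⁻¹) d.t := by
    have := (Commute.conj_iff g⁻¹).mpr hc
    rwa [show g⁻¹ * (g * d.t * g⁻¹) * g⁻¹⁻¹ = d.t by group] at this
  rw [← (d.cent_Ct hp hb' hbt).1]
  refine Nat.card_congr (Equiv.subtypeEquiv (MulAut.conj g⁻¹).toEquiv fun y => ?_)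
  simp only [mem_inf, mem_Cs, d.mem_Ct]
  show _ ↔ Commute (g⁻¹ * y * g⁻¹⁻¹) _ ∧ Commute (g⁻¹ * y * g⁻¹⁻¹) d.t
  refine and_congr (Commute.conj_iff g⁻¹).symm ?_
  have := (Commute.conj_iff (a := y) (b := g * d.t * g⁻¹) g⁻¹).symm
  rwa [show g⁻¹ * (g * d.t * g⁻¹) * g⁻¹⁻¹ = d.t by group] at this

theorem U_le_cent {b : G} {p : ℕ} (hp : p = 5 ∨ p = 7) (hb : orderOf b = p) (hbt : Commute b d.t) :
    d.U ≤ centralizer ({b} : Set G) := fun _ hv => mem_Cs.mpr (d.odd_U hp hb hbt hv).symm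

/-- The involutions of the centralizer are of the second class. -/
theorem invol_local {b x : G} {p : ℕ} (hp : p = 5 ∨ p = 7) (hb : orderOf b = p) (hbt : Commute b d.t)
    (hx : orderOf x = 2) (hxb : Commute x b) : IsConj d.t x := by
  haveI : Fact (Nat.Prime 2) := ⟨Nat.prime_two⟩
  set C := centralizer ({b} : Set G) with hC
  let U' : Subgroup ↥C := d.U.subgroupOf C
  have hU' : Nat.card ↥U' = 2 ^ 2 := by
    rw [Nat.card_congr (subgroupOfEquivOfLe (d.U_le_cent hp hb hbt)).toEquiv, d.card_U]; norm_num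
  obtain ⟨P, hP⟩ := (IsPGroup.of_card hU').exists_le_sylow
  have hcase : (P : Subgroup ↥C) = U' := by
    by_contra hne
    have hlt : U' < P := lt_of_le_of_ne hP (Ne.symm hne)
    obtain ⟨k, hk⟩ := IsPGroup.iff_card.mp P.isPGroup'
    have h8 : 3 ≤ k := by
      have h1 : Nat.card ↥U' < Nat.card ↥(P : Subgroup ↥C) := lt_of_le_of_ne
        (Nat.le_of_dvd Nat.card_pos (card_dvd_of_le hlt.le)) fun e => hlt.ne (eq_of_le_of_card_ge hlt.le e.ge)
      rw [hU', hk] at h1
      exact (Nat.pow_lt_pow_iff_right (by norm_num)).mp h1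
    haveI : Nontrivial ↥(P : Subgroup ↥C) := Finite.one_lt_card_iff_nontrivial.mp (by
      rw [hk]; exact Nat.one_lt_pow (by omega) (by norm_num))
    haveI := P.isPGroup'.center_nontrivial
    obtain ⟨c, hc⟩ := exists_prime_orderOf_dvd_card' (G := ↥(center ↥(P : Subgroup ↥C))) 2
      ((IsPGroup.iff_card.mp (P.isPGroup'.to_subgroup _)).elim fun j hj => by
        rw [hj]
        refine dvd_pow_self 2 ?_
        intro j0
        rw [j0, pow_zero] at hj
        exact absurd hj (Nat.ne_of_gt Finite.one_lt_card))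
    set cg : G := (((c : ↥(P : Subgroup ↥C)) : ↥C) : G) with hcg
    have hc2 : orderOf cg = 2 := by
      rw [hcg, Subgroup.orderOf_coe, Subgroup.orderOf_coe, Subgroup.orderOf_coe]; exact hc
    have hcomm : ∀ w, w ∈ (P : Subgroup ↥C) → Commute (w : G) cg := fun w hw =>
      congrArg (fun v : ↥(P : Subgroup ↥C) => ((v : ↥C) : G)) (mem_center_iff.mp c.2 ⟨w, hw⟩)
    have htU : (⟨d.t, d.U_le_cent hp hb hbt d.t_U⟩ : ↥C) ∈ (P : Subgroup ↥C) := hP (mem_subgroupOf.mpr d.t_U)
    have hct : Commute cg d.t := (hcomm _ htU).symm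
    have hcb : Commute cg b := mem_Cs.mp ((c : ↥(P : Subgroup ↥C)) : ↥C).2
    obtain ⟨v, hv, i, e⟩ := (d.cent_Ct hp hb hbt).2 cg hcb hct
    have hbi : b ^ i = 1 := by
      have h2 := sq_of_order_two hc2
      rw [e, ((d.odd_U hp hb hbt hv).zpow_left i).symm.mul_mul_mul_comm, d.U_sq hv, mul_one] at h2
      obtain ⟨j, hj⟩ := KOrder.exists_sqrt (x := b ^ i) (by
        have hd : orderOf (b ^ i) ∣ p := hb ▸ orderOf_dvd_of_mem_zpowers (zpow_mem (mem_zpowers b) i)
        exact Odd.of_dvd_nat (by rcases hp with rfl | rfl <;> decide) hd)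
      rw [hj, h2, one_pow]
    rw [hbi, one_mul] at e
    have hv1 : v ≠ 1 := fun r => ne_one_of_order_two hc2 (e.trans r)
    have hct' : IsConj d.t cg := e ▸ d.U_conj hv hv1
    have h4 := d.cent_tee hp hb hct' hcb.symm
    have hle : (P : Subgroup ↥C).map C.subtype ≤ C ⊓ centralizer ({cg} : Set G) := by
      rintro _ ⟨w, hw, rfl⟩
      exact mem_inf.mpr ⟨w.2, mem_Cs.mpr (hcomm w hw)⟩
    have h5 := card_dvd_of_le hle
    rw [card_map_of_injective C.subtype_injective, hk, h4] at h5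
    have h6 : 2 ^ 3 ∣ 4 * p := (pow_dvd_pow 2 h8).trans h5
    rcases hp with rfl | rfl <;> norm_num at h6
  obtain ⟨Q, hQ⟩ := (IsPGroup.of_card (p := 2) (n := 1) (show Nat.card ↥(zpowers (⟨x, mem_Cs.mpr hxb⟩ : ↥C)) = 2 ^ 1 by
    rw [Nat.card_zpowers, Subgroup.orderOf_mk, hx, pow_one])).exists_le_sylow
  obtain ⟨g, hg⟩ := MulAction.exists_smul_eq ↥C Q P
  have hm : MulAut.conj g (⟨x, mem_Cs.mpr hxb⟩ : ↥C) ∈ U' := by
    rw [← hcase, ← hg, Sylow.coe_subgroup_smul]
    exact Subgroup.smul_mem_pointwise_smul _ _ _ (hQ (mem_zpowers _))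
  have hm' : (g : G) * x * (g : G)⁻¹ ∈ d.U := mem_subgroupOf.mp hm
  have hcj : IsConj ((g : G) * x * (g : G)⁻¹) x := isConj_iff.mpr ⟨(g : G)⁻¹, by group⟩
  exact (d.U_conj hm' fun r => ne_one_of_order_two hx (conj_eq_one_iff.mp r)).trans hcj

/-- The quotient of the centralizer by the element. -/
theorem local_hyp {b : G} {p : ℕ} (hp : p = 5 ∨ p = 7) (hb : orderOf b = p) (hbt : Commute b d.t) :
    ∀ (N : Subgroup ↥(centralizer ({b} : Set G))) [N.Normal], N = zpowers ⟨b, mem_Cs.mpr (Commute.refl b)⟩ →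
      FourCent.Hyp (↥(centralizer ({b} : Set G)) ⧸ N) := by
  set C := centralizer ({b} : Set G) with hC
  intro N _ hN
  have hNmem : ∀ w : ↥C, w ∈ N ↔ (w : G) ∈ zpowers b := by
    intro w
    rw [hN, mem_zpowers_iff, mem_zpowers_iff]
    exact exists_congr fun i => by rw [Subtype.ext_iff, Subgroup.coe_zpow]
  have hodd : ∀ w ∈ zpowers b, w * w = 1 → w = 1 := by
    intro w hw h2
    have hd : orderOf w ∣ p := hb ▸ orderOf_dvd_of_mem_zpowers hw
    obtain ⟨j, hj⟩ := KOrder.exists_sqrt (x := w) (Odd.of_dvd_nat (by rcases hp with rfl | rfl <;> decide) hd)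
    rw [hj, h2, one_pow]
  have hNp : ∀ w ∈ N, w ^ p = 1 := by
    intro w hw
    obtain ⟨i, hi⟩ := (hNmem w).mp hw
    refine Subtype.ext ?_
    rw [Subgroup.coe_pow, ← hi, ← zpow_natCast, ← zpow_mul, mul_comm, zpow_mul, zpow_natCast, ← hb,
      pow_orderOf_eq_one, one_zpow, Subgroup.coe_one]
  have hcardN : Nat.card ↥N = p := by rw [hN, Nat.card_zpowers, Subgroup.orderOf_mk, hb]
  refine ⟨?_, ?_⟩
  · intro q hq
    obtain ⟨g, rfl⟩ := QuotientGroup.mk'_surjective N q
    have hg2 : g * g ∈ N := by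
      rw [← QuotientGroup.eq_one_iff]
      exact sq_of_order_two hq
    set x := g ^ p with hx
    have hxq : QuotientGroup.mk' N x = QuotientGroup.mk' N g := by
      rw [hx, map_pow]
      rcases hp with rfl | rfl
      · rw [show (5 : ℕ) = 2 * 2 + 1 from rfl, pow_succ, pow_mul, pow_two (QuotientGroup.mk' N g), sq_of_order_two hq, one_pow, one_mul]
      · rw [show (7 : ℕ) = 2 * 3 + 1 from rfl, pow_succ, pow_mul, pow_two (QuotientGroup.mk' N g), sq_of_order_two hq, one_pow, one_mul]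
    have hx2 : x * x = 1 := by
      rw [hx, ← (Commute.refl g).mul_pow]
      exact hNp _ hg2
    have hx1 : x ≠ 1 := fun e => ne_one_of_order_two hq (by rw [← hxq, e, map_one])
    have hxo : orderOf (x : G) = 2 := by rw [Subgroup.orderOf_coe]; exact order_two_of_mul_self hx2 hx1
    have hxb : Commute (x : G) b := mem_Cs.mp x.2
    have h4 := d.cent_tee hp hb (d.invol_local hp hb hbt hxo hxb) hxb.symm
    have hpre : (centralizer ({QuotientGroup.mk' N g} : Set (↥C ⧸ N))).comap (QuotientGroup.mk' N) =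
        centralizer ({x} : Set ↥C) := by
      ext w
      rw [mem_comap, mem_Cs, mem_Cs, ← hxq]
      constructor
      · intro h
        have hm : (w * x * w⁻¹) * x⁻¹ ∈ N := by
          rw [← QuotientGroup.eq_one_iff]
          show QuotientGroup.mk' N ((w * x * w⁻¹) * x⁻¹) = 1
          rw [map_mul, map_mul, map_mul, map_inv, map_inv, h.eq, mul_inv_cancel_right, mul_inv_cancel]
        set m := (w * x * w⁻¹) * x⁻¹ with hmdef
        have hmb : Commute m x := by
          refine Subtype.ext ?_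
          exact (commute_of_mem_zpowers hxb ((hNmem m).mp hm)).symm.eq
        have e : w * x * w⁻¹ = m * x := by rw [hmdef, inv_mul_cancel_right]
        have h2 : (w * x * w⁻¹) * (w * x * w⁻¹) = 1 := by
          rw [show w * x * w⁻¹ * (w * x * w⁻¹) = w * (x * x) * w⁻¹ by group, hx2]; simp
        rw [e, hmb.symm.mul_mul_mul_comm, hx2, mul_one] at h2
        have hm1 : m = 1 := Subtype.ext (hodd _ ((hNmem m).mp hm) (congrArg Subtype.val h2))
        rw [hm1, one_mul] at e
        exact mul_inv_eq_iff_eq_mul.mp e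
      · intro h
        exact h.map _
    have hsub : Nat.card ↥(centralizer ({x} : Set ↥C)) = 4 * p := by
      rw [← h4]
      exact Nat.card_congr
        { toFun := fun w => ⟨w.1.1, mem_inf.mpr ⟨w.1.2, mem_Cs.mpr (congrArg Subtype.val (mem_Cs.mp w.2).eq)⟩⟩
          invFun := fun w => ⟨⟨w.1, (mem_inf.mp w.2).1⟩, mem_Cs.mpr (Subtype.ext (mem_Cs.mp (mem_inf.mp w.2).2).eq)⟩
          left_inv := fun _ => rfl
          right_inv := fun _ => rfl }
    set Z := centralizer ({QuotientGroup.mk' N g} : Set (↥C ⧸ N)) with hZ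
    have hidx := (Z.comap (QuotientGroup.mk' N)).card_mul_index
    rw [index_comap_of_surjective _ (QuotientGroup.mk'_surjective _), hpre, hsub,
      card_eq_card_quotient_mul_card_subgroup N, hcardN, ← Z.card_mul_index] at hidx
    have hp0 : 0 < p := by omega
    have hpos : 0 < Z.index * p := Nat.mul_pos (Nat.pos_of_ne_zero Subgroup.index_ne_zero_of_finite) hp0
    exact Nat.eq_of_mul_eq_mul_right hpos (by linarith)
  · have hmk : ∀ v, v ∈ d.U → v ≠ 1 → ∀ hv : v ∈ C, orderOf (QuotientGroup.mk' N ⟨v, hv⟩) = 2 := by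
      intro v hv hv1 hvC
      refine order_two_of_mul_self ?_ fun e => ?_
      · rw [← map_mul, show (⟨v, hvC⟩ : ↥C) * ⟨v, hvC⟩ = 1 from Subtype.ext (d.U_sq hv), map_one]
      · exact hv1 (hodd v ((hNmem _).mp ((QuotientGroup.eq_one_iff _).mp e)) (d.U_sq hv))
    have htC := d.U_le_cent hp hb hbt d.t_U
    have huC := d.U_le_cent hp hb hbt d.u_U
    refine ⟨_, _, hmk d.t d.t_U d.t_ne htC, hmk d.u d.u_U d.u_notTriv.1 huC,
      (show Commute (⟨d.t, htC⟩ : ↥C) ⟨d.u, huC⟩ from Subtype.ext d.u_t.symm.eq).map _, fun e => ?_⟩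
    have hm := (QuotientGroup.eq_iff_div_mem).mp e
    rw [div_eq_mul_inv] at hm
    have hUm : d.t * d.u⁻¹ ∈ d.U := mul_mem d.t_U (inv_mem d.u_U)
    have := hodd _ ((hNmem _).mp hm) (d.U_sq hUm)
    exact d.u_notTriv.2 (mul_inv_eq_one.mp this).symm

/-- The order of the centralizer. -/
theorem local_order {b : G} {p : ℕ} (hp : p = 5 ∨ p = 7) (hb : orderOf b = p) (hbt : Commute b d.t) :
    ∃ h, (h = 4 ∨ h = 12 ∨ h = 60) ∧ Nat.card ↥(centralizer ({b} : Set G)) = p * h := by
  set C := centralizer ({b} : Set G) with hC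
  set N : Subgroup ↥C := zpowers ⟨b, mem_Cs.mpr (Commute.refl b)⟩ with hN
  haveI : N.Normal := ⟨fun w hw g => by
    obtain ⟨i, rfl⟩ := hw
    have hgb : Commute g (⟨b, mem_Cs.mpr (Commute.refl b)⟩ : ↥C) := Subtype.ext (mem_Cs.mp g.2).eq
    show g * (⟨b, _⟩ : ↥C) ^ i * g⁻¹ ∈ N
    rw [(hgb.zpow_right i).eq, mul_inv_cancel_right]
    exact zpow_mem (mem_zpowers _) i⟩
  refine ⟨Nat.card (↥C ⧸ N), (d.local_hyp hp hb hbt N rfl).card_cases.1, ?_⟩
  rw [card_eq_card_quotient_mul_card_subgroup N, hN, Nat.card_zpowers, Subgroup.orderOf_mk, hb, mul_comm]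

end Four

end Cfsg.Lib.SuzukiType
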