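import Cfsg.Agent.SuzukiType.Local.OuterData

/-!
The finite checks on the images of the first class.
-/

set_option autoImplicit false
set_option maxRecDepth 100000
set_option maxHeartbeats 8000000
set_option synthInstance.maxSize 4000
set_option Elab.async false

namespace Cfsg.Lib.SuzukiType.Local

open Cfsg.Lib.SuzukiType.Code

theorem chk_rho_sieg : (W.all fun b => (b == 0) || qB b || (List.range 64).all fun x => Nat.beq (rho b x) (sieg 1 b x)) = true := by
  decide +kernel

theorem chk_lines : ((List.range 64).all fun a => qB a || (a == 0) || (List.range 64).all fun b => qB b || (b == 0) ||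
    (a == b) || pB a b || U46.any fun w => [1, 2, 4, 8, 16, 32].all fun x => Nat.beq (wact g1 w x) (sieg a b x)) = true := by
  decide +kernel

theorem chk_inn : ((List.range' 1 63).all fun v => qB v || decide (inn v ∈ ZI)) = true := by decide +kernel

/-- The check on a word. -/
def candOK (i : ℕ) : Bool :=
  (List.range 64).all fun v => (fun c : T6 => !decide (tm c c = t1) || !isZ c || decide (c ∈ ZI)) (mkc (U46.getD i []) v)

/-- The check on an image. -/
def kindOK (c : T6) : Bool := decide (tm c c = t1) && isZ c && !decide (c = t1)

/-- The check on the order of an image. -/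
def ordOK (e : T6 × ℕ) : Bool :=
  decide (0 < e.2) && decide (tpw (tm e.1 T0) (2 * e.2) = t1) &&
    (List.range' 1 (2 * e.2 - 1)).all fun k => !decide (tpw (tm e.1 T0) k = t1)

theorem chk_cand0 : (((List.range 46).drop 0).take 5).all candOK = true := by decide +kernel

theorem chk_cand1 : (((List.range 46).drop 5).take 5).all candOK = true := by decide +kernel

theorem chk_cand2 : (((List.range 46).drop 10).take 5).all candOK = true := by decide +kernel

theorem chk_cand3 : (((List.range 46).drop 15).take 5).all candOK = true := by decide +kernel

theorem chk_cand4 : (((List.range 46).drop 20).take 5).all candOK = true := by decide +kernel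

theorem chk_cand5 : (((List.range 46).drop 25).take 5).all candOK = true := by decide +kernel

theorem chk_cand6 : (((List.range 46).drop 30).take 5).all candOK = true := by decide +kernel

theorem chk_cand7 : (((List.range 46).drop 35).take 5).all candOK = true := by decide +kernel

theorem chk_cand8 : (((List.range 46).drop 40).take 5).all candOK = true := by decide +kernel

theorem chk_cand9 : (((List.range 46).drop 45).take 5).all candOK = true := by decide +kernel

theorem chk_cand : (List.range 46).all candOK = true := by
  rw [show List.range 46 = (((List.range 46).drop 0).take 5) ++ (((List.range 46).drop 5).take 5) ++ (((List.range 46).drop 10).take 5) ++ (((List.range 46).drop 15).take 5) ++ (((List.range 46).drop 20).take 5) ++ (((List.range 46).drop 25).take 5) ++ (((List.range 46).drop 30).take 5) ++ (((List.range 46).drop 35).take 5) ++ (((List.range 46).drop 40).take 5) ++ (((List.range 46).drop 45).take 5) from by decide +kernel]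
  simp only [List.all_append, chk_cand0, chk_cand1, chk_cand2, chk_cand3, chk_cand4, chk_cand5, chk_cand6, chk_cand7, chk_cand8, chk_cand9, Bool.and_self]

theorem chk_ZI : decide (ZI = Zw.map fun e => mkc (U46.getD e.1 []) e.2.1) = true ∧ U46.length = 46 ∧
    (U46.all fun w => w.all fun i => decide (i < g1.length)) = true := by decide +kernel

/-- The check on a lift. -/
def liftOK (e : ℕ × ℕ × ℕ) : Bool :=
  decide (e.1 < 46) && (fun c : T6 => decide (c.a0 < 128) && decide (c.a1 < 128) &&
    decide (c.a2 < 128) && decide (c.a3 < 128) && decide (c.a4 < 128) && decide (c.a5 < 128) &&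
    (List.range 64).all fun x => Nat.beq (wact g1 (U46.getD e.1 []) x) (ev c x &&& 63))
      (mkc (U46.getD e.1 []) e.2.1)

theorem chk_lift0 : (((Zw).drop 0).take 20).all liftOK = true := by decide +kernel

theorem chk_lift1 : (((Zw).drop 20).take 20).all liftOK = true := by decide +kernel

theorem chk_lift2 : (((Zw).drop 40).take 20).all liftOK = true := by decide +kernel

theorem chk_lift3 : (((Zw).drop 60).take 20).all liftOK = true := by decide +kernel

theorem chk_lift4 : (((Zw).drop 80).take 20).all liftOK = true := by decide +kernel

theorem chk_lift5 : (((Zw).drop 100).take 20).all liftOK = true := by decide +kernel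

theorem chk_lift6 : (((Zw).drop 120).take 20).all liftOK = true := by decide +kernel

theorem chk_lift7 : (((Zw).drop 140).take 20).all liftOK = true := by decide +kernel

theorem chk_lift8 : (((Zw).drop 160).take 20).all liftOK = true := by decide +kernel

theorem chk_lift9 : (((Zw).drop 180).take 20).all liftOK = true := by decide +kernel

theorem chk_lift10 : (((Zw).drop 200).take 20).all liftOK = true := by decide +kernel

theorem chk_lift : (Zw).all liftOK = true := by
  rw [show Zw = (((Zw).drop 0).take 20) ++ (((Zw).drop 20).take 20) ++ (((Zw).drop 40).take 20) ++ (((Zw).drop 60).take 20) ++ (((Zw).drop 80).take 20) ++ (((Zw).drop 100).take 20) ++ (((Zw).drop 120).take 20) ++ (((Zw).drop 140).take 20) ++ (((Zw).drop 160).take 20) ++ (((Zw).drop 180).take 20) ++ (((Zw).drop 200).take 20) from by decide +kernel]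
  simp only [List.all_append, chk_lift0, chk_lift1, chk_lift2, chk_lift3, chk_lift4, chk_lift5, chk_lift6, chk_lift7, chk_lift8, chk_lift9, chk_lift10, Bool.and_self]

theorem chk_kind0 : (((ZI).drop 0).take 20).all kindOK = true := by decide +kernel

theorem chk_kind1 : (((ZI).drop 20).take 20).all kindOK = true := by decide +kernel

theorem chk_kind2 : (((ZI).drop 40).take 20).all kindOK = true := by decide +kernel

theorem chk_kind3 : (((ZI).drop 60).take 20).all kindOK = true := by decide +kernel

theorem chk_kind4 : (((ZI).drop 80).take 20).all kindOK = true := by decide +kernel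

theorem chk_kind5 : (((ZI).drop 100).take 20).all kindOK = true := by decide +kernel

theorem chk_kind6 : (((ZI).drop 120).take 20).all kindOK = true := by decide +kernel

theorem chk_kind7 : (((ZI).drop 140).take 20).all kindOK = true := by decide +kernel

theorem chk_kind8 : (((ZI).drop 160).take 20).all kindOK = true := by decide +kernel

theorem chk_kind9 : (((ZI).drop 180).take 20).all kindOK = true := by decide +kernel

theorem chk_kind10 : (((ZI).drop 200).take 20).all kindOK = true := by decide +kernel

theorem chk_kind : (ZI).all kindOK = true := by
  rw [show ZI = (((ZI).drop 0).take 20) ++ (((ZI).drop 20).take 20) ++ (((ZI).drop 40).take 20) ++ (((ZI).drop 60).take 20) ++ (((ZI).drop 80).take 20) ++ (((ZI).drop 100).take 20) ++ (((ZI).drop 120).take 20) ++ (((ZI).drop 140).take 20) ++ (((ZI).drop 160).take 20) ++ (((ZI).drop 180).take 20) ++ (((ZI).drop 200).take 20) from by decide +kernel]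
  simp only [List.all_append, chk_kind0, chk_kind1, chk_kind2, chk_kind3, chk_kind4, chk_kind5, chk_kind6, chk_kind7, chk_kind8, chk_kind9, chk_kind10, Bool.and_self]

theorem ZI_nodup : ZI.Nodup := by decide +kernel

theorem chk_orders0 : (((ZH).drop 0).take 20).all ordOK = true := by decide +kernel

theorem chk_orders1 : (((ZH).drop 20).take 20).all ordOK = true := by decide +kernel

theorem chk_orders2 : (((ZH).drop 40).take 20).all ordOK = true := by decide +kernel

theorem chk_orders3 : (((ZH).drop 60).take 20).all ordOK = true := by decide +kernel

theorem chk_orders4 : (((ZH).drop 80).take 20).all ordOK = true := by decide +kernel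

theorem chk_orders5 : (((ZH).drop 100).take 20).all ordOK = true := by decide +kernel

theorem chk_orders6 : (((ZH).drop 120).take 20).all ordOK = true := by decide +kernel

theorem chk_orders7 : (((ZH).drop 140).take 20).all ordOK = true := by decide +kernel

theorem chk_orders8 : (((ZH).drop 160).take 20).all ordOK = true := by decide +kernel

theorem chk_orders9 : (((ZH).drop 180).take 20).all ordOK = true := by decide +kernel

theorem chk_orders10 : (((ZH).drop 200).take 20).all ordOK = true := by decide +kernel

theorem chk_orders : (ZH).all ordOK = true := by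
  rw [show ZH = (((ZH).drop 0).take 20) ++ (((ZH).drop 20).take 20) ++ (((ZH).drop 40).take 20) ++ (((ZH).drop 60).take 20) ++ (((ZH).drop 80).take 20) ++ (((ZH).drop 100).take 20) ++ (((ZH).drop 120).take 20) ++ (((ZH).drop 140).take 20) ++ (((ZH).drop 160).take 20) ++ (((ZH).drop 180).take 20) ++ (((ZH).drop 200).take 20) from by decide +kernel]
  simp only [List.all_append, chk_orders0, chk_orders1, chk_orders2, chk_orders3, chk_orders4, chk_orders5, chk_orders6, chk_orders7, chk_orders8, chk_orders9, chk_orders10, Bool.and_self]

theorem ZH_fst : ZH.map Prod.fst = ZI := by decide +kernel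

theorem chk_count0 : ((ZH.drop 0).take 20).countP good = 14 := by decide +kernel

theorem chk_count1 : ((ZH.drop 20).take 20).countP good = 9 := by decide +kernel

theorem chk_count2 : ((ZH.drop 40).take 20).countP good = 14 := by decide +kernel

theorem chk_count3 : ((ZH.drop 60).take 20).countP good = 16 := by decide +kernel

theorem chk_count4 : ((ZH.drop 80).take 20).countP good = 8 := by decide +kernel

theorem chk_count5 : ((ZH.drop 100).take 20).countP good = 12 := by decide +kernel

theorem chk_count6 : ((ZH.drop 120).take 20).countP good = 15 := by decide +kernel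

theorem chk_count7 : ((ZH.drop 140).take 20).countP good = 13 := by decide +kernel

theorem chk_count8 : ((ZH.drop 160).take 20).countP good = 3 := by decide +kernel

theorem chk_count9 : ((ZH.drop 180).take 20).countP good = 11 := by decide +kernel

theorem chk_count10 : ((ZH.drop 200).take 20).countP good = 3 := by decide +kernel

theorem chk_count : ZH.countP good = 118 := by
  rw [show ZH = ((ZH.drop 0).take 20) ++ ((ZH.drop 20).take 20) ++ ((ZH.drop 40).take 20) ++ ((ZH.drop 60).take 20) ++ ((ZH.drop 80).take 20) ++ ((ZH.drop 100).take 20) ++ ((ZH.drop 120).take 20) ++ ((ZH.drop 140).take 20) ++ ((ZH.drop 160).take 20) ++ ((ZH.drop 180).take 20) ++ ((ZH.drop 200).take 20) from by decide +kernel]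
  simp only [List.countP_append, chk_count0, chk_count1, chk_count2, chk_count3, chk_count4, chk_count5, chk_count6, chk_count7, chk_count8, chk_count9, chk_count10]

/-- The check on a fourth power. -/
def quadOK (a : T6) : Bool := (t1 :: Z1).all fun b => sq1 (tm (tm a b) (tm a b))

theorem chk_quad0 : (((t1 :: Z1).drop 0).take 3).all quadOK = true := by decide +kernel

theorem chk_quad1 : (((t1 :: Z1).drop 3).take 3).all quadOK = true := by decide +kernel

theorem chk_quad2 : (((t1 :: Z1).drop 6).take 3).all quadOK = true := by decide +kernel

theorem chk_quad3 : (((t1 :: Z1).drop 9).take 3).all quadOK = true := by decide +kernel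

theorem chk_quad4 : (((t1 :: Z1).drop 12).take 3).all quadOK = true := by decide +kernel

theorem chk_quad : (t1 :: Z1).all quadOK = true := by
  rw [show t1 :: Z1 = (((t1 :: Z1).drop 0).take 3) ++ (((t1 :: Z1).drop 3).take 3) ++ (((t1 :: Z1).drop 6).take 3) ++ (((t1 :: Z1).drop 9).take 3) ++ (((t1 :: Z1).drop 12).take 3) from by decide +kernel]
  simp only [List.all_append, chk_quad0, chk_quad1, chk_quad2, chk_quad3, chk_quad4, Bool.and_self]

end Cfsg.Lib.SuzukiType.Local
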