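import Cfsg.Agent.SuzukiType.Local.Standard
import Cfsg.Agent.SuzukiType.Local.OuterOK
import Cfsg.Agent.LocalThree.HallJankoType.OrderFormula

/-!
The members of the first class in the centralizer of the involution, and those whose product with the involution of the
second class has the centre as central involution.
-/

set_option autoImplicit false
set_option maxRecDepth 100000
set_option maxHeartbeats 1000000
set_option linter.unusedSectionVars false

namespace Cfsg.Lib.SuzukiType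

open Subgroup Cfsg.Lib.SuzukiType.Code Cfsg.Lib.SuzukiType.Local Cfsg.Lib.SuzukiType.Local.Frm
open Cfsg.Lib.HallJankoType (pairInvol)

theorem bits_sign_chk : ∀ a b c d e f : Bool, ((List.range 64).any fun v => v.testBit 0 == a && v.testBit 1 == b &&
    v.testBit 2 == c && v.testBit 3 == d && v.testBit 4 == e && v.testBit 5 == f) = true := by decide +kernel

theorem bits_sign (a b c d e f : Bool) : ∃ v < 64, v.testBit 0 = a ∧ v.testBit 1 = b ∧ v.testBit 2 = c ∧
    v.testBit 3 = d ∧ v.testBit 4 = e ∧ v.testBit 5 = f := by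
  have h := bits_sign_chk a b c d e f
  simp only [List.any_eq_true, Bool.and_eq_true, beq_iff_eq, List.mem_range] at h
  obtain ⟨v, hv, ⟨⟨⟨⟨h0, h1⟩, h2⟩, h3⟩, h4⟩, h5⟩ := h
  exact ⟨v, hv, h0, h1, h2, h3, h4, h5⟩

theorem code_split : ∀ a < 128, a = (a &&& 63) ^^^ (bif a.testBit 6 then 64 else 0) := by decide +kernel

theorem one_cases : ∀ x < 64, sieg 1 0 x = x := by decide +kernel

universe u

variable {G : Type u} [Group G] [Finite G] {z : G}

namespace Std

variable (d : Std z)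

/-- The underlying map of a member of the first class outside the extraspecial group. -/
theorem under_sieg {y : G} (hy : Commute y z) (hz : IsConj z y) (hQ : y ∉ d.Q) :
    ∃ a b, a < 64 ∧ b < 64 ∧ qB a = false ∧ a ≠ 0 ∧ qB b = false ∧ b ≠ 0 ∧ a ≠ b ∧ pB a b = false ∧
      ∀ x < 64, cd (d.toCtx.m y) x = sieg a b x := by
  have hyy : y * y = 1 := by
    obtain ⟨g, hg⟩ := isConj_iff.mp hz
    rw [← hg, show g * z * g⁻¹ * (g * z * g⁻¹) = g * (z * z) * g⁻¹ by group, d.X.zz]; simp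
  obtain ⟨c, q, r, hc, hq, hr, e, hb⟩ := normal_form' d.toPt hy (Or.inl hyy) hQ
  have h2 : q * r * (q * r) = 1 := by
    rw [← e, show c * y * c⁻¹ * (c * y * c⁻¹) = c * (y * y) * c⁻¹ by group, hyy]; simp
  have hbq : qB (d.β r) = false := by
    rcases d.toSec.prod_class hq hr hb h2 with ⟨ha | ⟨-, hs⟩, -⟩ | ⟨-, -, -, ht⟩
    · have h := ((d.prod_sq hq hr).mp h2).2
      rw [h, ha]
      exact (by decide +kernel : ∀ w ∈ W, pB 0 w = false) _ (d.β_mem r)
    · exact hs
    · exact absurd ((hz.trans (isConj_iff.mpr ⟨c, e⟩)).trans ht.symm) d.not_conj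
  have hbW := d.β_mem r
  have hW := W_lt _ hbW
  set h := d.toCtx.m c with hh
  have hm : ∀ x < 64, cd (d.toCtx.m y) x = cd h⁻¹ (rho (d.β r) (cd h x)) := by
    intro x hx
    have hcyc : Commute (c * y * c⁻¹) z := (hc.mul_left hy).mul_left hc.inv_left
    have e1 : d.toCtx.m (c * y * c⁻¹) = d.toCtx.m r := by
      rw [e, d.toCtx.m_mul (d.A_T hq).1 hr.2, (d.toCtx.m_one_iff (d.A_T hq).1).mpr hq.1, one_mul]
    rw [d.toCtx.m_mul (hc.mul_left hy) hc.inv_left, d.toCtx.m_mul hc hy, d.toCtx.m_inv hc] at e1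
    have e2 : cd h (cd (d.toCtx.m y) x) = rho (d.β r) (cd h x) := by
      rw [← d.m_rho hr _ (cd_lt h x), ← e1, cd_mul, cd_mul, ← hh, cd_inv h hx]
    rw [← e2, cd_inv h (cd_lt _ _)]
  refine ⟨cd h⁻¹ 1, cd h⁻¹ (d.β r), cd_lt _ _, cd_lt _ _, ?_, ?_, ?_, ?_, ?_, ?_, fun x hx => ?_⟩
  · rw [cd_q _ (by norm_num)]; decide
  · intro e0
    have := congrArg (cd h) e0
    rw [cd_inv' h (by norm_num), cd_zero] at this
    exact one_ne_zero this
  · rw [cd_q _ hW.1]; exact hbq
  · intro e0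
    have := congrArg (cd h) e0
    rw [cd_inv' h hW.1, cd_zero] at this
    exact hb this
  · intro e0
    have := congrArg (cd h) e0
    rw [cd_inv' h (by norm_num), cd_inv' h hW.1] at this
    exact absurd (this ▸ hbW) (by decide)
  · rw [cd_p _ (by norm_num) hW.1]; exact hW.2.1
  · have hrs := List.all_eq_true.mp chk_rho_sieg _ hbW
    simp only [beq_eq_false_iff_ne.mpr hb, hbq, Bool.false_or, List.all_eq_true, List.mem_range, Nat.beq_eq] at hrs
    rw [hm x hx, hrs _ (cd_lt h x), sieg, sieg, cd_xor, cd_xor, cd_inv h hx, cd_bif, cd_bif]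
    have e1 : pB (d.β r) (cd h x) = pB (cd h⁻¹ (d.β r)) x := by
      conv_rhs => rw [← cd_inv h hx]
      rw [cd_p _ hW.1 (cd_lt h x)]
    have e2 : pB 1 (cd h x) = pB (cd h⁻¹ 1) x := by
      conv_rhs => rw [← cd_inv h hx]
      rw [cd_p _ (by norm_num) (cd_lt h x)]
    rw [e1, e2]

theorem φ_mem_ZI {y : G} (hy : Commute y z) (hz : IsConj z y) (hne : y ≠ z) : d.φ y ∈ ZI := by
  have hyy : y * y = 1 := by
    obtain ⟨g, hg⟩ := isConj_iff.mp hz
    rw [← hg, show g * z * g⁻¹ * (g * z * g⁻¹) = g * (z * z) * g⁻¹ by group, d.X.zz]; simp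
  by_cases hQ : y ∈ d.Q
  · have h := List.all_eq_true.mp chk_inn (d.π y) (List.mem_range'_1.mpr ⟨?_, by have := d.π_lt y; omega⟩)
    · rw [(d.π_sq y hQ).mp hyy, Bool.false_or, decide_eq_true_eq] at h
      exact (show d.φ y = inn (d.π y) from tup_Q d.toPt hQ).symm ▸ h
    · rw [Nat.one_le_iff_ne_zero]
      intro e
      rcases (d.π_zero y hQ).mp e with r | r
      · obtain ⟨g, hg⟩ := isConj_iff.mp hz
        exact d.X.ne (conj_eq_one_iff.mp (hg.trans r))
      · exact hne r
  · obtain ⟨a, b, ha, hb, hqa, ha0, hqb, hb0, hab, hp, hsieg⟩ := d.under_sieg hy hz hQ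
    have hl := List.all_eq_true.mp chk_lines a (List.mem_range.mpr ha)
    simp only [hqa, beq_eq_false_iff_ne.mpr ha0, Bool.false_or, List.all_eq_true] at hl
    have hl' := hl b (List.mem_range.mpr hb)
    simp only [hqb, beq_eq_false_iff_ne.mpr hb0, beq_eq_false_iff_ne.mpr hab, hp, Bool.false_or,
      List.any_eq_true] at hl'
    obtain ⟨w, hw, hw6⟩ := hl'
    obtain ⟨i, hi, hiw⟩ := List.mem_iff_getElem.mp hw
    have hi46 : i < 46 := chk_ZI.2.1 ▸ hi
    have hu : ∀ j < 6, cod d.toPt (y * gen d.toPt j * y⁻¹) &&& 63 = wact g1 w (2 ^ j) := by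
      intro j hj
      have hj64 : (2 : ℕ) ^ j < 64 := Nat.pow_lt_pow_right (by norm_num) hj
      have hs := List.all_eq_true.mp hw6 (2 ^ j) ((by decide : ∀ j < 6, 2 ^ j ∈ [1, 2, 4, 8, 16, 32]) j hj)
      rw [Nat.beq_eq] at hs
      rw [hs, ← cod_π d.toPt (d.toCtx.norm hy (gen_spec d.toPt j hj).1), d.toCtx.act hy (gen_spec d.toPt j hj).1,
        (gen_spec d.toPt j hj).2, hsieg _ hj64]
    have hcl : ∀ j : ℕ, cod d.toPt (y * gen d.toPt j * y⁻¹) < 128 := fun j => cod_lt d.toPt _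
    obtain ⟨v, hv, v0, v1, v2, v3, v4, v5⟩ := bits_sign ((cod d.toPt (y * gen d.toPt 0 * y⁻¹)).testBit 6)
      ((cod d.toPt (y * gen d.toPt 1 * y⁻¹)).testBit 6) ((cod d.toPt (y * gen d.toPt 2 * y⁻¹)).testBit 6)
      ((cod d.toPt (y * gen d.toPt 3 * y⁻¹)).testBit 6) ((cod d.toPt (y * gen d.toPt 4 * y⁻¹)).testBit 6)
      ((cod d.toPt (y * gen d.toPt 5 * y⁻¹)).testBit 6)
    have hmk : d.φ y = mkc (U46.getD i []) v := by
      rw [List.getD_eq_getElem _ _ hi, hiw]
      have h0 : cod d.toPt (y * gen d.toPt 0 * y⁻¹) &&& 63 = wact g1 w 1 := hu 0 (by norm_num)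
      have h1 : cod d.toPt (y * gen d.toPt 1 * y⁻¹) &&& 63 = wact g1 w 2 := hu 1 (by norm_num)
      have h2 : cod d.toPt (y * gen d.toPt 2 * y⁻¹) &&& 63 = wact g1 w 4 := hu 2 (by norm_num)
      have h3 : cod d.toPt (y * gen d.toPt 3 * y⁻¹) &&& 63 = wact g1 w 8 := hu 3 (by norm_num)
      have h4 : cod d.toPt (y * gen d.toPt 4 * y⁻¹) &&& 63 = wact g1 w 16 := hu 4 (by norm_num)
      have h5 : cod d.toPt (y * gen d.toPt 5 * y⁻¹) &&& 63 = wact g1 w 32 := hu 5 (by norm_num)
      show tup d.toPt y = _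
      simp only [tup, mkc]
      rw [v0, v1, v2, v3, v4, v5, ← h0, ← h1, ← h2, ← h3, ← h4, ← h5, ← code_split _ (hcl 0), ← code_split _ (hcl 1),
        ← code_split _ (hcl 2), ← code_split _ (hcl 3), ← code_split _ (hcl 4), ← code_split _ (hcl 5)]
    have hc := List.all_eq_true.mp chk_cand i (List.mem_range.mpr hi46)
    simp only [candOK, List.all_eq_true, List.mem_range, Bool.or_eq_true, Bool.not_eq_true',
      decide_eq_false_iff_not, decide_eq_true_eq] at hc
    rcases hc v hv with (h | h) | h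
    · exact absurd (by rw [← hmk]; exact d.φ_sq hy (Or.inl hyy)) h
    · rw [← hmk, (d.isZ_iff hy hyy).mpr ⟨hz, hne⟩] at h
      exact absurd h (by simp)
    · exact hmk ▸ h

theorem exists_lift {c : T6} (hc : c ∈ ZI) : ∃ y, Commute y z ∧ d.φ y = c := by
  rw [of_decide_eq_true chk_ZI.1, List.mem_map] at hc
  obtain ⟨e, he, rfl⟩ := hc
  have h := List.all_eq_true.mp chk_lift e he
  simp only [liftOK, Bool.and_eq_true, decide_eq_true_eq, List.all_eq_true, List.mem_range, Nat.beq_eq] at h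
  obtain ⟨hi, ⟨⟨⟨⟨⟨b0, b1⟩, b2⟩, b3⟩, b4⟩, b5⟩, hu⟩ := h
  refine d.exists_tup _ (by simp only [List.forall_mem_cons, List.not_mem_nil, IsEmpty.forall_iff, implies_true, and_true]
                            exact ⟨b0, b1, b2, b3, b4, b5⟩) (U46.getD e.1 []) ?_ hu
  intro j hj
  have hw : U46.getD e.1 [] ∈ U46 := by
    rw [List.getD_eq_getElem _ _ (by rw [chk_ZI.2.1]; exact hi)]; exact List.getElem_mem _
  exact decide_eq_true_eq.mp (List.all_eq_true.mp (List.all_eq_true.mp chk_ZI.2.2 _ hw) j hj)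

theorem φ_pow {x : G} (hx : Commute x z) : ∀ n : ℕ, d.φ (x ^ n) = tpw (d.φ x) n
  | 0 => by rw [pow_zero]; exact d.φ_one
  | n + 1 => by rw [pow_succ, d.φ_mul (hx.pow_left n) hx, φ_pow hx n]; rfl

theorem pair_good {p : G} (hp : Commute p z) {h : ℕ} (he : (d.φ p, h) ∈ ZH) :
    pairInvol p d.t = z ↔ good (d.φ p, h) = true := by
  have h0 := List.all_eq_true.mp chk_orders _ he
  simp only [ordOK, Bool.and_eq_true, decide_eq_true_eq, List.all_eq_true, Bool.not_eq_true',
    decide_eq_false_iff_not, List.mem_range'_1] at h0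
  obtain ⟨⟨hpos, hper⟩, hmin⟩ := h0
  set w := p * d.t with hw
  have hwC : Commute w z := hp.mul_left d.t_C
  have hφw : d.φ w = tm (d.φ p) T0 := by rw [hw, d.φ_mul hp d.t_C, d.φ_t]
  have hmin' : ∀ k, 1 ≤ k → k < 2 * h → d.φ (w ^ k) ≠ t1 := fun k h1 h2 => by
    rw [d.φ_pow hwC, hφw]; exact hmin k ⟨h1, by omega⟩
  have hdvd : ∀ o : ℕ, d.φ (w ^ o) = t1 → 2 * h ∣ o := by
    intro o ho
    have h2h : d.φ (w ^ (2 * h)) = t1 := by rw [d.φ_pow hwC, hφw, hper]
    have hq : d.φ ((w ^ (2 * h)) ^ (o / (2 * h))) = t1 := by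
      rcases tup_eq_one d.toPt (hwC.pow_left _) h2h with r | r <;> rw [r]
      · rw [one_pow]; exact d.φ_one
      · rcases Nat.even_or_odd (o / (2 * h)) with ⟨k, hk⟩ | ⟨k, hk⟩
        · rw [hk, ← two_mul, pow_mul, pow_two, d.X.zz, one_pow]; exact d.φ_one
        · rw [hk, pow_succ, pow_mul, pow_two, d.X.zz, one_pow, one_mul]; exact d.φ_z
    have hmod : d.φ (w ^ (o % (2 * h))) = t1 := by
      have e : w ^ o = (w ^ (2 * h)) ^ (o / (2 * h)) * w ^ (o % (2 * h)) := by
        rw [← pow_mul, ← pow_add, Nat.div_add_mod]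
      rw [e, d.φ_mul ((hwC.pow_left _).pow_left _) (hwC.pow_left _), hq, ← d.φ_one,
        ← d.φ_mul (Commute.one_left z) (hwC.pow_left _), one_mul] at ho
      exact ho.trans d.φ_one
    refine Nat.dvd_of_mod_eq_zero ?_
    by_contra hne
    exact hmin' _ (Nat.pos_of_ne_zero hne) (Nat.mod_lt _ (by omega)) hmod
  have ho := hdvd (orderOf w) (by rw [pow_orderOf_eq_one]; exact d.φ_one)
  show (w ^ (orderOf w / 2)) = z ↔ _
  simp only [good, Bool.not_eq_true', ← hφw, ← d.φ_pow hwC]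
  have hwh2 : w ^ h * w ^ h = 1 ∨ w ^ h * w ^ h = z := by
    refine tup_eq_one d.toPt ((hwC.pow_left h).mul_left (hwC.pow_left h)) ?_
    rw [← pow_add, ← two_mul]
    show d.φ _ = t1
    rw [d.φ_pow hwC, hφw, hper]
  rcases hwh2 with r | r
  · have hoeq : orderOf w = 2 * h :=
      Nat.dvd_antisymm (orderOf_dvd_of_pow_eq_one (by rw [two_mul, pow_add, r])) ho
    refine iff_of_false ?_ ?_
    · rw [hoeq, Nat.mul_div_cancel_left _ (by norm_num)]
      intro e
      exact hmin' h (by omega) (by omega) (by rw [e]; exact d.φ_z)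
    · rw [d.sq1_complete (hwC.pow_left h) r]; simp
  · have hoeq : orderOf w = 4 * h := by
      have h4 : orderOf w ∣ 4 * h := orderOf_dvd_of_pow_eq_one (by
        rw [show 4 * h = (h + h) + (h + h) by ring, pow_add, pow_add, r, d.X.zz])
      obtain ⟨j, hj⟩ := ho
      have hj2 : j ∣ 2 := by
        refine Nat.dvd_of_mul_dvd_mul_left (show 0 < 2 * h by omega) ?_
        rw [← hj, show 2 * h * 2 = 4 * h by ring]
        exact h4
      rcases (Nat.dvd_prime Nat.prime_two).mp hj2 with r' | r'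
      · exfalso
        rw [r', mul_one] at hj
        have := pow_orderOf_eq_one w
        rw [hj, two_mul, pow_add, r] at this
        exact d.X.ne this
      · rw [hj, r']; ring
    refine iff_of_true ?_ ?_
    · rw [hoeq, show 4 * h / 2 = h + h by omega, pow_add, r]
    · by_contra hs
      rw [Bool.not_eq_false] at hs
      exact d.X.ne ((d.sq1_sound (hwC.pow_left h) hs).symm.trans r).symm

/-- The fibre over the standard involution of the second class. -/
theorem card_fibre :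
    Nat.card {p : G // IsConj z p ∧ Commute p z ∧ pairInvol p d.t = z} = 236 := by
  classical
  let T := {e : T6 × ℕ // e ∈ ZH.filter good}
  have hfst : ∀ e ∈ ZH, e.1 ∈ ZI := fun e he => ZH_fst ▸ List.mem_map_of_mem he
  choose sel hC hφ using fun e : T => d.exists_lift (hfst e.1 (List.mem_filter.mp e.2).1)
  have hP : ∀ (b : Bool) (e : T), Commute ((bif b then z else 1) * sel e) z ∧
      d.φ ((bif b then z else 1) * sel e) = e.1.1 := by
    intro b e
    cases b
    · rw [cond_false, one_mul]; exact ⟨hC e, hφ e⟩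
    · rw [cond_true]
      refine ⟨(Commute.refl z).mul_left (hC e), ?_⟩
      rw [d.φ_mul (Commute.refl z) (hC e), d.φ_z, ← d.φ_one, ← d.φ_mul (Commute.one_left z) (hC e), one_mul]
      exact hφ e
  have hkind : ∀ c ∈ ZI, tm c c = t1 ∧ isZ c = true ∧ c ≠ t1 := fun c hc => by
    have h := List.all_eq_true.mp chk_kind c hc
    simp only [kindOK, Bool.and_eq_true, decide_eq_true_eq, Bool.not_eq_true', decide_eq_false_iff_not] at h
    exact ⟨h.1.1, h.1.2, h.2⟩
  let f : Bool × T → {p : G // IsConj z p ∧ Commute p z ∧ pairInvol p d.t = z} := fun u =>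
    ⟨(bif u.1 then z else 1) * sel u.2, by
      obtain ⟨h1, h2⟩ := hP u.1 u.2
      obtain ⟨hm, hg⟩ := List.mem_filter.mp u.2.2
      obtain ⟨k1, k2, -⟩ := hkind _ (hfst _ hm)
      refine ⟨(d.isZ_sound h1 (by rw [h2]; exact k1) (by rw [h2]; exact k2)).2.1, h1,
        (d.pair_good h1 (h := u.2.1.2) (by rw [h2]; exact hm)).mpr (by rw [h2]; exact hg)⟩⟩
  have hnd : ZH.Nodup := List.Nodup.of_map Prod.fst (ZH_fst ▸ ZI_nodup)
  have hf : Function.Bijective f := by
    constructor
    · rintro ⟨b, e⟩ ⟨b', e'⟩ r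
      have r' : (bif b then z else 1) * sel e = (bif b' then z else 1) * sel e' := congrArg Subtype.val r
      have h1 : e.1.1 = e'.1.1 := by rw [← (hP b e).2, ← (hP b' e').2, r']
      have hee : e = e' := Subtype.ext (List.inj_on_of_nodup_map (f := Prod.fst) (ZH_fst ▸ ZI_nodup)
        (List.mem_filter.mp e.2).1 (List.mem_filter.mp e'.2).1 h1)
      subst hee
      have r'' := mul_right_cancel r'
      revert r''
      cases b <;> cases b' <;> simp [d.X.ne, Ne.symm d.X.ne]
    · rintro ⟨p, hp, hpz, hpi⟩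
      have hpt : p ≠ z := by
        intro r
        subst r
        have hsq : p * d.t * (p * d.t) = 1 := by rw [d.t_C.mul_mul_mul_comm, d.X.zz, d.t_sq, one_mul]
        have hne : p * d.t ≠ 1 := fun e =>
          d.not_conj (isConj_iff.mpr ⟨1, by simpa using (inv_eq_of_mul_eq_one_right d.X.zz).symm.trans (inv_eq_of_mul_eq_one_right e)⟩)
        rw [pairInvol, Cfsg.Lib.InvolCalc.order_two_of_mul_self hsq hne, show 2 / 2 = 1 from rfl, pow_one] at hpi
        exact d.t_ne (mul_eq_left.mp hpi)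
      have hm := d.φ_mem_ZI hpz hp hpt
      rw [← ZH_fst, List.mem_map] at hm
      obtain ⟨⟨c, h⟩, hh, rfl⟩ := hm
      have hg := (d.pair_good hpz hh).mp hpi
      rcases d.φ_eq (hC ⟨_, List.mem_filter.mpr ⟨hh, hg⟩⟩) hpz (hφ _) with r | r
      · exact ⟨(false, ⟨_, List.mem_filter.mpr ⟨hh, hg⟩⟩), Subtype.ext (by show 1 * _ = p; rw [one_mul]; exact r.symm)⟩
      · exact ⟨(true, ⟨_, List.mem_filter.mpr ⟨hh, hg⟩⟩), Subtype.ext r.symm⟩
  have hT : Nat.card T = 118 := by
    rw [Nat.card_congr (Equiv.subtypeEquivRight fun a => (List.mem_toFinset).symm), Nat.card_eq_finsetCard,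
      List.toFinset_card_of_nodup (hnd.filter _), ← List.countP_eq_length_filter, chk_count]
  rw [← Nat.card_congr (Equiv.ofBijective f hf), Nat.card_prod, hT]
  simp

end Std

end Cfsg.Lib.SuzukiType
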