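import Cfsg.Agent.SuzukiType.Local.Checks

/-!
The images of the members of the first class in the centralizer of the involution.
-/

set_option autoImplicit false
set_option maxRecDepth 100000
set_option maxHeartbeats 8000000

namespace Cfsg.Lib.SuzukiType.Local

open Cfsg.Lib.SuzukiType.Code

/-- Words for the trivial map and the transvections of singular lines. -/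
def U46 : List (List ℕ) := [[], [2, 0, 0, 2, 0, 0], [2, 1, 1, 2, 1, 1], [0, 2, 1, 1, 2, 1, 1, 0, 0], [0, 0, 2, 1, 1, 2, 1, 1, 0], [1, 1, 2, 0, 0, 2, 0, 0, 1], [1, 2, 0, 0, 2, 0, 0, 1, 1], [1, 1, 0, 2, 1, 0, 0, 1, 2, 0], [2, 0, 1, 1, 0, 2, 1, 0, 0, 1], [2, 0, 1, 0, 2, 0, 1, 0, 2, 1], [2, 1, 0, 1, 2, 1, 0, 1, 2, 0], [1, 0, 2, 0, 1, 0, 1, 2, 1, 0], [0, 1, 2, 0, 1, 1, 0, 2, 1, 0], [1, 2, 0, 1, 1, 0, 2, 1, 0, 0], [1, 2, 0, 1, 0, 2, 0, 1, 0, 2], [1, 0, 2, 1, 0, 0, 1, 2, 0, 1], [2, 1, 0, 0, 1, 2, 0, 1, 1, 0], [0, 2, 1, 0, 0, 1, 2, 0, 1, 1], [0, 2, 1, 0, 1, 2, 1, 0, 1, 2], [0, 0, 1, 2, 0, 1, 1, 0, 2, 1], [0, 1, 2, 1, 0, 1, 0, 2, 0, 1], [1, 1, 0, 2, 1, 1, 2, 1, 1, 0, 0, 1], [1, 2, 2, 0, 1, 2, 2, 0, 1, 2, 2, 0], [0, 0,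 1, 2, 0, 0, 2, 0, 0, 1, 1, 0], [2, 1, 0, 2, 2, 0, 1, 1, 2, 2, 1, 1], [2, 2, 0, 0, 1, 2, 2, 1, 0, 2, 0, 0], [2, 0, 1, 0, 2, 0, 1, 0, 2, 0, 1, 0], [0, 2, 0, 1, 0, 2, 0, 1, 0, 2, 0, 1], [1, 0, 2, 0, 1, 0, 2, 0, 1, 0, 2, 0], [1, 0, 1, 2, 1, 0, 1, 2, 1, 0, 1, 2], [2, 2, 1, 1, 0, 2, 2, 0, 1, 2, 1, 1], [0, 1, 0, 2, 0, 1, 0, 2, 0, 1, 0, 2], [2, 0, 1, 2, 2, 1, 0, 0, 2, 2, 0, 0], [0, 1, 1, 2, 0, 0, 2, 0, 0, 1, 0, 0], [1, 2, 1, 0, 1, 2, 1, 0, 1, 2, 1, 0], [0, 2, 2, 0, 1, 2, 2, 1, 0, 2, 2, 0], [2, 1, 0, 1, 2, 1, 0, 1, 2, 1, 0, 1], [2, 2, 1, 0, 2, 2, 1, 0, 2, 2, 1, 0], [1, 0, 0, 2, 1, 1, 2, 1, 1, 0, 1, 1], [2, 2, 1, 1, 0, 2, 1, 0, 0, 1, 0, 2, 0], [2, 0, 1, 0, 0, 1, 2, 0, 1, 1, 2, 2, 0], [2, 1, 1, 2, 1, 0, 1, 2, 0, 1, 2, 2,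 0], [2, 0, 0, 2, 1, 0, 2, 1, 0, 2, 2, 1, 0], [2, 1, 0, 1, 1, 0, 2, 1, 0, 0, 2, 2, 1], [1, 2, 2, 0, 1, 2, 0, 1, 2, 0, 0, 2, 0], [1, 1, 2, 0, 1, 0, 2, 1, 1, 0, 0, 2, 0, 0]]

/-- The images. -/
def ZI : List T6 := [⟨65, 2, 4, 8, 16, 32⟩, ⟨1, 66, 4, 8, 16, 32⟩, ⟨65, 66, 4, 8, 16, 32⟩, ⟨1, 2, 68, 8, 16, 32⟩, ⟨1, 66, 68, 8, 16, 32⟩, ⟨1, 2, 4, 72, 16, 32⟩, ⟨65, 2, 4, 72, 16, 32⟩, ⟨1, 2, 68, 72, 16, 32⟩, ⟨65, 66, 68, 72, 16, 32⟩, ⟨65, 2, 68, 8, 80, 32⟩, ⟨65, 66, 68, 8, 80, 32⟩, ⟨1, 66, 4, 72, 80, 32⟩, ⟨65, 66, 4, 72, 80, 32⟩, ⟨65, 2, 68, 72, 80, 32⟩, ⟨1, 66, 68, 72, 80, 32⟩, ⟨65, 2, 68, 8, 16, 96⟩, ⟨65, 66, 68, 8, 16, 96⟩, ⟨1, 66, 4, 72, 16, 96⟩, ⟨65, 66, 4, 72, 16, 96⟩, ⟨65, 2, 68, 72, 16, 96⟩, ⟨1, 66, 68, 72, 16, 96⟩,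 ⟨65, 2, 68, 8, 80, 96⟩, ⟨65, 66, 68, 8, 80, 96⟩, ⟨1, 66, 4, 72, 80, 96⟩, ⟨65, 66, 4, 72, 80, 96⟩, ⟨65, 2, 68, 72, 80, 96⟩, ⟨1, 66, 68, 72, 80, 96⟩, ⟨1, 3, 62, 9, 17, 33⟩, ⟨1, 3, 126, 9, 17, 33⟩, ⟨1, 67, 62, 73, 81, 97⟩, ⟨1, 67, 126, 73, 81, 97⟩, ⟨106, 119, 90, 125, 14, 11⟩, ⟨106, 55, 26, 61, 78, 11⟩, ⟨42, 55, 90, 61, 14, 75⟩, ⟨42, 119, 26, 125, 78, 75⟩, ⟨2, 1, 106, 37, 19, 32⟩, ⟨2, 1, 42, 101, 19, 32⟩, ⟨66, 65, 42, 37, 83, 32⟩, ⟨66, 65, 106, 101, 83, 32⟩, ⟨26, 4, 2, 21, 16, 38⟩, ⟨90, 4, 2, 85, 16, 38⟩, ⟨90, 68, 66, 21, 16, 102⟩, ⟨26, 68, 66, 85, 16, 102⟩, ⟨90, 21, 8, 4, 16, 44⟩, ⟨26, 85, 8, 4, 16, 44⟩, ⟨26, 21, 72, 68, 16, 108⟩, ⟨90, 85, 72, 68, 16, 108⟩, ⟨91, 117, 94, 101, 10, 13⟩, ⟨27, 53, 30, 101, 74, 13⟩,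 ⟨91, 53, 94, 37, 10, 77⟩, ⟨27, 117, 30, 37, 74, 77⟩, ⟨1, 3, 30, 9, 16, 33⟩, ⟨1, 3, 94, 9, 16, 33⟩, ⟨1, 67, 30, 73, 16, 97⟩, ⟨1, 67, 94, 73, 16, 97⟩, ⟨1, 3, 46, 9, 17, 32⟩, ⟨1, 3, 110, 9, 17, 32⟩, ⟨1, 67, 46, 73, 81, 32⟩, ⟨1, 67, 110, 73, 81, 32⟩, ⟨3, 2, 4, 12, 16, 32⟩, ⟨67, 2, 4, 12, 16, 32⟩, ⟨3, 2, 4, 76, 16, 32⟩, ⟨67, 2, 4, 76, 16, 32⟩, ⟨3, 2, 6, 29, 16, 34⟩, ⟨3, 2, 6, 93, 16, 34⟩, ⟨67, 2, 70, 29, 16, 98⟩, ⟨67, 2, 70, 93, 16, 98⟩, ⟨2, 1, 8, 4, 16, 32⟩, ⟨66, 65, 8, 4, 16, 32⟩, ⟨2, 1, 72, 68, 16, 32⟩, ⟨66, 65, 72, 68, 16, 32⟩, ⟨2, 1, 90, 21, 16, 35⟩, ⟨2, 1, 26, 85, 16, 35⟩, ⟨66, 65, 26, 21, 16, 99⟩, ⟨66, 65, 90, 85, 16, 99⟩, ⟨42, 4, 2, 37, 22, 32⟩, ⟨106, 4, 2, 101, 22, 32⟩, ⟨106, 68, 66, 37, 86, 32⟩, ⟨42, 68,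 66, 101, 86, 32⟩, ⟨8, 37, 42, 1, 25, 32⟩, ⟨8, 101, 106, 1, 25, 32⟩, ⟨72, 101, 42, 65, 89, 32⟩, ⟨72, 37, 106, 65, 89, 32⟩, ⟨122, 53, 8, 4, 28, 44⟩, ⟨58, 117, 8, 4, 28, 44⟩, ⟨58, 53, 72, 68, 92, 108⟩, ⟨122, 117, 72, 68, 92, 108⟩, ⟨59, 55, 62, 61, 31, 47⟩, ⟨123, 119, 126, 125, 31, 47⟩, ⟨123, 55, 126, 61, 95, 111⟩, ⟨59, 119, 62, 125, 95, 111⟩, ⟨59, 85, 62, 101, 7, 13⟩, ⟨123, 21, 126, 101, 71, 13⟩, ⟨123, 85, 126, 37, 7, 77⟩, ⟨59, 21, 62, 37, 71, 77⟩, ⟨91, 101, 94, 53, 10, 7⟩, ⟨27, 101, 30, 117, 74, 7⟩, ⟨91, 37, 94, 117, 10, 71⟩, ⟨27, 37, 30, 53, 74, 71⟩, ⟨90, 55, 106, 61, 11, 14⟩, ⟨26, 119, 106, 125, 75, 14⟩, ⟨90, 119, 42, 125, 11, 78⟩, ⟨26, 55, 42, 61, 75, 78⟩, ⟨107, 53, 110, 85, 13, 10⟩, ⟨107, 117, 110, 21, 77,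 10⟩, ⟨43, 117, 46, 85, 13, 74⟩, ⟨43, 53, 46, 21, 77, 74⟩, ⟨1, 2, 6, 9, 16, 32⟩, ⟨1, 2, 70, 9, 16, 32⟩, ⟨1, 2, 6, 73, 16, 32⟩, ⟨1, 2, 70, 73, 16, 32⟩, ⟨3, 2, 6, 45, 18, 32⟩, ⟨3, 2, 6, 109, 18, 32⟩, ⟨67, 2, 70, 45, 82, 32⟩, ⟨67, 2, 70, 109, 82, 32⟩, ⟨3, 2, 6, 61, 18, 34⟩, ⟨3, 2, 6, 125, 18, 34⟩, ⟨67, 2, 70, 61, 82, 98⟩, ⟨67, 2, 70, 125, 82, 98⟩, ⟨2, 1, 122, 53, 19, 35⟩, ⟨2, 1, 58, 117, 19, 35⟩, ⟨66, 65, 58, 53, 83, 99⟩, ⟨66, 65, 122, 117, 83, 99⟩, ⟨9, 6, 4, 8, 16, 32⟩, ⟨73, 6, 4, 8, 16, 32⟩, ⟨9, 70, 4, 8, 16, 32⟩, ⟨73, 70, 4, 8, 16, 32⟩, ⟨27, 6, 4, 12, 16, 36⟩, ⟨91, 6, 4, 12, 16, 36⟩, ⟨27, 70, 4, 76, 16, 100⟩, ⟨91, 70, 4, 76, 16, 100⟩, ⟨43, 6, 4, 12, 20, 32⟩, ⟨107, 6, 4, 12, 20, 32⟩, ⟨43, 70, 4, 76, 84, 32⟩, ⟨107,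 70, 4, 76, 84, 32⟩, ⟨8, 4, 2, 1, 16, 32⟩, ⟨8, 68, 66, 1, 16, 32⟩, ⟨72, 4, 2, 65, 16, 32⟩, ⟨72, 68, 66, 65, 16, 32⟩, ⟨58, 4, 2, 53, 22, 38⟩, ⟨122, 4, 2, 117, 22, 38⟩, ⟨122, 68, 66, 53, 86, 102⟩, ⟨58, 68, 66, 117, 86, 102⟩, ⟨9, 23, 12, 8, 16, 40⟩, ⟨9, 87, 12, 8, 16, 40⟩, ⟨73, 23, 76, 8, 16, 104⟩, ⟨73, 87, 76, 8, 16, 104⟩, ⟨8, 21, 26, 1, 16, 41⟩, ⟨8, 85, 90, 1, 16, 41⟩, ⟨72, 85, 26, 65, 16, 105⟩, ⟨72, 21, 90, 65, 16, 105⟩, ⟨8, 53, 58, 1, 25, 41⟩, ⟨8, 117, 122, 1, 25, 41⟩, ⟨72, 117, 58, 65, 89, 105⟩, ⟨72, 53, 122, 65, 89, 105⟩, ⟨106, 37, 8, 4, 28, 32⟩, ⟨42, 101, 8, 4, 28, 32⟩, ⟨42, 37, 72, 68, 92, 32⟩, ⟨106, 101, 72, 68, 92, 32⟩, ⟨27, 23, 30, 29, 16, 47⟩, ⟨91, 87, 94, 93, 16, 47⟩, ⟨91, 23, 94, 29, 16, 111⟩, ⟨27,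 87, 30, 93, 16, 111⟩, ⟨43, 39, 46, 45, 31, 32⟩, ⟨107, 103, 110, 109, 31, 32⟩, ⟨107, 39, 110, 45, 95, 32⟩, ⟨43, 103, 46, 109, 95, 32⟩, ⟨122, 87, 106, 93, 5, 14⟩, ⟨58, 23, 106, 29, 69, 14⟩, ⟨58, 87, 42, 93, 5, 78⟩, ⟨122, 23, 42, 29, 69, 78⟩, ⟨107, 85, 110, 117, 7, 10⟩, ⟨107, 21, 110, 53, 71, 10⟩, ⟨43, 85, 46, 53, 7, 74⟩, ⟨43, 21, 46, 117, 71, 74⟩, ⟨123, 101, 126, 85, 13, 7⟩, ⟨59, 101, 62, 21, 77, 7⟩, ⟨59, 37, 62, 85, 13, 71⟩, ⟨123, 37, 126, 21, 77, 71⟩, ⟨1, 3, 12, 8, 16, 32⟩, ⟨1, 67, 12, 8, 16, 32⟩, ⟨1, 3, 76, 8, 16, 32⟩, ⟨1, 67, 76, 8, 16, 32⟩, ⟨59, 6, 4, 12, 20, 36⟩, ⟨123, 6, 4, 12, 20, 36⟩, ⟨59, 70, 4, 76, 84, 100⟩, ⟨123, 70, 4, 76, 84, 100⟩, ⟨9, 39, 12, 8, 24, 32⟩, ⟨9, 103, 12, 8, 24, 32⟩, ⟨73, 39, 76, 8, 88,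 32⟩, ⟨73, 103, 76, 8, 88, 32⟩, ⟨9, 55, 12, 8, 24, 40⟩, ⟨9, 119, 12, 8, 24, 40⟩, ⟨73, 55, 76, 8, 88, 104⟩, ⟨73, 119, 76, 8, 88, 104⟩, ⟨106, 87, 58, 93, 5, 11⟩, ⟨106, 23, 122, 29, 69, 11⟩, ⟨42, 87, 122, 93, 5, 75⟩, ⟨42, 23, 58, 29, 69, 75⟩, ⟨90, 103, 122, 109, 11, 5⟩, ⟨26, 103, 58, 109, 75, 5⟩, ⟨90, 39, 58, 45, 11, 69⟩, ⟨26, 39, 122, 45, 75, 69⟩, ⟨58, 103, 90, 109, 14, 5⟩, ⟨122, 103, 26, 109, 78, 5⟩, ⟨122, 39, 90, 45, 14, 69⟩, ⟨58, 39, 26, 45, 78, 69⟩]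

/-- For each image the underlying word, the signs, and half the order of the product with the standard image. -/
def Zw : List (ℕ × ℕ × ℕ) := [(0, 1, 2), (0, 2, 2), (0, 3, 2), (0, 4, 1), (0, 6, 2), (0, 8, 1), (0, 9, 2), (0, 12, 1), (0, 15, 2), (0, 21, 2), (0, 23, 2), (0, 26, 1), (0, 27, 2), (0, 29, 2), (0, 30, 1), (0, 37, 2), (0, 39, 2), (0, 42, 2), (0, 43, 2), (0, 45, 2), (0, 46, 2), (0, 53, 2), (0, 55, 2), (0, 58, 1), (0, 59, 2), (0, 61, 2), (0, 62, 1), (1, 0, 1), (1, 4, 1), (1, 58, 1), (1, 62, 1), (2, 15, 4), (2, 17, 4), (2, 36, 4), (2, 58, 4), (3, 4, 2), (3, 8, 2), (3, 19, 2), (3, 31, 2), (4, 0, 3), (4, 9, 3), (4, 39, 3), (4, 46, 3), (5, 1, 3), (5, 2, 3), (5, 44, 3), (5, 47, 3), (6, 15, 3), (6, 24, 3), (6,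 37, 3), (6, 50, 3), (7, 0, 1), (7, 4, 1), (7, 42, 2), (7, 46, 2), (8, 0, 1), (8, 4, 1), (8, 26, 1), (8, 30, 1), (9, 0, 2), (9, 1, 2), (9, 8, 2), (9, 9, 2), (10, 0, 2), (10, 8, 2), (10, 37, 2), (10, 45, 2), (11, 0, 2), (11, 3, 2), (11, 12, 2), (11, 15, 2), (12, 4, 2), (12, 8, 2), (12, 35, 2), (12, 47, 2), (13, 0, 4), (13, 9, 4), (13, 23, 4), (13, 30, 4), (14, 0, 3), (14, 6, 3), (14, 27, 3), (14, 29, 3), (15, 1, 4), (15, 2, 4), (15, 60, 4), (15, 63, 4), (16, 0, 4), (16, 15, 4), (16, 53, 4), (16, 58, 4), (17, 10, 4), (17, 29, 4), (17, 39, 4), (17, 48, 4), (18, 7, 3), (18, 26, 3), (18, 45, 3), (18, 48, 3), (19, 5, 3), (19, 30, 3), (19, 43, 3), (19, 48, 3), (20, 13, 4), (20, 23, 4), (20, 42, 4), (20, 48, 4), (21,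 0, 2), (21, 4, 2), (21, 8, 2), (21, 12, 2), (22, 0, 2), (22, 8, 2), (22, 21, 2), (22, 29, 2), (23, 0, 2), (23, 8, 2), (23, 53, 2), (23, 61, 2), (24, 4, 2), (24, 8, 2), (24, 51, 2), (24, 63, 2), (25, 0, 3), (25, 1, 3), (25, 2, 3), (25, 3, 3), (26, 0, 3), (26, 1, 3), (26, 42, 3), (26, 43, 3), (27, 0, 4), (27, 1, 4), (27, 26, 4), (27, 27, 4), (28, 0, 3), (28, 6, 3), (28, 9, 3), (28, 15, 3), (29, 0, 4), (29, 9, 4), (29, 55, 4), (29, 62, 4), (30, 0, 3), (30, 2, 3), (30, 37, 3), (30, 39, 3), (31, 0, 3), (31, 6, 3), (31, 43, 3), (31, 45, 3), (32, 0, 3), (32, 6, 3), (32, 59, 3), (32, 61, 3), (33, 1, 4), (33, 2, 4), (33, 28, 4), (33, 31, 4), (34, 0, 3), (34, 15, 3), (34, 37, 3), (34, 42, 3), (35, 0, 4), (35, 15, 4), (35,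 21, 4), (35, 26, 4), (36, 15, 4), (36, 20, 4), (36, 42, 4), (36, 49, 4), (37, 15, 4), (37, 21, 4), (37, 34, 4), (37, 56, 4), (38, 15, 4), (38, 18, 4), (38, 40, 4), (38, 53, 4), (39, 0, 2), (39, 2, 1), (39, 4, 2), (39, 6, 1), (40, 0, 4), (40, 1, 4), (40, 58, 4), (40, 59, 4), (41, 0, 3), (41, 2, 3), (41, 21, 3), (41, 23, 3), (42, 0, 3), (42, 2, 3), (42, 53, 3), (42, 55, 3), (43, 11, 4), (43, 21, 4), (43, 46, 4), (43, 48, 4), (44, 15, 3), (44, 26, 3), (44, 33, 3), (44, 52, 3), (45, 14, 4), (45, 27, 4), (45, 37, 4), (45, 48, 4)]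

/-- An image with given underlying word and signs. -/
def mkc (w : List ℕ) (v : ℕ) : T6 :=
  ⟨wact g1 w 1 ^^^ (bif v.testBit 0 then 64 else 0), wact g1 w 2 ^^^ (bif v.testBit 1 then 64 else 0),
    wact g1 w 4 ^^^ (bif v.testBit 2 then 64 else 0), wact g1 w 8 ^^^ (bif v.testBit 3 then 64 else 0),
    wact g1 w 16 ^^^ (bif v.testBit 4 then 64 else 0), wact g1 w 32 ^^^ (bif v.testBit 5 then 64 else 0)⟩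

/-- Powers. -/
def tpw (a : T6) : ℕ → T6
  | 0 => t1
  | n + 1 => tm (tpw a n) a

/-- The transvection of a singular line. -/
def sieg (a b x : ℕ) : ℕ := x ^^^ (bif pB b x then a else 0) ^^^ (bif pB a x then b else 0)

/-- The product with the standard image has central involution the centre. -/
def good (e : T6 × ℕ) : Bool := !sq1 (tpw (tm e.1 T0) e.2)

/-- The images with half orders. -/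
def ZH : List (T6 × ℕ) := ZI.zip (Zw.map fun e => e.2.2)

end Cfsg.Lib.SuzukiType.Local
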