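import Cfsg.Agent.SuzukiType.Local.Coset

/-!
The centralizer of the second involution modulo the four-group.
-/

set_option autoImplicit false
set_option maxRecDepth 100000
set_option maxHeartbeats 1000000
set_option linter.unusedSectionVars false
set_option linter.style.haveILetI false

namespace Cfsg.Lib.SuzukiType

open Subgroup Cfsg.Lib.SuzukiType.Code Cfsg.Lib.SuzukiType.Local Cfsg.Lib.SuzukiType.Local.Frm

universe u

variable {G : Type u} [Group G] [Finite G] {z : G}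

namespace Four

variable (d : Four z)

/-- The four-group inside the centralizer. -/
def Usub : Subgroup ↥d.Ct := d.U.subgroupOf d.Ct

instance normal_Usub : d.Usub.Normal :=
  ⟨fun n hn c => mem_subgroupOf.mpr (d.Ct_U (d.mem_Ct.mp c.2) (mem_subgroupOf.mp hn))⟩

/-- The centralizer modulo the four-group. -/
abbrev K : Type u := ↥d.Ct ⧸ d.Usub

/-- The image of an element commuting with the second involution. -/
def pr (x : G) (hx : Commute x d.t) : d.K := QuotientGroup.mk' d.Usub ⟨x, d.mem_Ct.mpr hx⟩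

theorem pr_eq {a b : G} (ha : Commute a d.t) (hb : Commute b d.t) : d.pr a ha = d.pr b hb ↔ a⁻¹ * b ∈ d.U := by
  rw [pr, pr, QuotientGroup.mk'_apply, QuotientGroup.mk'_apply, QuotientGroup.eq, Usub, mem_subgroupOf]
  exact Iff.rfl

theorem pr_mul {a b : G} (ha : Commute a d.t) (hb : Commute b d.t) :
    d.pr a ha * d.pr b hb = d.pr (a * b) (ha.mul_left hb) := by
  rw [pr, pr, pr, ← map_mul]; rfl

theorem pr_inv {a : G} (ha : Commute a d.t) : (d.pr a ha)⁻¹ = d.pr a⁻¹ ha.inv_left := by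
  rw [pr, pr, ← map_inv]; rfl

theorem pr_conj {a b : G} (ha : Commute a d.t) (hb : Commute b d.t) :
    d.pr a ha * d.pr b hb * (d.pr a ha)⁻¹ = d.pr (a * b * a⁻¹) ((ha.mul_left hb).mul_left ha.inv_left) := by
  rw [d.pr_inv ha, d.pr_mul ha hb, d.pr_mul (ha.mul_left hb) ha.inv_left]

theorem pr_one_iff {a : G} (ha : Commute a d.t) : d.pr a ha = 1 ↔ a ∈ d.U := by
  rw [pr, QuotientGroup.mk'_apply, QuotientGroup.eq_one_iff, Usub, mem_subgroupOf]

theorem pr_surj (k : d.K) : ∃ a, ∃ ha : Commute a d.t, d.pr a ha = k := by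
  obtain ⟨⟨a, ha⟩, rfl⟩ := QuotientGroup.mk'_surjective d.Usub k
  exact ⟨a, d.mem_Ct.mp ha, rfl⟩

/-- The image of the first involution. -/
def zb : d.K := d.pr z d.t_C.symm

/-- The image of the outer involution. -/
def yb : d.K := d.pr d.y d.y_t

theorem zb_sq : d.zb * d.zb = 1 := by
  rw [zb, d.pr_mul, d.pr_one_iff, d.X.zz]; exact one_mem _

theorem yb_sq : d.yb * d.yb = 1 := by
  rw [yb, d.pr_mul, d.pr_one_iff, d.y_sq]; exact one_mem _

theorem zb_ne : d.zb ≠ 1 := by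
  rw [Ne, zb, d.pr_one_iff]
  exact fun h => d.U_not_Tri h (Or.inl rfl)

theorem yb_ne : d.yb ≠ 1 := by
  rw [Ne, yb, d.pr_one_iff]
  exact fun h => d.y_not_u (d.U_comm h d.u_U)

theorem comm_zy : Commute d.zb d.yb := by
  show d.zb * d.yb = d.yb * d.zb
  simp only [zb, yb, d.pr_mul, d.y_C.eq]

/-- The image of the centralizer of the four-group. -/
def Db : Subgroup d.K := ((centralizer ({d.u} : Set G)).subgroupOf d.Ct).map (QuotientGroup.mk' d.Usub)

theorem mem_Db {a : G} (ha : Commute a d.t) : d.pr a ha ∈ d.Db ↔ Commute a d.u := by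
  constructor
  · rintro ⟨⟨b, hb⟩, hbu, e⟩
    have hb' : Commute b d.u := mem_centralizer_singleton_iff.mp (mem_subgroupOf.mp hbu)
    have hv := (d.pr_eq (d.mem_Ct.mp hb) ha).mp e
    have := hb'.mul_left (d.U_comm hv d.u_U)
    rwa [mul_inv_cancel_left] at this
  · intro h
    exact ⟨⟨a, d.mem_Ct.mpr ha⟩, mem_subgroupOf.mpr (mem_centralizer_singleton_iff.mpr h), rfl⟩

instance normal_Db : d.Db.Normal := by
  refine ⟨fun k hk c => ?_⟩
  obtain ⟨a, ha, rfl⟩ := d.pr_surj k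
  obtain ⟨b, hb, rfl⟩ := d.pr_surj c
  rw [d.pr_conj hb ha, d.mem_Db]
  have h := (d.mem_Db ha).mp hk
  rcases d.normal_U hb.inv_left with e | e
  · have e' : b * d.u * b⁻¹ = d.u := by
      conv_lhs => arg 1; arg 2; rw [← e]
      group
    have := (Commute.conj_iff b).mpr h
    rwa [e'] at this
  · have e' : b * (d.t * d.u) * b⁻¹ = d.u := by rw [← e]; group
    have := (Commute.conj_iff b).mpr (ha.mul_right h)
    rwa [e'] at this

theorem Db_out {a b : d.K} (ha : a ∉ d.Db) (hb : b ∉ d.Db) : a * b ∈ d.Db := by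
  obtain ⟨x, hx, rfl⟩ := d.pr_surj a
  obtain ⟨w, hw, rfl⟩ := d.pr_surj b
  rw [d.mem_Db] at ha hb
  rw [d.pr_mul hx hw, d.mem_Db]
  have hsw : ∀ {c}, Commute c d.t → ¬ Commute c d.u → c * d.u * c⁻¹ = d.t * d.u := fun {c} hc hn =>
    (d.normal_U hc).resolve_left fun e => hn (mul_inv_eq_iff_eq_mul.mp e)
  refine mul_inv_eq_iff_eq_mul.mp ?_
  rw [conj_comp, hsw hw hb, show x * (d.t * d.u) * x⁻¹ = x * d.t * x⁻¹ * (x * d.u * x⁻¹) by group, hsw hx ha, hx.eq,
    mul_inv_cancel_right, ← mul_assoc, d.t_sq, one_mul]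

theorem zb_Db : d.zb ∈ d.Db := (d.mem_Db _).mpr (d.Zt_comm_u (d.Tri_conj (Or.inl rfl)))

theorem yb_not_Db : d.yb ∉ d.Db := fun h => d.y_not_u ((d.mem_Db _).mp h)

theorem conj_Db {k : d.K} (h : IsConj d.zb k) : k ∈ d.Db := by
  obtain ⟨c, rfl⟩ := isConj_iff.mp h
  exact d.normal_Db.conj_mem _ d.zb_Db c

theorem not_fused : ¬ IsConj d.zb d.yb := fun h => d.yb_not_Db (d.conj_Db h)

theorem Zt_conj_zb {x : G} (hx : d.Zt x) : IsConj d.zb (d.pr x hx.1) := by
  obtain ⟨h, hh, e⟩ := d.to_z hx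
  refine isConj_iff.mpr ⟨d.pr h⁻¹ hh.inv_left, ?_⟩
  rw [zb, d.pr_conj hh.inv_left, d.pr_eq]
  have e2 : h⁻¹ * z * h⁻¹⁻¹ = x := by
    calc h⁻¹ * z * h⁻¹⁻¹ = h⁻¹ * (h * x * h⁻¹) * h⁻¹⁻¹ := congrArg (fun w => h⁻¹ * w * h⁻¹⁻¹) e.symm
      _ = x := by group
  rw [e2, inv_mul_cancel]
  exact one_mem _

/-- An involution of the quotient lifts to a member of the first class or is conjugate to the outer one. -/
theorem invol_cases {k : d.K} (hk : k * k = 1) (h1 : k ≠ 1) :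
    (∃ x, ∃ hx : d.Zt x, d.pr x hx.1 = k) ∨ IsConj d.yb k := by
  haveI : Fact (Nat.Prime 2) := ⟨Nat.prime_two⟩
  obtain ⟨w, hw, rfl⟩ := d.pr_surj k
  rw [d.pr_mul hw hw, d.pr_one_iff] at hk
  have h4 : w ^ 2 ^ 2 = 1 := by
    rw [show w ^ 2 ^ 2 = (w * w) * (w * w) by rw [← pow_two, ← pow_two, ← pow_mul]; norm_num, d.U_sq hk]
  obtain ⟨c, hc, hS⟩ := d.exists_conj_S (twoPow_isP h4) (zpowers_le.mpr (d.mem_Ct.mpr hw))
  have hwS := hS w (mem_zpowers w)
  have hsq : c * w * c⁻¹ * (c * w * c⁻¹) ∈ d.U := by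
    rw [show c * w * c⁻¹ * (c * w * c⁻¹) = c * (w * w) * c⁻¹ by group]; exact d.Ct_U hc hk
  rcases d.sq_U_S hwS hsq with h | ⟨v, hv, hz⟩ | ⟨hnu, v, hv, hvv⟩
  · exact absurd ((d.pr_one_iff hw).mpr (d.U_coset_sq hc h)) h1
  · refine Or.inl ⟨c⁻¹ * (c * w * c⁻¹ * v) * c, ?_, ?_⟩
    · have := d.Zt_conj hz hc.inv_left
      rwa [inv_inv] at this
    · rw [d.pr_eq]
      have h' := d.Ct_U hc.inv_left (inv_mem hv)
      rw [inv_inv] at h'
      rwa [show (c⁻¹ * (c * w * c⁻¹ * v) * c)⁻¹ * w = c⁻¹ * v⁻¹ * c by group]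
  · right
    have hvS : v ∈ d.S := d.S1_le (d.mem_M.mp (d.mem_U.mp hv).1).1
    have h1' : c * w * c⁻¹ * v ∉ d.S1 := fun h => hnu (by
      have := (d.S1_U h d.u_U).mul_left (d.U_comm (inv_mem hv) d.u_U)
      rwa [mul_inv_cancel_right] at this)
    obtain ⟨h, hh, v', hv', e⟩ := d.S_diff_comm (mul_mem hwS hvS) h1' hvv
    refine isConj_iff.mpr ⟨d.pr (c⁻¹ * h) (hc.inv_left.mul_left (d.mem_S.mp hh).2), ?_⟩
    rw [yb, d.pr_conj, d.pr_eq]
    have h' := d.Ct_U hc.inv_left (mul_mem hv hv')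
    rw [inv_inv] at h'
    have e2 : (c⁻¹ * h * d.y * (c⁻¹ * h)⁻¹)⁻¹ * w = (c⁻¹ * (v * v') * c)⁻¹ := by
      rw [show c⁻¹ * h * d.y * (c⁻¹ * h)⁻¹ = c⁻¹ * (h * d.y * h⁻¹) * c by group, e]; group
    rw [e2]
    exact inv_mem h'

theorem classes {k : d.K} (hk : orderOf k = 2) : IsConj d.zb k ∨ IsConj d.yb k := by
  rcases d.invol_cases (Cfsg.Lib.InvolCalc.sq_of_order_two hk) (Cfsg.Lib.InvolCalc.ne_one_of_order_two hk) with
    ⟨x, hx, rfl⟩ | h
  · exact Or.inl (d.Zt_conj_zb hx)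
  · exact Or.inr h

theorem Db_invol {k : d.K} (hk : k * k = 1) (h1 : k ≠ 1) (hD : k ∈ d.Db) : ∃ x, ∃ hx : d.Zt x, d.pr x hx.1 = k := by
  refine (d.invol_cases hk h1).resolve_right fun h => ?_
  obtain ⟨c, hc⟩ := isConj_iff.mp h
  refine d.yb_not_Db ?_
  have := d.normal_Db.conj_mem _ hD c⁻¹
  rwa [← hc, show c⁻¹ * (c * d.yb * c⁻¹) * c⁻¹⁻¹ = d.yb by group] at this

theorem card_comap (P : Subgroup d.K) : Nat.card ↥(P.comap (QuotientGroup.mk' d.Usub)) = 4 * Nat.card P := by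
  have h1 := (P.comap (QuotientGroup.mk' d.Usub)).card_mul_index
  rw [index_comap_of_surjective _ (QuotientGroup.mk'_surjective _), card_eq_card_quotient_mul_card_subgroup d.Usub,
    ← P.card_mul_index] at h1
  have hU : Nat.card ↥d.Usub = 4 := (Nat.card_congr (subgroupOfEquivOfLe d.U_le_Ct).toEquiv).trans d.card_U
  rw [hU] at h1
  have : 0 < P.index := Nat.pos_of_ne_zero Subgroup.index_ne_zero_of_finite
  nlinarith

theorem card_Ct : Nat.card ↥d.Ct = 4 * Nat.card d.K := by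
  have := d.card_comap ⊤
  rwa [comap_top, Nat.card_congr (Equiv.subtypeUnivEquiv fun x => mem_top x), Nat.card_congr
    (Equiv.subtypeUnivEquiv fun x => mem_top x)] at this

theorem mem_CZ {a : G} (ha : Commute a d.t) : d.pr a ha ∈ centralizer ({d.zb} : Set d.K) ↔ a ∈ d.S := by
  rw [mem_centralizer_singleton_iff]
  constructor
  · intro h
    have hh : d.pr a ha * d.zb * (d.pr a ha)⁻¹ = d.zb := by rw [h, mul_inv_cancel_right]
    rw [zb, d.pr_conj, d.pr_eq] at hh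
    set v := (a * z * a⁻¹)⁻¹ * z with hv
    have hz : z = a * z * a⁻¹ * v := by rw [hv, mul_inv_cancel_left]
    have hZ := d.Zt_conj (d.Tri_conj (Or.inl rfl)) ha
    have h1 := d.Zt_coset hZ hh (by rw [← hz]; exact d.Tri_conj (Or.inl rfl))
    rw [h1, mul_one] at hz
    exact d.mem_S_of ha hz.symm
  · intro h
    show _ * d.zb = d.zb * _
    simp only [zb, d.pr_mul, (d.mem_S.mp h).1.eq]

theorem card_CZ : Nat.card ↥(centralizer ({d.zb} : Set d.K)) = 128 := by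
  have h := d.card_comap (centralizer ({d.zb} : Set d.K))
  have e : Nat.card ↥((centralizer ({d.zb} : Set d.K)).comap (QuotientGroup.mk' d.Usub)) = 512 := by
    rw [← d.toSec.card_S]
    exact Nat.card_congr ⟨fun a => ⟨a.1.1, (d.mem_CZ (d.mem_Ct.mp a.1.2)).mp a.2⟩,
      fun a => ⟨⟨a.1, d.S_le a.2⟩, (d.mem_CZ (d.mem_Ct.mp (d.S_le a.2))).mpr a.2⟩, fun _ => rfl, fun _ => rfl⟩
  omega

theorem outer_lift {w : G} (hw : w ∈ d.S) (h1 : w ∉ d.S1) {v : G} (hv : v ∈ d.U) (hww : w * w = 1)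
    (h2 : w * v * (w * v) = 1) : v = 1 ∨ v = d.t := by
  have e : w * v * w⁻¹ = v := by
    have hwi : w⁻¹ = w := inv_eq_of_mul_eq_one_right hww
    calc w * v * w⁻¹ = w * v * (w * v) * v⁻¹ := by rw [hwi]; group
      _ = v := by rw [h2, one_mul, inv_eq_of_mul_eq_one_right (d.U_sq hv)]
  rcases d.U_cases hv with r | r | r | r
  · exact Or.inl r
  · exact Or.inr r
  · exfalso; rw [r, d.S_diff_swap hw h1] at e; exact d.t_ne (mul_eq_right.mp e)
  · exfalso
    rw [r, show w * (d.t * d.u) * w⁻¹ = w * d.t * w⁻¹ * (w * d.u * w⁻¹) by group, d.S_diff_swap hw h1,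
      (d.mem_S.mp hw).2.eq, mul_inv_cancel_right, ← mul_assoc, d.t_sq, one_mul] at e
    exact d.t_ne (mul_eq_right.mp e.symm)

theorem card_orbit_y :
    Nat.card {k : d.K // ∃ h ∈ centralizer ({d.zb} : Set d.K), h * d.yb * h⁻¹ = k} = 8 := by
  classical
  let P := {w : G // w ∈ d.S ∧ w ∉ d.S1 ∧ w * w = 1}
  have hyS1 : d.y ∉ d.S1 := fun h => d.y_not_u (d.S1_U h d.u_U)
  let f : P → {k : d.K // ∃ h ∈ centralizer ({d.zb} : Set d.K), h * d.yb * h⁻¹ = k} := fun w =>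
    ⟨d.pr w.1 (d.mem_S.mp w.2.1).2, by
      obtain ⟨h, hh, v, hv, e⟩ := d.S_diff_comm w.2.1 w.2.2.1 w.2.2.2
      refine ⟨d.pr h (d.mem_S.mp hh).2, (d.mem_CZ _).mpr hh, ?_⟩
      rw [yb, d.pr_conj, d.pr_eq, e, show (w.1 * v)⁻¹ * w.1 = v⁻¹ by group]
      exact inv_mem hv⟩
  have hsurj : Function.Surjective f := by
    rintro ⟨k, c, hc, rfl⟩
    obtain ⟨h, hh, rfl⟩ := d.pr_surj c
    have hS := (d.mem_CZ hh).mp hc
    refine ⟨⟨h * d.y * h⁻¹, mul_mem (mul_mem hS d.y_S) (inv_mem hS), fun h1 => hyS1 ?_, ?_⟩, Subtype.ext ?_⟩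
    · have := d.S_S1 (inv_mem hS) h1
      rwa [show h⁻¹ * (h * d.y * h⁻¹) * h⁻¹⁻¹ = d.y by group] at this
    · rw [show h * d.y * h⁻¹ * (h * d.y * h⁻¹) = h * (d.y * d.y) * h⁻¹ by group, d.y_sq]; simp
    · exact (d.pr_conj hh d.y_t).symm
  obtain ⟨sec, hsec⟩ := hsurj.hasRightInverse
  have htS1 : d.t ∈ d.S1 := (d.mem_M.mp d.t_M).1
  let e : Bool × {k : d.K // ∃ h ∈ centralizer ({d.zb} : Set d.K), h * d.yb * h⁻¹ = k} → P := fun u =>
    ⟨(sec u.2).1 * (bif u.1 then d.t else 1), mul_mem (sec u.2).2.1 (d.S1_le (by cases u.1; exacts [one_mem _, htS1])),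
      fun h => (sec u.2).2.2.1 (by
        have := mul_mem h (inv_mem (by cases u.1; exacts [one_mem _, htS1] : (bif u.1 then d.t else 1) ∈ d.S1))
        rwa [mul_inv_cancel_right] at this),
      by
        cases u.1
        · simpa using (sec u.2).2.2.2
        · show (sec u.2).1 * d.t * ((sec u.2).1 * d.t) = 1
          rw [(d.mem_S.mp (sec u.2).2.1).2.symm.mul_mul_mul_comm, (sec u.2).2.2.2, d.t_sq, one_mul]⟩
  have he : Function.Bijective e := by
    constructor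
    · rintro ⟨b, k⟩ ⟨b', k'⟩ r
      have r' : (sec k).1 * (bif b then d.t else 1) = (sec k').1 * (bif b' then d.t else 1) := congrArg Subtype.val r
      have hU : ∀ c : Bool, (bif c then d.t else 1) ∈ d.U := fun c => by cases c; exacts [one_mem _, d.t_U]
      have hk : k = k' := by
        rw [← hsec k, ← hsec k']
        refine Subtype.ext ((d.pr_eq (d.mem_S.mp (sec k).2.1).2 (d.mem_S.mp (sec k').2.1).2).mpr ?_)
        have e2 : (sec k).1⁻¹ * (sec k').1 = (bif b then d.t else 1) * (bif b' then d.t else 1)⁻¹ := by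
          calc (sec k).1⁻¹ * (sec k').1 = (sec k).1⁻¹ * ((sec k').1 * (bif b' then d.t else 1)) * (bif b' then d.t else 1)⁻¹ := by
                group
            _ = _ := by rw [← r']; group
        rw [e2]; exact mul_mem (hU b) (inv_mem (hU b'))
      subst hk
      have r'' := mul_left_cancel r'
      revert r''
      cases b <;> cases b' <;> simp [d.t_ne, Ne.symm d.t_ne]
    · intro w
      have hq : d.pr (sec (f w)).1 (d.mem_S.mp (sec (f w)).2.1).2 = d.pr w.1 (d.mem_S.mp w.2.1).2 :=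
        congrArg Subtype.val (hsec (f w))
      have hv := (d.pr_eq _ _).mp hq
      set v := (sec (f w)).1⁻¹ * w.1 with hvdef
      have hwv : w.1 = (sec (f w)).1 * v := by rw [hvdef, mul_inv_cancel_left]
      rcases d.outer_lift (sec (f w)).2.1 (sec (f w)).2.2.1 hv (sec (f w)).2.2.2 (by rw [← hwv]; exact w.2.2.2) with
        r | r
      · refine ⟨(false, f w), Subtype.ext ?_⟩
        show (sec (f w)).1 * 1 = w.1
        rw [hwv, r]
      · refine ⟨(true, f w), Subtype.ext ?_⟩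
        show (sec (f w)).1 * d.t = w.1
        rw [hwv, r]
  have := Nat.card_congr (Equiv.ofBijective e he)
  rw [Nat.card_prod, d.card_outer_S, show Nat.card Bool = 2 by simp] at this
  omega

/-- The centralizer of the outer involution inside the image of the centralizer of the four-group. -/
def X8 : Subgroup d.K := centralizer ({d.yb} : Set d.K) ⊓ d.Db

/-- Its part centralizing the first involution. -/
def Q8 : Subgroup d.K := d.X8 ⊓ centralizer ({d.zb} : Set d.K)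

theorem mem_X8 {k : d.K} : k ∈ d.X8 ↔ Commute k d.yb ∧ k ∈ d.Db := by
  rw [X8, mem_inf, mem_centralizer_singleton_iff]; rfl

theorem mem_Q8 {k : d.K} : k ∈ d.Q8 ↔ k ∈ d.X8 ∧ Commute k d.zb := by
  rw [Q8, mem_inf, mem_centralizer_singleton_iff]; rfl

theorem zb_X8 : d.zb ∈ d.X8 := d.mem_X8.mpr ⟨d.comm_zy, d.zb_Db⟩

theorem zb_Q8 : d.zb ∈ d.Q8 := d.mem_Q8.mpr ⟨d.zb_X8, Commute.refl _⟩

theorem card_Q8 : Nat.card ↥d.Q8 = 8 := by
  classical
  have h := orbit_mul_stab (centralizer ({d.zb} : Set d.K)) d.yb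
  rw [d.card_CZ, d.card_orbit_y] at h
  set H := centralizer ({d.zb} : Set d.K) ⊓ centralizer ({d.yb} : Set d.K) with hH
  have hmem : ∀ {k}, k ∈ H ↔ Commute k d.zb ∧ Commute k d.yb := fun {k} => by
    rw [hH, mem_inf, mem_centralizer_singleton_iff, mem_centralizer_singleton_iff]; rfl
  have hyH : d.yb ∈ H := hmem.mpr ⟨d.comm_zy.symm, Commute.refl _⟩
  let f : Bool × ↥d.Q8 → ↥H := fun u => ⟨(bif u.1 then d.yb else 1) * u.2, mul_mem
    (by cases u.1; exacts [one_mem _, hyH])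
    (hmem.mpr ⟨(d.mem_Q8.mp u.2.2).2, (d.mem_X8.mp (d.mem_Q8.mp u.2.2).1).1⟩)⟩
  have hf : Function.Bijective f := by
    constructor
    · rintro ⟨b, a⟩ ⟨b', a'⟩ e
      have e' : (bif b then d.yb else 1) * (a : d.K) = (bif b' then d.yb else 1) * a' := congrArg Subtype.val e
      have hDa := (d.mem_X8.mp (d.mem_Q8.mp a.2).1).2
      have hDa' := (d.mem_X8.mp (d.mem_Q8.mp a'.2).1).2
      cases b <;> cases b' <;> simp only [cond_true, cond_false, one_mul] at e'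
      · exact Prod.ext rfl (Subtype.ext e')
      · refine absurd ?_ d.yb_not_Db
        rw [show d.yb = (a : d.K) * (a' : d.K)⁻¹ by rw [e', mul_inv_cancel_right]]
        exact mul_mem hDa (inv_mem hDa')
      · refine absurd ?_ d.yb_not_Db
        rw [show d.yb = (a' : d.K) * (a : d.K)⁻¹ by rw [← e', mul_inv_cancel_right]]
        exact mul_mem hDa' (inv_mem hDa)
      · exact Prod.ext rfl (Subtype.ext (mul_left_cancel e'))
    · rintro ⟨k, hk⟩
      obtain ⟨k1, k2⟩ := hmem.mp hk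
      by_cases hD : k ∈ d.Db
      · exact ⟨(false, ⟨k, d.mem_Q8.mpr ⟨d.mem_X8.mpr ⟨k2, hD⟩, k1⟩⟩), Subtype.ext (one_mul k)⟩
      · refine ⟨(true, ⟨d.yb * k, d.mem_Q8.mpr ⟨d.mem_X8.mpr ⟨(Commute.refl _).mul_left k2,
          d.Db_out d.yb_not_Db hD⟩, d.comm_zy.symm.mul_left k1⟩⟩), Subtype.ext ?_⟩
        show d.yb * (d.yb * k) = k
        rw [← mul_assoc, d.yb_sq, one_mul]
  have h2 := Nat.card_congr (Equiv.ofBijective f hf)
  rw [Nat.card_prod, show Nat.card Bool = 2 by simp] at h2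
  omega

theorem Q8_invol {k : d.K} (hk : k ∈ d.Q8) (h2 : k * k = 1) : k = 1 ∨ k = d.zb := by
  by_cases h1 : k = 1
  · exact Or.inl h1
  refine Or.inr ?_
  obtain ⟨hX, hz⟩ := d.mem_Q8.mp hk
  obtain ⟨hy, hD⟩ := d.mem_X8.mp hX
  obtain ⟨x, hx, rfl⟩ := d.Db_invol h2 h1 hD
  have hxS : x ∈ d.S := (d.mem_CZ hx.1).mp (mem_centralizer_singleton_iff.mpr hz)
  have hS1 := d.Zt_S hx (d.mem_S.mp hxS).1
  have hconj : d.pr x hx.1 * d.yb * (d.pr x hx.1)⁻¹ = d.yb := by rw [hy.eq, mul_inv_cancel_right]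
  rw [yb, d.pr_conj, d.pr_eq] at hconj
  set v := (x * d.y * x⁻¹)⁻¹ * d.y with hv
  have hxy : x * d.y * x⁻¹ * v = d.y := by rw [hv, mul_inv_cancel_left]
  have hys : x * d.y * x⁻¹ ∈ d.S := mul_mem (mul_mem hxS d.y_S) (inv_mem hxS)
  have h1y : x * d.y * x⁻¹ ∉ d.S1 := fun h => d.y_not_u (d.S1_U (by
    have := d.S_S1 (inv_mem hxS) h
    rwa [show x⁻¹ * (x * d.y * x⁻¹) * x⁻¹⁻¹ = d.y by group] at this) d.u_U)
  have hsq : x * d.y * x⁻¹ * (x * d.y * x⁻¹) = 1 := by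
    rw [show x * d.y * x⁻¹ * (x * d.y * x⁻¹) = x * (d.y * d.y) * x⁻¹ by group, d.y_sq]; simp
  have hvU : v ∈ d.U := hconj
  have hz' : x = z := by
    refine d.Zt_Y hx (d.mem_S.mp hxS).1 ?_
    rcases d.outer_lift hys h1y hvU hsq (by rw [hxy, d.y_sq]) with r | r
    · exact Or.inl (by rw [r, mul_one] at hxy; exact hxy)
    · refine Or.inr ?_
      rw [r] at hxy
      calc x * d.y * x⁻¹ = x * d.y * x⁻¹ * d.t * d.t := by rw [mul_assoc (x * d.y * x⁻¹), d.t_sq, mul_one]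
        _ = d.y * d.t := by rw [hxy]
  rw [zb]
  simp only [hz']

end Four

end Cfsg.Lib.SuzukiType
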