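import Cfsg.Agent.SuzukiType.Local.Centralizer
import Cfsg.Agent.SuzukiType.Local.ChecksOK

/-!
The coded images of the centralizer of a commuting pair from the two classes.
-/

set_option autoImplicit false
set_option maxRecDepth 100000
set_option maxHeartbeats 1000000
set_option linter.unusedSectionVars false
set_option synthInstance.maxSize 4000

namespace Cfsg.Lib.SuzukiType

open Subgroup Cfsg.Lib.SuzukiType.Code Cfsg.Lib.SuzukiType.Local Cfsg.Lib.SuzukiType.Local.Frm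

universe u

variable {G : Type u} [Group G] [Finite G] {z : G}

/-- A representative of the second class in standard position. -/
structure Std (z : G) extends Sec z where
  hT : tup toPt (q0 * r0) = T0

theorem rel_flip : ∀ b ∈ W, ∀ sg : Bool, tm (rel b sg) (inn 1) = rel b (!sg) := by decide +kernel

theorem Pt.R_sign (p : Pt z) {b : ℕ} (hb : b ∈ W) (sg : Bool) : ∃ r, p.R r ∧ p.β r = b ∧ tup p r = rel b sg := by
  obtain ⟨r, hr, e⟩ := p.β_surj hb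
  obtain ⟨sg', h⟩ := tup_R p hr
  rw [e] at h
  by_cases hs : sg' = sg
  · exact ⟨r, hr, e, hs ▸ h⟩
  · refine ⟨r * p.s, p.R_mul hr (p.E_R (Or.inr (Or.inr (Or.inl rfl)))), ?_, ?_⟩
    · rw [p.β_mul hr (p.E_R (Or.inr (Or.inr (Or.inl rfl)))), e, p.β_E (Or.inr (Or.inr (Or.inl rfl))), Nat.xor_zero]
    · rw [tup_mul p hr.2 (p.X.central _ p.hs), h, tup_Q p p.hs, p.πs, rel_flip b hb sg']
      congr 1
      revert hs; cases sg <;> cases sg' <;> simp

theorem Ctx.exists_std (c : Ctx z) : Nonempty (Std z) := by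
  obtain ⟨p⟩ := c.exists_pt
  obtain ⟨q, hq, e⟩ := p.π_surj 10 (by norm_num)
  have hA : p.A q := p.A_of_perp hq (by rw [e]; decide)
  obtain ⟨r, hr, eb, es⟩ := p.R_sign (b := 18) (by decide) false
  have ha : p.α q = 10 := by rw [Pt.α, e]; decide
  exact ⟨{ toPt := p, q0 := q, r0 := r, hq0 := hA, hr0 := hr, a0 := ha, b0 := eb,
           hT := by rw [tup_mul p (p.A_T hA).1 hr.2, tup_Q p hq, e, es]; rfl }⟩

theorem sign_vec : ∀ a b c d e f : Bool, ∃ v < 64, pB v 1 = a ∧ pB v 2 = b ∧ pB v 4 = c ∧ pB v 8 = d ∧ pB v 16 = e ∧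
    pB v 32 = f := by decide +kernel

theorem bit_diff : ∀ x < 128, ∀ y < 128, x &&& 63 = y &&& 63 → y = bif x.testBit 6 != y.testBit 6 then x ^^^ 64 else x := by
  decide +kernel

theorem mem_T6_small : ∀ a ∈ L1 ++ [Y0], ∀ x ∈ [a.a0, a.a1, a.a2, a.a3, a.a4, a.a5], x < 128 := by decide +kernel

namespace Std

variable (d : Std z)

/-- The image. -/
noncomputable def φ (x : G) : T6 := tup d.toPt x

theorem φ_mul {x y : G} (hx : Commute x z) (hy : Commute y z) : d.φ (x * y) = tm (d.φ x) (d.φ y) :=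
  tup_mul d.toPt hx hy

theorem φ_one : d.φ 1 = t1 := tup_one d.toPt

theorem φ_z : d.φ z = t1 := tup_z d.toPt

theorem φ_t : d.φ d.t = T0 := d.hT

theorem φ_s : d.φ d.s = inn 1 := by
  show tup d.toPt d.s = _
  rw [tup_Q d.toPt d.hs, d.πs]

theorem φ_eq {x y : G} (hx : Commute x z) (hy : Commute y z) (h : d.φ x = d.φ y) : y = x ∨ y = z * x :=
  tup_eq d.toPt hx hy h

theorem φ_sq {x : G} (hx : Commute x z) (h : x * x = 1 ∨ x * x = z) : tm (d.φ x) (d.φ x) = t1 := by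
  rw [← d.φ_mul hx hx]
  rcases h with e | e <;> rw [e]
  · exact d.φ_one
  · exact d.φ_z

theorem mem_inn {x : G} (hx : Commute x z) {v : ℕ} (hv : v < 64) (h : d.φ x = inn v) : x ∈ d.Q ∧ d.π x = v := by
  have hv63 : v &&& 63 = v := (Nat.and_two_pow_sub_one_eq_mod v 6).trans (Nat.mod_eq_of_lt hv)
  rcases d.φ_eq (d.X.central _ (elt_mem d.toPt v)) hx (by rw [h]; exact tup_elt d.toPt hv) with e | e <;> rw [e]
  · exact ⟨elt_mem d.toPt v, by rw [π_elt, hv63]⟩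
  · refine ⟨mul_mem d.X.mem (elt_mem d.toPt v), ?_⟩
    rw [d.π_mul z d.X.mem _ (elt_mem d.toPt v), d.toCtx.pi_z, Nat.zero_xor, π_elt, hv63]

theorem isZ_sound {x : G} (hx : Commute x z) (h : tm (d.φ x) (d.φ x) = t1) (hZ : isZ (d.φ x) = true) :
    x * x = 1 ∧ IsConj z x ∧ x ≠ z := by
  rw [isZ, Bool.or_eq_true, beq_iff_eq] at hZ
  rcases hZ with hZ | hZ
  · obtain ⟨hQ, hc⟩ := (d.toSec.Z_iff hx h).mpr hZ
    refine ⟨?_, hc, fun e => hQ (e ▸ d.X.mem)⟩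
    obtain ⟨g, hg⟩ := isConj_iff.mp hc
    rw [← hg, show g * z * g⁻¹ * (g * z * g⁻¹) = g * (z * z) * g⁻¹ by group, d.X.zz]; simp
  · rw [innZ, List.any_eq_true] at hZ
    obtain ⟨v, hv, hv'⟩ := hZ
    simp only [Bool.and_eq_true, Bool.not_eq_true', decide_eq_true_eq] at hv'
    rw [List.mem_range'_1] at hv
    obtain ⟨hQ, hπ⟩ := d.mem_inn hx (by omega) hv'.2
    have hxx := (d.π_sq x hQ).mpr (by rw [hπ]; exact hv'.1)
    have hxz : x ≠ z := fun e => by rw [e, d.toCtx.pi_z] at hπ; omega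
    have hx1 : x ≠ 1 := fun e => by rw [e, d.toCtx.pi_one] at hπ; omega
    exact ⟨hxx, d.Q_invol hQ hxx hx1, hxz⟩

theorem isT_sound {x : G} (hx : Commute x z) (h : tm (d.φ x) (d.φ x) = t1) (hT : isT (d.φ x) = true) :
    x * x = 1 ∧ IsConj d.t x := by
  rw [isT, beq_iff_eq] at hT
  have hc := (d.toSec.T_iff hx h).mpr hT
  refine ⟨?_, hc⟩
  obtain ⟨g, hg⟩ := isConj_iff.mp hc
  rw [← hg, show g * d.t * g⁻¹ * (g * d.t * g⁻¹) = g * (d.t * d.t) * g⁻¹ by group, d.t_sq]; simp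

theorem sq1_sound {x : G} (hx : Commute x z) (h : sq1 (d.φ x) = true) : x * x = 1 := by
  simp only [sq1, Bool.and_eq_true, Bool.or_eq_true, decide_eq_true_eq] at h
  obtain ⟨h0, (h1 | h1) | h1⟩ := h
  · rcases d.φ_eq (Commute.one_left z) hx (d.φ_one.trans h1.symm) with e | e <;> rw [e]
    · exact one_mul 1
    · rw [mul_one, d.X.zz]
  · exact (d.isZ_sound hx h0 h1).1
  · exact (d.isT_sound hx h0 h1).1

/-- The three kinds of elements of square one in the centralizer. -/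
theorem invol_kind {x : G} (hx : Commute x z) (hxx : x * x = 1) :
    ((x = 1 ∨ x = z) ∧ d.φ x = t1) ∨ (IsConj z x ∧ ¬ IsConj d.t x ∧ x ≠ z ∧ isZ (d.φ x) = true) ∨
      (IsConj d.t x ∧ ¬ IsConj z x ∧ isT (d.φ x) = true) := by
  by_cases hQ : x ∈ d.Q
  · rcases eq_or_ne (d.π x) 0 with e | e
    · refine Or.inl ⟨(d.π_zero x hQ).mp e, ?_⟩
      rcases (d.π_zero x hQ).mp e with r | r <;> rw [r]
      · exact d.φ_one
      · exact d.φ_z
    · have hx1 : x ≠ 1 := fun r => e (by rw [r]; exact d.toCtx.pi_one)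
      have hc := d.Q_invol hQ hxx hx1
      refine Or.inr (Or.inl ⟨hc, fun ht => d.not_conj (hc.trans ht.symm),
        fun r => e (by rw [r]; exact d.toCtx.pi_z), ?_⟩)
      rw [isZ, Bool.or_eq_true, innZ, List.any_eq_true]
      refine Or.inr ⟨d.π x, List.mem_range'_1.mpr ⟨by omega, by have := d.π_lt x; omega⟩, ?_⟩
      simp only [Bool.and_eq_true, Bool.not_eq_true', decide_eq_true_eq]
      exact ⟨(d.π_sq x hQ).mp hxx, tup_Q d.toPt hQ⟩
  · rcases d.toSec.outer_cases hx (Or.inl hxx) hQ with ⟨-, h1, h2, h3⟩ | ⟨-, h1, h2, h3⟩ | ⟨h0, -, -⟩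
    · refine Or.inr (Or.inl ⟨h1, h2, fun r => hQ (r ▸ d.X.mem), ?_⟩)
      rw [isZ, show ivt (d.φ x) = (32, 24) from h3]; rfl
    · refine Or.inr (Or.inr ⟨h1, h2, ?_⟩)
      rw [isT, show ivt (d.φ x) = (16, 4) from h3]; rfl
    · exact absurd (hxx.symm.trans h0).symm d.X.ne

theorem sq1_complete {x : G} (hx : Commute x z) (hxx : x * x = 1) : sq1 (d.φ x) = true := by
  simp only [sq1, Bool.and_eq_true, Bool.or_eq_true, decide_eq_true_eq]
  refine ⟨d.φ_sq hx (Or.inl hxx), ?_⟩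
  rcases d.invol_kind hx hxx with ⟨-, h⟩ | ⟨-, -, -, h⟩ | ⟨-, -, h⟩
  · exact Or.inl (Or.inl h)
  · exact Or.inl (Or.inr h)
  · exact Or.inr h

theorem isZ_iff {x : G} (hx : Commute x z) (hxx : x * x = 1) :
    isZ (d.φ x) = true ↔ IsConj z x ∧ x ≠ z :=
  ⟨fun h => ⟨(d.isZ_sound hx (d.φ_sq hx (Or.inl hxx)) h).2.1, (d.isZ_sound hx (d.φ_sq hx (Or.inl hxx)) h).2.2⟩,
    fun ⟨h1, h2⟩ => by
      rcases d.invol_kind hx hxx with ⟨r | r, -⟩ | ⟨-, -, -, h⟩ | ⟨-, h, -⟩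
      · exfalso
        obtain ⟨g, hg⟩ := isConj_iff.mp h1
        exact d.X.ne (conj_eq_one_iff.mp (hg.trans r))
      · exact absurd r h2
      · exact h
      · exact absurd h1 h⟩

theorem isT_iff {x : G} (hx : Commute x z) (hxx : x * x = 1) : isT (d.φ x) = true ↔ IsConj d.t x :=
  ⟨fun h => (d.isT_sound hx (d.φ_sq hx (Or.inl hxx)) h).2, fun h => by
    rcases d.invol_kind hx hxx with ⟨r | r, -⟩ | ⟨-, h', -⟩ | ⟨-, -, h'⟩
    · exfalso
      obtain ⟨g, hg⟩ := isConj_iff.mp h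
      exact d.t_ne (conj_eq_one_iff.mp (hg.trans r))
    · exact absurd (r ▸ h).symm d.not_conj
    · exact absurd h h'
    · exact h'⟩

theorem xcomm_iff {x y : G} (hx : Commute x z) (hy : Commute y z) (hxx : x * x = 1) (hyy : y * y = 1) :
    xcomm (d.φ x) (d.φ y) = true ↔ Commute x y := by
  simp only [xcomm, Bool.and_eq_true, decide_eq_true_eq]
  constructor
  · rintro ⟨-, h⟩
    rw [← d.φ_mul hx hy] at h
    have h2 := d.sq1_sound (hx.mul_left hy) h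
    have e := inv_eq_of_mul_eq_one_right h2
    rw [mul_inv_rev, inv_eq_of_mul_eq_one_right hxx, inv_eq_of_mul_eq_one_right hyy] at e
    exact e.symm
  · intro h
    refine ⟨by rw [← d.φ_mul hx hy, ← d.φ_mul hy hx, h.eq], ?_⟩
    rw [← d.φ_mul hx hy]
    exact d.sq1_complete (hx.mul_left hy) (by rw [h.symm.mul_mul_mul_comm, hxx, hyy, one_mul])

theorem xanti_iff {x y : G} (hx : Commute x z) (hy : Commute y z) (hxx : x * x = 1) (hyy : y * y = 1) :
    xanti (d.φ x) (d.φ y) = true ↔ x * y = z * (y * x) := by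
  simp only [xanti, Bool.and_eq_true, decide_eq_true_eq, Bool.not_eq_true']
  constructor
  · rintro ⟨h1, h2⟩
    rw [← d.φ_mul hx hy, ← d.φ_mul hy hx] at h1
    rcases d.φ_eq (hy.mul_left hx) (hx.mul_left hy) h1.symm with e | e
    · exfalso
      have := (d.xcomm_iff hx hy hxx hyy).mpr e
      simp only [xcomm, Bool.and_eq_true] at this
      rw [h2] at this
      exact Bool.false_ne_true this.2
    · exact e
  · intro e
    have h1 : tm (d.φ x) (d.φ y) = tm (d.φ y) (d.φ x) := by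
      rw [← d.φ_mul hx hy, ← d.φ_mul hy hx, e, d.φ_mul (Commute.refl z) (hy.mul_left hx), d.φ_z,
        ← d.φ_one, ← d.φ_mul (Commute.one_left z) (hy.mul_left hx), one_mul]
    refine ⟨h1, ?_⟩
    cases hs : sq1 (tm (d.φ x) (d.φ y))
    · rfl
    · exfalso
      have hc := (d.xcomm_iff hx hy hxx hyy).mp (by simp only [xcomm, Bool.and_eq_true, decide_eq_true_eq]; exact ⟨h1, hs⟩)
      rw [hc.eq] at e
      exact d.X.ne (mul_eq_right.mp e.symm)

theorem flip_z {x : G} (hx : Commute x z) {c : ℕ} (hc : c < 128) :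
    ev (d.φ x) (c ^^^ 64) = ev (d.φ x) c ^^^ 64 := by
  show ev (tup d.toPt x) _ = _
  rw [ev_tup d.toPt hx (qm_zero c hc).2.2.2, elt_flip,
    show x * (z * elt d.toPt c) * x⁻¹ = z * (x * elt d.toPt c * x⁻¹) by
      rw [show x * (z * elt d.toPt c) * x⁻¹ = (x * z * x⁻¹) * (x * elt d.toPt c * x⁻¹) by group, hx.eq, mul_inv_cancel_right],
    cod_mul d.toPt d.X.mem (d.toCtx.norm hx (elt_mem d.toPt c)), cod_z, ← ev_tup d.toPt hx hc]
  exact (qm_zero _ (by rw [ev_tup d.toPt hx hc]; exact cod_lt d.toPt _)).2.2.1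

theorem exists_tup (a : T6) (hsm : ∀ x ∈ [a.a0, a.a1, a.a2, a.a3, a.a4, a.a5], x < 128)
    (w : List ℕ) (hw : ∀ i ∈ w, i < g1.length) (hu : ∀ x < 64, wact g1 w x = ev a x &&& 63) :
    ∃ y, Commute y z ∧ d.φ y = a := by
  obtain ⟨h, hh, he⟩ := exists_word1 w hw
  obtain ⟨x, hx, rfl⟩ := d.toCtx.m_surj hh
  have hb : ∀ i, i < 6 → ev (d.φ x) (2 ^ i) &&& 63 = ev a (2 ^ i) &&& 63 := fun i hi => by
    have hlt : (2 : ℕ) ^ i < 64 := Nat.pow_lt_pow_right (by norm_num) hi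
    show ev (tup d.toPt x) _ &&& 63 = _
    rw [tup_under d.toPt hx (by omega), (Nat.and_two_pow_sub_one_eq_mod _ 6).trans (Nat.mod_eq_of_lt hlt),
      he _ hlt, hu _ hlt]
  have hcomp : ev a 1 = a.a0 ∧ ev a 2 = a.a1 ∧ ev a 4 = a.a2 ∧ ev a 8 = a.a3 ∧ ev a 16 = a.a4 ∧ ev a 32 = a.a5 := by
    simp only [List.forall_mem_cons] at hsm
    obtain ⟨h0, h1, h2, h3, h4, h5, -⟩ := hsm
    have hz : ∀ c < 128, qm 0 c = c ∧ qm c 0 = c := by decide +kernel
    refine ⟨?_, ?_, ?_, ?_, ?_, ?_⟩ <;> simp [ev, hz, h0, h1, h2, h3, h4, h5]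
  obtain ⟨c0, c1, c2, c3, c4, c5⟩ := hcomp
  have hlt : ∀ c < 128, ev (d.φ x) c < 128 := fun c hc => by
    show ev (tup d.toPt x) c < 128
    rw [ev_tup d.toPt hx hc]; exact cod_lt d.toPt _
  obtain ⟨v, hv, v0, v1, v2, v3, v4, v5⟩ := sign_vec
    ((ev (d.φ x) 1).testBit 6 != a.a0.testBit 6) ((ev (d.φ x) 2).testBit 6 != a.a1.testBit 6)
    ((ev (d.φ x) 4).testBit 6 != a.a2.testBit 6) ((ev (d.φ x) 8).testBit 6 != a.a3.testBit 6)
    ((ev (d.φ x) 16).testBit 6 != a.a4.testBit 6) ((ev (d.φ x) 32).testBit 6 != a.a5.testBit 6)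
  refine ⟨x * elt d.toPt v, hx.mul_left (d.X.central _ (elt_mem d.toPt v)), ?_⟩
  rw [d.φ_mul hx (d.X.central _ (elt_mem d.toPt v)), show d.φ (elt d.toPt v) = inn v from tup_elt d.toPt hv]
  have key : ∀ c, c < 128 → ∀ b, b < 128 → ev (d.φ x) c &&& 63 = b &&& 63 →
      pB v c = ((ev (d.φ x) c).testBit 6 != b.testBit 6) → ev (d.φ x) (Local.flip v c) = b := by
    intro c hc b hb hl hp
    rw [bit_diff _ (hlt c hc) b hb hl, Local.flip, ← hp]
    cases pB v c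
    · rfl
    · exact d.flip_z hx hc
  simp only [List.forall_mem_cons] at hsm
  obtain ⟨h0, h1, h2, h3, h4, h5, -⟩ := hsm
  have k := hb 0 (by norm_num); rw [show (2 : ℕ) ^ 0 = 1 from rfl, c0] at k
  have e0 := key 1 (by norm_num) _ h0 k v0
  have k := hb 1 (by norm_num); rw [show (2 : ℕ) ^ 1 = 2 from rfl, c1] at k
  have e1 := key 2 (by norm_num) _ h1 k v1
  have k := hb 2 (by norm_num); rw [show (2 : ℕ) ^ 2 = 4 from rfl, c2] at k
  have e2 := key 4 (by norm_num) _ h2 k v2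
  have k := hb 3 (by norm_num); rw [show (2 : ℕ) ^ 3 = 8 from rfl, c3] at k
  have e3 := key 8 (by norm_num) _ h3 k v3
  have k := hb 4 (by norm_num); rw [show (2 : ℕ) ^ 4 = 16 from rfl, c4] at k
  have e4 := key 16 (by norm_num) _ h4 k v4
  have k := hb 5 (by norm_num); rw [show (2 : ℕ) ^ 5 = 32 from rfl, c5] at k
  have e5 := key 32 (by norm_num) _ h5 k v5
  obtain ⟨a0, a1, a2, a3, a4, a5⟩ := a
  simp only [tm, inn]
  simp only at e0 e1 e2 e3 e4 e5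
  rw [e0, e1, e2, e3, e4, e5]

theorem L1_facts {a : T6} (h : a ∈ L1) :
    tm T0 a = tm a T0 ∧ sq1 a = decide (a ∈ I1) ∧
      decide (a ∈ M1) = (I1.all fun b => decide (tm a b = tm b a)) ∧ ev a 1 = 1 := by
  have := List.all_eq_true.mp chk_L1 a h
  simp only [Bool.and_eq_true, beq_iff_eq, decide_eq_true_eq, Nat.beq_eq] at this
  exact ⟨this.1.1.1, this.1.1.2, this.1.2, this.2⟩

theorem I1_facts {a : T6} (h : a ∈ I1) : a ∈ L1 ∧ sq1 a = true ∧ isZ a = decide (a ∈ Z1) ∧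
    isT a = !decide (a ∈ t1 :: Z1) := by
  have := List.all_eq_true.mp chk_I1 a h
  simp only [Bool.and_eq_true, decide_eq_true_eq, beq_iff_eq] at this
  refine ⟨this.1.1, ?_, this.1.2, this.2⟩
  rw [(L1_facts this.1.1).2.1, decide_eq_true_iff]; exact h

theorem T_of_img {a : T6} (h : a ∈ L1) : ∃ x, d.T x ∧ d.φ x = a := by
  have h0 := chk_tri
  simp only [Bool.and_eq_true, decide_eq_true_eq, List.all_eq_true] at h0
  rw [← h0.1, List.mem_map] at h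
  obtain ⟨⟨v, b, sg⟩, hm, rfl⟩ := h
  obtain ⟨⟨hv, hp⟩, hb⟩ := h0.2 _ hm
  simp only [Bool.not_eq_true'] at hp
  dsimp only at hv hp hb
  obtain ⟨r, hr, -, hφ⟩ := d.R_sign hb sg
  have hA : d.A (elt d.toPt v) := d.A_of_perp (elt_mem d.toPt v) (by
    rw [π_elt, (Nat.and_two_pow_sub_one_eq_mod v 6).trans (Nat.mod_eq_of_lt hv)]; exact hp)
  refine ⟨elt d.toPt v * r, d.T_mul (d.A_T hA) (d.R_T hr), ?_⟩
  rw [d.φ_mul (d.A_T hA).1 hr.2, show d.φ (elt d.toPt v) = inn v from tup_elt d.toPt hv, show d.φ r = rel b sg from hφ]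
  rfl

theorem S1_invol {a : T6} (h : a ∈ I1) : ∃ x ∈ d.S1, x * x = 1 ∧ d.φ x = a := by
  obtain ⟨hL, hs, -, -⟩ := I1_facts h
  obtain ⟨x, hx, e⟩ := d.T_of_img hL
  have hxx := d.sq1_sound hx.1 (e ▸ hs)
  refine ⟨x, d.mem_S1.mpr ⟨hx, ?_⟩, hxx, e⟩
  have hM : T0 ∈ M1 := chk_sizes.2.2.2.2.2.2.2.2.1
  have h2 := List.all_eq_true.mp chk_M1 T0 hM
  simp only [Bool.and_eq_true, List.all_eq_true] at h2
  have h3 := h2.1.1.2 a h
  exact ((d.xcomm_iff d.t_C hx.1 d.t_sq hxx).mp (by rw [d.φ_t, e]; exact h3)).symm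

theorem z_S1 : z ∈ d.S1 := d.mem_S1.mpr ⟨⟨Commute.refl z, d.sz.symm⟩, d.t_C.symm⟩

theorem S1_surj {a : T6} (h : a ∈ L1) : ∃ x ∈ d.S1, d.φ x = a := by
  have h0 := List.all_eq_true.mp chk_gen a h
  simp only [List.any_eq_true, decide_eq_true_eq] at h0
  obtain ⟨b, hb, hc⟩ := h0
  obtain ⟨xb, hxb, hxb2, eb⟩ := d.S1_invol hb
  obtain ⟨xc, hxc, -, ec⟩ := d.S1_invol hc
  obtain ⟨xa, hxa, ea⟩ := d.T_of_img h
  refine ⟨xb * xc, mul_mem hxb hxc, ?_⟩
  have hbC := (d.mem_S1.mp hxb).1.1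
  rw [d.φ_mul hbC (d.mem_S1.mp hxc).1.1, ec, ← ea, ← eb, ← d.φ_mul hbC hxa.1, ← d.φ_mul hbC (hbC.mul_left hxa.1),
    ← mul_assoc, hxb2, one_mul]

theorem φ_S1 {x : G} (hx : x ∈ d.S1) : d.φ x ∈ L1 := by
  classical
  choose sel hsel hφ using fun a : {a // a ∈ L1} => d.S1_surj a.2
  let f : Bool × {a // a ∈ L1} → ↥d.S1 := fun u =>
    ⟨(bif u.1 then z else 1) * sel u.2, mul_mem (by cases u.1; exacts [one_mem _, d.z_S1]) (hsel u.2)⟩
  have hC : ∀ a, Commute (sel a) z := fun a => (d.mem_S1.mp (hsel a)).1.1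
  have hf : ∀ u, d.φ (f u) = u.2.1 := by
    rintro ⟨b, a⟩
    cases b
    · show d.φ (1 * sel a) = _; rw [one_mul]; exact hφ a
    · show d.φ (z * sel a) = _
      rw [d.φ_mul (Commute.refl z) (hC a), d.φ_z, ← d.φ_one, ← d.φ_mul (Commute.one_left z) (hC a), one_mul]
      exact hφ a
  have hinj : Function.Injective f := by
    rintro ⟨b, a⟩ ⟨b', a'⟩ e
    have ea : a = a' := Subtype.ext (by rw [← hf ⟨b, a⟩, ← hf ⟨b', a'⟩, e])
    subst ea
    have e' := mul_right_cancel (congrArg Subtype.val e : (bif b then z else 1) * sel a = (bif b' then z else 1) * sel a)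
    revert e'
    cases b <;> cases b' <;> simp [d.X.ne, Ne.symm d.X.ne]
  have hc : Nat.card (Bool × {a // a ∈ L1}) = Nat.card ↥d.S1 := by
    rw [d.card_S1, Nat.card_prod, Nat.card_congr (Equiv.subtypeEquivRight fun a => (List.mem_toFinset).symm),
      Nat.card_eq_finsetCard, List.toFinset_card_of_nodup chk_nodup.1, chk_nodup.2, Nat.card_eq_fintype_card,
      Fintype.card_bool]
  obtain ⟨u, hu⟩ := ((Nat.bijective_iff_injective_and_card f).mpr ⟨hinj, hc⟩).2 ⟨x, hx⟩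
  rw [show x = (f u : G) from (congrArg Subtype.val hu).symm, hf]
  exact u.2.2

theorem mem_S1_of {x : G} (hx : x ∈ d.S) (h : d.φ x ∈ L1) : x ∈ d.S1 := by
  obtain ⟨y, hy, e⟩ := d.S1_surj h
  rcases d.φ_eq (d.mem_S1.mp hy).1.1 (d.mem_S.mp hx).1 e with r | r <;> rw [r]
  · exact hy
  · exact mul_mem d.z_S1 hy

/-- The exchanging involution. -/
theorem exists_Y : ∃ y ∈ d.S, y * y = 1 ∧ d.φ y = Y0 ∧ y * d.s * y⁻¹ = z * d.s := by
  have h := chk_Y0
  simp only [Bool.and_eq_true, List.all_eq_true, Nat.beq_eq, decide_eq_true_eq, List.mem_range] at h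
  obtain ⟨⟨⟨h1, h2⟩, h3⟩, h4⟩ := h
  obtain ⟨y, hy, e⟩ := d.exists_tup Y0 (mem_T6_small Y0 (by simp)) Yw h3 h4
  have hYI : Y0 ∈ YI := chk_sizes.2.2.2.2.2.2.2.2.2.2.1
  have h5 := List.all_eq_true.mp chk_YI_class Y0 hYI
  simp only [Bool.and_eq_true, decide_eq_true_eq] at h5
  have h6 := List.all_eq_true.mp chk_YI Y0 h5.1.1.1
  rw [beq_iff_eq, decide_eq_true hYI] at h6
  have hyy := d.sq1_sound hy (by rw [e]; exact h6)
  refine ⟨y, d.mem_S.mpr ⟨hy, (d.xcomm_iff hy d.t_C hyy d.t_sq).mp (by rw [e, d.φ_t]; exact h2)⟩, hyy, e, ?_⟩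
  have hev := ev_tup d.toPt hy (c := 1) (by norm_num)
  rw [show tup d.toPt y = Y0 from e, h1, elt_one] at hev
  rw [← (cod_spec d.toPt (d.toCtx.norm hy d.hs)).2, ← hev, show (65 : ℕ) = 1 ^^^ 64 from rfl, elt_flip, elt_one]

theorem S_cases {y : G} (hy : y ∈ d.S) (hys : y * d.s * y⁻¹ = z * d.s) {x : G} (hx : x ∈ d.S) :
    x ∈ d.S1 ∨ y⁻¹ * x ∈ d.S1 := by
  rcases d.S_pair hx with e | e
  · exact Or.inl (d.mem_S1.mpr ⟨⟨(d.mem_S.mp hx).1, mul_inv_eq_iff_eq_mul.mp e⟩, (d.mem_S.mp hx).2⟩)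
  · refine Or.inr (d.mem_S1.mpr ⟨⟨((d.mem_S.mp hy).1.inv_left).mul_left (d.mem_S.mp hx).1, mul_inv_eq_iff_eq_mul.mp ?_⟩,
      ((d.mem_S.mp hy).2.inv_left).mul_left (d.mem_S.mp hx).2⟩)
    rw [show y⁻¹ * x * d.s * (y⁻¹ * x)⁻¹ = y⁻¹ * (x * d.s * x⁻¹) * y by group, e, ← hys]
    group

/-- An involution of the centralizer of the pair of involutions. -/
theorem φ_invol {x : G} (hx : x ∈ d.S) (hxx : x * x = 1) :
    (x ∈ d.S1 ∧ d.φ x ∈ I1) ∨ (x ∉ d.S1 ∧ d.φ x ∈ YI ∧ IsConj d.t x ∧ ¬ IsConj z x) := by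
  have hC := (d.mem_S.mp hx).1
  have hs := d.sq1_complete hC hxx
  by_cases h1 : x ∈ d.S1
  · refine Or.inl ⟨h1, ?_⟩
    rw [(L1_facts (d.φ_S1 h1)).2.1, decide_eq_true_eq] at hs
    exact hs
  · obtain ⟨y, hy, hyy, ey, hys⟩ := d.exists_Y
    have h2 := (d.S_cases hy hys hx).resolve_left h1
    have e : d.φ x = tm Y0 (d.φ (y⁻¹ * x)) := by
      rw [← ey, ← d.φ_mul (d.mem_S.mp hy).1 (d.mem_S1.mp h2).1.1, mul_inv_cancel_left]
    have hm : d.φ x ∈ L1.map (tm Y0) := e ▸ List.mem_map.mpr ⟨_, d.φ_S1 h2, rfl⟩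
    have h3 := List.all_eq_true.mp chk_YI _ hm
    rw [beq_iff_eq, hs] at h3
    have hYI : d.φ x ∈ YI := of_decide_eq_true h3.symm
    have h4 := List.all_eq_true.mp chk_YI_class _ hYI
    simp only [Bool.and_eq_true] at h4
    have hT := (d.isT_iff hC hxx).mp h4.1.1.2
    exact Or.inr ⟨h1, hYI, hT, fun hz => d.not_conj (hz.trans hT.symm)⟩

end Std

end Cfsg.Lib.SuzukiType
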