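import Cfsg.Agent.SuzukiType.Local.LocalK
import Cfsg.Agent.SuzukiType.Local.Outer

/-!
The order of a group of Suzuki type.
-/

set_option autoImplicit false
set_option maxRecDepth 100000
set_option maxHeartbeats 1000000
set_option linter.unusedSectionVars false

namespace Cfsg.Lib.SuzukiType

open Subgroup Cfsg.Lib.SuzukiType.Code Cfsg.Lib.SuzukiType.Local
open Cfsg.Lib.HallJankoType (PairSet pairInvol pairInvol_conj order_two_of_conj even_of_not_conj two_class_formula)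
open Cfsg.Lib.InvolCalc (central_spec sq_of_order_two order_two_of_mul_self ne_one_of_order_two)

universe u

variable {G : Type u} [Group G] [Finite G] {z : G}

/-- A count over an orbit: all fibres have the size of the fibre over the base point. -/
theorem card_homog {α : Type*} [Finite α] (H : Subgroup G) (P : G → Prop) (b : G) (R : G → α → Prop)
    (act : G → α → α) (hb : ∀ p, P p → ∃ h ∈ H, h * b * h⁻¹ = p)
    (hinv : ∀ h a, act h⁻¹ (act h a) = a)
    (hR : ∀ h ∈ H, ∀ p a, R p a → R (h * p * h⁻¹) (act h a)) :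
    Nat.card {u : G × α // P u.1 ∧ R u.1 u.2} = Nat.card {p : G // P p} * Nat.card {a : α // R b a} := by
  rw [← Nat.card_prod]
  have sp : ∀ p : {p : G // P p}, ∃ h, h ∈ H ∧ h * b * h⁻¹ = p.1 := fun p => by
    obtain ⟨h, hh, e⟩ := hb p.1 p.2
    exact ⟨h, hh, e⟩
  choose sel hsel hconj using sp
  refine Nat.card_congr
    { toFun := fun u => (⟨u.1.1, u.2.1⟩, ⟨act (sel ⟨u.1.1, u.2.1⟩)⁻¹ u.1.2, by
        have h := hR _ (inv_mem (hsel ⟨u.1.1, u.2.1⟩)) _ _ u.2.2
        have e : sel ⟨u.1.1, u.2.1⟩ * b * (sel ⟨u.1.1, u.2.1⟩)⁻¹ = u.1.1 := hconj ⟨u.1.1, u.2.1⟩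
        rwa [show (sel ⟨u.1.1, u.2.1⟩)⁻¹ * u.1.1 * (sel ⟨u.1.1, u.2.1⟩)⁻¹⁻¹ = b by
          calc _ = (sel ⟨u.1.1, u.2.1⟩)⁻¹ * (sel ⟨u.1.1, u.2.1⟩ * b * (sel ⟨u.1.1, u.2.1⟩)⁻¹) *
                (sel ⟨u.1.1, u.2.1⟩)⁻¹⁻¹ := congrArg (fun w => (sel ⟨u.1.1, u.2.1⟩)⁻¹ * w * (sel ⟨u.1.1, u.2.1⟩)⁻¹⁻¹) e.symm
            _ = b := by group] at h⟩)
      invFun := fun v => ⟨(v.1.1, act (sel v.1) v.2.1), v.1.2, by
        have h := hR _ (hsel v.1) _ _ v.2.2
        rwa [hconj v.1] at h⟩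
      left_inv := fun u => Subtype.ext (Prod.ext rfl (by
        have := hinv (sel ⟨u.1.1, u.2.1⟩)⁻¹ u.1.2
        rwa [inv_inv] at this))
      right_inv := fun v => Prod.ext rfl (Subtype.ext (hinv _ _)) }

theorem conj_cancel (h x : G) : h⁻¹ * (h * x * h⁻¹) * h⁻¹⁻¹ = x := by group

theorem flip_inv {p q : G} (hp : p * p = 1) (hq : q * q = 1) (n : ℕ) : p * (p * q) ^ n * p⁻¹ = ((p * q) ^ n)⁻¹ := by
  rw [← conj_pow, ← inv_pow]
  congr 1
  rw [← mul_assoc, hp, one_mul, mul_inv_rev, inv_eq_of_mul_eq_one_right hq]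

theorem pq_conj (h p q : G) : h * p * h⁻¹ * (h * q * h⁻¹) = h * (p * q) * h⁻¹ := by group

theorem orderOf_conj_eq (h x : G) : orderOf (h * x * h⁻¹) = orderOf x := (MulAut.conj h).orderOf_eq x

namespace Four

variable (d : Four z)

theorem pr_pow {a : G} (ha : Commute a d.t) (k : ℕ) : d.pr a ha ^ k = d.pr (a ^ k) (ha.pow_left k) :=
  (map_pow (QuotientGroup.mk' d.Usub) (⟨a, d.mem_Ct.mpr ha⟩ : ↥d.Ct) k).symm

theorem image_dvd {w : G} (hw : Commute w d.t) :
    orderOf (d.pr w hw) ∣ orderOf w ∧ w ^ orderOf (d.pr w hw) ∈ d.U ∧ orderOf w ∣ 2 * orderOf (d.pr w hw) := by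
  have hU : w ^ orderOf (d.pr w hw) ∈ d.U := by
    have h := pow_orderOf_eq_one (d.pr w hw)
    rw [d.pr_pow, d.pr_one_iff] at h
    exact h
  refine ⟨orderOf_dvd_of_pow_eq_one ?_, hU, orderOf_dvd_of_pow_eq_one ?_⟩
  · rw [d.pr_pow, d.pr_one_iff, pow_orderOf_eq_one]; exact one_mem _
  · rw [mul_comm, pow_mul, pow_two]; exact d.U_sq hU

/-- The product with a member of the first class: if the image has even order, the order is the same. -/
theorem even_image {p q : G} (hp : d.Zt p) (hqt : Commute q d.t) (hqq : q * q = 1)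
    (he : Even (orderOf (d.pr (p * q) (hp.1.mul_left hqt)))) :
    orderOf (p * q) = orderOf (d.pr (p * q) (hp.1.mul_left hqt)) := by
  obtain ⟨h1, -, -⟩ := d.image_dvd (hp.1.mul_left hqt)
  refine Nat.dvd_antisymm (orderOf_dvd_of_pow_eq_one ?_) h1
  obtain ⟨n, hn⟩ := he
  rw [hn, pow_add]
  set r := (p * q) ^ n with hr
  have hrt : Commute r d.t := (hp.1.mul_left hqt).pow_left n
  have hflip : p * r * p⁻¹ = r⁻¹ := flip_inv (d.Zt_sq hp) hqq n
  have hr2 : d.pr r hrt * d.pr r hrt = 1 := by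
    rw [← d.pr_pow (hp.1.mul_left hqt) n, ← pow_add, ← hn, pow_orderOf_eq_one]
  obtain ⟨h, hh, e⟩ := d.to_z hp
  have hrt' : Commute (h * r * h⁻¹) d.t := (hh.mul_left hrt).mul_left hh.inv_left
  have hS : h * r * h⁻¹ ∈ d.S := by
    refine (d.mem_CZ hrt').mp (mem_centralizer_singleton_iff.mpr (mul_inv_eq_iff_eq_mul.mp ?_).symm)
    show d.zb * d.pr (h * r * h⁻¹) hrt' * d.zb⁻¹ = d.pr (h * r * h⁻¹) hrt'
    rw [zb, d.pr_conj, d.pr_eq]
    have e1 : z * (h * r * h⁻¹) * z⁻¹ = (h * r * h⁻¹)⁻¹ := by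
      calc z * (h * r * h⁻¹) * z⁻¹ = h * p * h⁻¹ * (h * r * h⁻¹) * (h * p * h⁻¹)⁻¹ := by
            exact congrArg (fun w => w * (h * r * h⁻¹) * w⁻¹) e.symm
        _ = h * (p * r * p⁻¹) * h⁻¹ := by group
        _ = _ := by rw [hflip]; group
    rw [e1, inv_inv]
    rw [d.pr_mul hrt hrt, d.pr_one_iff] at hr2
    rw [show h * r * h⁻¹ * (h * r * h⁻¹) = h * (r * r) * h⁻¹ by group]
    exact d.Ct_U hh hr2
  have hc : Commute r p := by
    refine (Commute.conj_iff h).mp ?_
    have := (d.mem_S.mp hS).1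
    exact e.symm ▸ this
  rw [hc.symm.eq, mul_inv_cancel_right] at hflip
  exact mul_eq_one_iff_eq_inv.mpr hflip

theorem Zt_of_odd {p x : G} (hp : d.Zt p) (hxt : Commute x d.t) (hxx : x * x = 1)
    (ho : Odd (orderOf (p * x))) : d.Zt x := by
  have h1 := order_two_of_conj d.hz hp.2
  have hx1 : x ≠ 1 := fun e => by
    rw [e, mul_one, h1] at ho
    exact absurd ho (by decide)
  obtain ⟨c, hc, e⟩ := Cfsg.Lib.InvolCalc.conj_of_odd h1 (order_two_of_mul_self hxx hx1) ho
  have hle : closure ({p, x} : Set G) ≤ d.Ct := (closure_le _).mpr (by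
    rintro w (rfl | hw)
    · exact d.mem_Ct.mpr hp.1
    · rw [Set.mem_singleton_iff] at hw; subst hw; exact d.mem_Ct.mpr hxt)
  rw [← e]
  exact d.Zt_conj hp (d.mem_Ct.mp (hle hc))

/-- For two members of the first class the image of the product has the same order. -/
theorem Zt_even {p x : G} (hp : d.Zt p) (hx : d.Zt x) (hev : Even (orderOf (p * x))) :
    orderOf (d.pr (p * x) (hp.1.mul_left hx.1)) = orderOf (p * x) := by
  set e := orderOf (d.pr (p * x) (hp.1.mul_left hx.1)) with he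
  rcases Nat.even_or_odd e with h | h
  · exact (d.even_image hp hx.1 (d.Zt_sq hx) h).symm
  · exfalso
    obtain ⟨h1, hU, h2⟩ := d.image_dvd (hp.1.mul_left hx.1)
    set v := (p * x) ^ e with hv
    have hne : v ≠ 1 := fun h0 => by
      have := orderOf_dvd_of_pow_eq_one h0
      exact Nat.not_even_iff_odd.mpr (h.of_dvd_nat this) hev
    have hcx : Commute x v := d.Zt_U hx hU
    have hxv : x * v * (x * v) = 1 := by rw [hcx.symm.mul_mul_mul_comm, d.Zt_sq hx, d.U_sq hU, one_mul]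
    have hvt : Commute v d.t := d.mem_Ct.mp (d.U_le_Ct hU)
    have hodd : Odd (orderOf (p * (x * v))) := by
      refine h.of_dvd_nat (orderOf_dvd_of_pow_eq_one ?_)
      obtain ⟨j, hj⟩ := h
      have hcv : Commute (p * x) v := Commute.self_pow _ _
      rw [← mul_assoc, hcv.mul_pow, ← hv, ← pow_succ', hj, show 2 * j + 1 + 1 = 2 * (j + 1) by ring, pow_mul, pow_two,
        d.U_sq hU, one_pow]
    exact hne (d.Zt_coset hx hU (d.Zt_of_odd hp (hx.1.mul_left hvt) hxv hodd))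

theorem tz_conj : IsConj d.t (d.t * z) := by
  have hsq : d.t * z * (d.t * z) = 1 := by rw [d.t_C.symm.mul_mul_mul_comm, d.t_sq, d.X.zz, one_mul]
  have hC : Commute (d.t * z) z := d.t_C.mul_left (Commute.refl z)
  have hφ : d.φ (d.t * z) = T0 := by rw [d.t_C.eq, d.φ_mul (Commute.refl z) d.t_C, d.φ_z, ← d.φ_one,
    ← d.φ_mul (Commute.one_left z) d.t_C, one_mul, d.φ_t]
  exact (d.isT_iff hC hsq).mp (by rw [hφ]; exact chk_sizes.2.2.2.2.2.2.2.2.2.2.2)

theorem t_pair_order {w : G} (hw : Commute d.t w) (ho : Odd (orderOf w)) :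
    orderOf (d.t * w) = 2 * orderOf w ∧ (d.t * w) ^ orderOf w = d.t := by
  have ht : orderOf d.t = 2 := order_two_of_mul_self d.t_sq d.t_ne
  refine ⟨?_, ?_⟩
  · rw [hw.orderOf_mul_eq_mul_orderOf_of_coprime (by rw [ht]; exact Nat.coprime_two_left.mpr ho), ht]
  · rw [hw.mul_pow, pow_orderOf_eq_one, mul_one]
    obtain ⟨m, hm⟩ := ho
    rw [hm, pow_succ, pow_mul, pow_two, d.t_sq, one_pow, one_mul]

include d in
theorem z_order : orderOf z = 2 := d.hz

theorem z_Zt : d.Zt z := d.Tri_conj (Or.inl rfl)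

/-- Pairs over the second class, with first member the central involution. -/
theorem fibre_t_iff (q : G) : (IsConj d.t q ∧ pairInvol z q = d.t) ↔
    ∃ x, d.Zt x ∧ Odd (orderOf (z * x)) ∧ q = d.t * x := by
  constructor
  · rintro ⟨hq, hpi⟩
    have ht2 : orderOf d.t = 2 := order_two_of_mul_self d.t_sq d.t_ne
    have h2 := order_two_of_conj ht2 hq
    have hev := even_of_not_conj d.z_order h2 fun e => d.not_conj (e.trans hq.symm)
    obtain ⟨-, c1, c2⟩ := central_spec d.z_order h2 hev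
    rw [show (z * q) ^ (orderOf (z * q) / 2) = d.t from hpi] at c1 c2
    have hwt : Commute (z * q) d.t := c1.symm.mul_left c2.symm
    have hqq := sq_of_order_two h2
    obtain ⟨h1, hU, hd2⟩ := d.image_dvd hwt
    set w := z * q with hw
    set e := orderOf (d.pr w hwt) with he
    have hpos : 0 < orderOf w := orderOf_pos w
    obtain ⟨k, hk⟩ := hev
    have hhalf : w ^ k = d.t := by
      rw [← hpi, pairInvol, ← hw, hk]
      congr 1
      omega
    have hek : e ∣ k := by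
      refine orderOf_dvd_of_pow_eq_one ?_
      rw [d.pr_pow, d.pr_one_iff, hhalf]
      exact d.t_U
    have hodd : Odd e := by
      rw [← Nat.not_even_iff_odd]
      intro hev'
      have h := d.even_image d.z_Zt c2.symm hqq hev'
      change orderOf w = e at h
      have := Nat.le_of_dvd (by omega) hek
      omega
    have hke : k = e := by
      obtain ⟨j, hj⟩ := hek
      have : 2 * e * j ∣ 2 * e * 1 := by rw [mul_one, mul_assoc, ← hj, two_mul k, ← hk]; exact hd2
      have hj1 : j = 1 := Nat.dvd_one.mp (Nat.dvd_of_mul_dvd_mul_left (by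
        have : 0 < e := orderOf_pos _
        omega) this)
      rw [hj, hj1, mul_one]
    have hsq : d.t * q * (d.t * q) = 1 := by rw [c2.symm.mul_mul_mul_comm, d.t_sq, hqq, one_mul]
    have hxw : z * (d.t * q) = d.t * w := by rw [hw, ← mul_assoc, ← mul_assoc, d.t_C.eq]
    have hox : Odd (orderOf (z * (d.t * q))) := by
      refine hodd.of_dvd_nat (orderOf_dvd_of_pow_eq_one ?_)
      rw [hxw, hwt.symm.mul_pow, ← hke, hhalf, ← pow_succ, hke]
      obtain ⟨m, hm⟩ := hodd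
      rw [hm, show 2 * m + 1 + 1 = 2 * (m + 1) by ring, pow_mul, pow_two, d.t_sq, one_pow]
    refine ⟨d.t * q, d.Zt_of_odd d.z_Zt ((Commute.refl d.t).mul_left c2.symm) hsq hox, hox, ?_⟩
    rw [← mul_assoc, d.t_sq, one_mul]
  · rintro ⟨x, hx, ho, rfl⟩
    have hzx : Commute d.t (z * x) := d.t_C.mul_right hx.1.symm
    obtain ⟨h1, h2⟩ := d.t_pair_order hzx ho
    have hprod : z * (d.t * x) = d.t * (z * x) := by rw [← mul_assoc, ← mul_assoc, d.t_C.eq]
    refine ⟨?_, by rw [pairInvol, hprod, h1, Nat.mul_div_cancel_left _ (by norm_num), h2]⟩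
    obtain ⟨c, hc, e⟩ := Cfsg.Lib.InvolCalc.conj_of_odd d.z_order (order_two_of_conj d.hz hx.2) ho
    have hct : Commute c d.t := by
      have hle : closure ({z, x} : Set G) ≤ d.Ct := (closure_le _).mpr (by
        rintro w (rfl | hw)
        · exact d.mem_Ct.mpr d.t_C.symm
        · rw [Set.mem_singleton_iff] at hw; subst hw; exact d.mem_Ct.mpr hx.1)
      exact d.mem_Ct.mp (hle hc)
    refine d.tz_conj.trans (isConj_iff.mpr ⟨c, ?_⟩)
    rw [show c * (d.t * z) * c⁻¹ = c * d.t * c⁻¹ * (c * z * c⁻¹) by group, e, hct.eq, mul_inv_cancel_right]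

/-- Pairs of the first class in the second centralizer with even product and given central involution. -/
def Rz (c : G) (u : G × G) : Prop :=
  d.Zt u.1 ∧ d.Zt u.2 ∧ Even (orderOf (u.1 * u.2)) ∧ c⁻¹ * pairInvol u.1 u.2 ∈ d.U

theorem Rz_conj {h : G} (hh : Commute h d.t) {c : G} {u : G × G} (hu : d.Rz c u) :
    d.Rz (h * c * h⁻¹) (h * u.1 * h⁻¹, h * u.2 * h⁻¹) := by
  obtain ⟨h1, h2, h3, h4⟩ := hu
  refine ⟨d.Zt_conj h1 hh, d.Zt_conj h2 hh, by rw [pq_conj, orderOf_conj_eq]; exact h3, ?_⟩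
  rw [pairInvol_conj, show (h * c * h⁻¹)⁻¹ * (h * pairInvol u.1 u.2 * h⁻¹) = h * (c⁻¹ * pairInvol u.1 u.2) * h⁻¹ by
    group]
  exact d.Ct_U hh h4

theorem z_mul_Zt {p : G} (hp : d.Zt p) (hpz : Commute p z) (hne : p ≠ z) : d.Zt (p * z) ∧ p * z ≠ z := by
  have hsq : p * z * (p * z) = 1 := by rw [hpz.symm.mul_mul_mul_comm, d.Zt_sq hp, d.X.zz, one_mul]
  have hC : Commute (p * z) z := hpz.mul_left (Commute.refl z)
  have hφ : d.φ (p * z) = d.φ p := by
    rw [hpz.eq, d.φ_mul (Commute.refl z) hpz, d.φ_z, ← d.φ_one, ← d.φ_mul (Commute.one_left z) hpz, one_mul]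
  have h := (d.isZ_iff hC hsq).mp (by rw [hφ]; exact (d.isZ_iff hpz (d.Zt_sq hp)).mpr ⟨hp.2, hne⟩)
  exact ⟨⟨hp.1.mul_left d.t_C.symm, h.1⟩, h.2⟩

theorem Zt_S_img {p : G} (hp : d.Zt p) (hpz : Commute p z) :
    p ∈ d.S1 ∧ (p = z ∧ d.φ p = t1 ∨ p ≠ z ∧ d.φ p ∈ Z1) := by
  have hS := d.Zt_S hp hpz
  refine ⟨hS, ?_⟩
  by_cases e : p = z
  · exact Or.inl ⟨e, by rw [e]; exact d.φ_z⟩
  · rcases d.φ_invol (d.S1_le hS) (d.Zt_sq hp) with ⟨-, hI⟩ | ⟨h, -⟩
    · have := (d.isZ_iff hpz (d.Zt_sq hp)).mpr ⟨hp.2, e⟩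
      rw [(Std.I1_facts hI).2.2.1, decide_eq_true_eq] at this
      exact Or.inr ⟨e, this⟩
    · exact absurd hS h

/-- The pairs over the centre: commuting ones and anticommuting ones. -/
theorem Rz_iff (p x : G) : d.Rz z (p, x) ↔
    (d.Zt p ∧ Commute p z ∧ p ≠ z ∧ x = p * z) ∨
      (d.Zt p ∧ Commute p z ∧ p ≠ z ∧ d.Zt x ∧ Commute x z ∧ x ≠ z ∧ p * x = z * (x * p)) := by
  constructor
  · rintro ⟨hp, hx, hev, hU⟩
    simp only at hp hx hev hU
    have o1 := order_two_of_conj d.hz hp.2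
    have o2 := order_two_of_conj d.hz hx.2
    obtain ⟨hr, c1, c2⟩ := central_spec o1 o2 hev
    set r := pairInvol p x with hrdef
    change Commute r p at c1
    change Commute r x at c2
    set v := z⁻¹ * r with hv
    have hzr : z = r * v⁻¹ := by rw [hv]; group
    have hpz : Commute p z := by rw [hzr]; exact c1.symm.mul_right (d.Zt_U hp hU).inv_right
    have hxz : Commute x z := by rw [hzr]; exact c2.symm.mul_right (d.Zt_U hx hU).inv_right
    obtain ⟨hpS, hpi⟩ := d.Zt_S_img hp hpz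
    obtain ⟨hxS, hxi⟩ := d.Zt_S_img hx hxz
    have hwC : Commute (p * x) z := hpz.mul_left hxz
    have hmem : ∀ {a}, (a = z ∧ d.φ a = t1 ∨ a ≠ z ∧ d.φ a ∈ Z1) → d.φ a ∈ t1 :: Z1 := fun h =>
      h.elim (fun h => h.2 ▸ List.mem_cons_self) fun h => List.mem_cons_of_mem _ h.2
    have h4 : p * x * (p * x) * (p * x * (p * x)) = 1 := by
      have h := List.all_eq_true.mp chk_quad _ (hmem hpi)
      simp only [quadOK, List.all_eq_true] at h
      have h' := h _ (hmem hxi)
      rw [← d.φ_mul hpz hxz, ← d.φ_mul hwC hwC] at h'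
      exact d.sq1_sound (hwC.mul_left hwC) h'
    have hsplit : v = 1 → r = z := fun h => by rw [h, inv_one, mul_one] at hzr; exact hzr.symm
    by_cases hsq : p * x * (p * x) = 1
    · left
      have hne : p * x ≠ 1 := fun e => by rw [e, orderOf_one] at hev; exact absurd hev (by decide)
      have hreq : r = p * x := by
        rw [hrdef, pairInvol, order_two_of_mul_self hsq hne, show 2 / 2 = 1 from rfl, pow_one]
      have hpne : p ≠ z := by
        intro e
        have hxU : x ∈ d.U := by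
          have h : z⁻¹ * r ∈ d.U := hU
          rw [hreq, e, inv_mul_cancel_left] at h
          exact h
        rcases eq_or_ne x 1 with r1 | r1
        · exact ne_one_of_order_two o2 r1
        · exact d.not_conj (hx.2.trans (d.U_conj hxU r1).symm)
      have hxeq : x = p * z * v := by
        rw [hv, hreq, inv_eq_of_mul_eq_one_right d.X.zz]
        calc x = p * (z * z) * (p * x) := by rw [d.X.zz, mul_one, ← mul_assoc, d.Zt_sq hp, one_mul]
          _ = _ := by group
      refine ⟨hp, hpz, hpne, ?_⟩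
      rw [hxeq, d.Zt_coset (d.z_mul_Zt hp hpz hpne).1 hU (by rw [← hxeq]; exact hx), mul_one]
    · right
      have hord : orderOf (p * x) = 4 := by
        haveI : Fact (Nat.Prime 2) := ⟨Nat.prime_two⟩
        exact orderOf_eq_prime_pow (p := 2) (n := 1) (by rw [pow_one, pow_two]; exact hsq)
          (by rw [show (2 : ℕ) ^ (1 + 1) = 2 + 2 from rfl, pow_add, pow_two]; exact h4)
      have hreq : r = p * x * (p * x) := by rw [hrdef, pairInvol, hord, show 4 / 2 = 2 from rfl, pow_two]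
      have hv1 : v = 1 := by
        have hL := d.φ_S1 (mul_mem hpS hxS)
        have hchk := List.all_eq_true.mp (List.all_eq_true.mp chk_sqr _ hL) _ d.φ_u
        rw [Bool.not_eq_true', decide_eq_false_iff_not, ← d.φ_mul hwC hwC, ← hreq] at hchk
        have hvC : Commute v z := (d.mem_S1.mp (d.mem_M.mp (d.mem_U.mp hU).1).1).1.1
        have hrv : d.φ r = d.φ v := by
          rw [show r = z * v by rw [hv, mul_inv_cancel_left], d.φ_mul (Commute.refl z) hvC, d.φ_z, ← d.φ_one,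
            ← d.φ_mul (Commute.one_left z) hvC, one_mul]
        rcases d.U_cases hU with q | q | q | q
        · exact q
        · exact absurd (by rw [hrv, q, d.φ_t]; simp) hchk
        · exact absurd (by rw [hrv, q]; simp) hchk
        · exact absurd (by rw [hrv, q, d.φ_mul d.t_C d.u_C, d.φ_t]; simp) hchk
      have hrz : p * x * (p * x) = z := hreq ▸ hsplit hv1
      have hne : ∀ {a b : G}, d.Zt b → Commute b z → a = z → a * b * (a * b) = 1 := fun hb hbz e => by
        subst e; rw [hbz.mul_mul_mul_comm, d.X.zz, d.Zt_sq hb, one_mul]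
      refine ⟨hp, hpz, fun e => hsq (hne hx hxz e), hx, hxz, fun e => hsq ?_, ?_⟩
      · rw [e, hpz.symm.mul_mul_mul_comm, d.Zt_sq hp, d.X.zz, one_mul]
      · calc p * x = p * x * (p * x) * ((p * x)⁻¹) := by group
          _ = z * (x * p) := by
            rw [hrz, mul_inv_rev, inv_eq_of_mul_eq_one_right (d.Zt_sq hp), inv_eq_of_mul_eq_one_right (d.Zt_sq hx)]
  · rintro (⟨hp, hpz, hne, rfl⟩ | ⟨hp, hpz, hpne, hx, hxz, hxne, e⟩)
    · have hw : p * (p * z) = z := by rw [← mul_assoc, d.Zt_sq hp, one_mul]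
      refine ⟨hp, (d.z_mul_Zt hp hpz hne).1, ?_, ?_⟩
      · simp only [hw, d.z_order]; exact even_two
      · simp only [pairInvol, hw, d.z_order]
        rw [show 2 / 2 = 1 from rfl, pow_one, inv_mul_cancel]; exact one_mem _
    · have hsq : p * x * (p * x) = z := by
        calc p * x * (p * x) = z * (x * p) * (p * x) := by nth_rewrite 1 [e]; rfl
          _ = z * (x * (p * p) * x) := by group
          _ = z := by rw [d.Zt_sq hp, mul_one, d.Zt_sq hx, mul_one]
      have hord : orderOf (p * x) = 4 := by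
        haveI : Fact (Nat.Prime 2) := ⟨Nat.prime_two⟩
        exact orderOf_eq_prime_pow (p := 2) (n := 1) (by rw [pow_one, pow_two, hsq]; exact d.X.ne)
          (by rw [show (2 : ℕ) ^ (1 + 1) = 2 + 2 from rfl, pow_add, pow_two, hsq, d.X.zz])
      refine ⟨hp, hx, ?_, ?_⟩
      · simp only [hord]; decide
      · simp only [pairInvol, hord]
        rw [show 4 / 2 = 2 from rfl, pow_two, hsq, inv_mul_cancel]; exact one_mem _

theorem card_Rz : Nat.card {u : G × G // d.Rz z u} = 122 := by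
  classical
  obtain ⟨-, -, hnd, hlen, -⟩ := chk_sizes
  let L2 := (Z1.flatMap fun a => Z1.map fun b => (a, b)).filter fun u => !decide (u.1 = u.2) && xanti u.1 u.2
  let A := {a : T6 // a ∈ Z1}
  let B := {u : T6 × T6 // u ∈ L2}
  have hI : ∀ a ∈ Z1, a ∈ I1 := by decide +kernel
  choose sel hsel hsq hφ using fun a : A => d.S1_invol (hI _ a.2)
  let lift : Bool → A → G := fun b a => (bif b then z else 1) * sel a
  have hP : ∀ b a, d.Zt (lift b a) ∧ Commute (lift b a) z ∧ lift b a ≠ z ∧ d.φ (lift b a) = a.1 := by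
    intro b a
    have hm : lift b a ∈ d.S1 := mul_mem (by cases b; exacts [one_mem _, d.z_S1]) (hsel a)
    have hC := (d.mem_S1.mp hm).1.1
    have hCs := (d.mem_S1.mp (hsel a)).1.1
    have e : d.φ (lift b a) = a.1 := by
      cases b
      · show d.φ (1 * sel a) = _; rw [one_mul]; exact hφ a
      · show d.φ (z * sel a) = _
        rw [d.φ_mul (Commute.refl z) hCs, d.φ_z, ← d.φ_one, ← d.φ_mul (Commute.one_left z) hCs, one_mul]
        exact hφ a
    have hxx : lift b a * lift b a = 1 := d.sq1_sound hC (by rw [e]; exact (Std.I1_facts (hI _ a.2)).2.1)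
    have hz := (d.isZ_iff hC hxx).mp (by rw [e, (Std.I1_facts (hI _ a.2)).2.2.1, decide_eq_true a.2])
    exact ⟨⟨(d.mem_S1.mp hm).2, hz.1⟩, hC, hz.2, e⟩
  have hsurj : ∀ p, d.Zt p → Commute p z → p ≠ z → ∃ b a, lift b a = p := by
    intro p hp hpz hne
    obtain ⟨-, h | ⟨-, hm⟩⟩ := d.Zt_S_img hp hpz
    · exact absurd h.1 hne
    · rcases d.φ_eq (d.mem_S1.mp (hsel ⟨_, hm⟩)).1.1 hpz (hφ _) with r | r
      · exact ⟨false, ⟨_, hm⟩, by show 1 * _ = p; rw [one_mul]; exact r.symm⟩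
      · exact ⟨true, ⟨_, hm⟩, r.symm⟩
  have hinj : ∀ b a b' a', lift b a = lift b' a' → b = b' ∧ a = a' := by
    intro b a b' a' e
    have ea : a = a' := Subtype.ext (by rw [← (hP b a).2.2.2, ← (hP b' a').2.2.2, e])
    subst ea
    refine ⟨?_, rfl⟩
    have e' := mul_right_cancel e
    revert e'
    cases b <;> cases b' <;> simp [d.X.ne, Ne.symm d.X.ne]
  have hB : ∀ u : B, u.1.1 ∈ Z1 ∧ u.1.2 ∈ Z1 ∧ u.1.1 ≠ u.1.2 ∧ xanti u.1.1 u.1.2 = true := by
    rintro ⟨⟨a, b⟩, h⟩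
    simp only [L2, List.mem_filter, List.mem_flatMap, List.mem_map, Bool.and_eq_true, Bool.not_eq_true',
      decide_eq_false_iff_not, Prod.mk.injEq] at h
    obtain ⟨⟨a', ha, b', hb, rfl, rfl⟩, h1, h2⟩ := h
    exact ⟨ha, hb, h1, h2⟩
  let f : (Bool × A) ⊕ (Bool × Bool × B) → {u : G × G // d.Rz z u}
    | Sum.inl (b, a) => ⟨(lift b a, lift b a * z),
        (d.Rz_iff _ _).mpr (Or.inl ⟨(hP b a).1, (hP b a).2.1, (hP b a).2.2.1, rfl⟩)⟩
    | Sum.inr (b, b', u) => ⟨(lift b ⟨_, (hB u).1⟩, lift b' ⟨_, (hB u).2.1⟩),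
        (d.Rz_iff _ _).mpr (Or.inr ⟨(hP b _).1, (hP b _).2.1, (hP b _).2.2.1, (hP b' _).1, (hP b' _).2.1,
          (hP b' _).2.2.1, (d.xanti_iff (hP b _).2.1 (hP b' _).2.1 (d.Zt_sq (hP b _).1) (d.Zt_sq (hP b' _).1)).mp
            (by rw [(hP b _).2.2.2, (hP b' _).2.2.2]; exact (hB u).2.2.2)⟩)⟩
  have hφz : ∀ b a, d.φ (lift b a * z) = a.1 := fun b a => by
    rw [(hP b a).2.1.eq, d.φ_mul (Commute.refl z) (hP b a).2.1, d.φ_z, ← d.φ_one,
      ← d.φ_mul (Commute.one_left z) (hP b a).2.1, one_mul]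
    exact (hP b a).2.2.2
  have hf : Function.Bijective f := by
    constructor
    · rintro (⟨b, a⟩ | ⟨b, b', u⟩) (⟨c, a'⟩ | ⟨c, c', u'⟩) e
      · obtain ⟨r1, r2⟩ := hinj _ _ _ _ (congrArg (fun w => w.1.1) e)
        rw [r1, r2]
      · exfalso
        have r1 := (hinj _ _ _ _ (congrArg (fun w => w.1.1) e)).2
        have r2 : lift b a * z = lift c' ⟨_, (hB u').2.1⟩ := congrArg (fun w => w.1.2) e
        have r3 := congrArg d.φ r2
        rw [hφz, (hP c' _).2.2.2] at r3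
        exact (hB u').2.2.1 ((congrArg Subtype.val r1).symm.trans r3)
      · exfalso
        have r1 := (hinj _ _ _ _ (congrArg (fun w => w.1.1) e)).2
        have r2 : lift b' ⟨_, (hB u).2.1⟩ = lift c a' * z := congrArg (fun w => w.1.2) e
        have r3 := congrArg d.φ r2
        rw [hφz, (hP b' _).2.2.2] at r3
        exact (hB u).2.2.1 ((congrArg Subtype.val r1).trans r3.symm)
      · obtain ⟨r1, r2⟩ := hinj _ _ _ _ (congrArg (fun w => w.1.1) e)
        obtain ⟨r3, r4⟩ := hinj _ _ _ _ (congrArg (fun w => w.1.2) e)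
        have : u = u' := Subtype.ext (Prod.ext (congrArg Subtype.val r2 :) (congrArg Subtype.val r4 :))
        rw [r1, r3, this]
    · rintro ⟨⟨p, x⟩, h⟩
      rcases (d.Rz_iff p x).mp h with ⟨hp, hpz, hne, rfl⟩ | ⟨hp, hpz, hne, hx, hxz, hxne, e⟩
      · obtain ⟨b, a, rfl⟩ := hsurj p hp hpz hne
        exact ⟨Sum.inl (b, a), rfl⟩
      · obtain ⟨b, a, rfl⟩ := hsurj p hp hpz hne
        obtain ⟨b', a', rfl⟩ := hsurj x hx hxz hxne
        have hanti : xanti a.1 a'.1 = true := by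
          rw [← (hP b a).2.2.2, ← (hP b' a').2.2.2]
          exact (d.xanti_iff hpz hxz (d.Zt_sq hp) (d.Zt_sq hx)).mpr e
        have hne' : a.1 ≠ a'.1 := by
          intro r
          rw [r] at hanti
          have h1 := (d.xanti_iff hxz hxz (d.Zt_sq hx) (d.Zt_sq hx)).mp (by rw [(hP b' a').2.2.2]; exact hanti)
          rw [d.Zt_sq hx, mul_one] at h1
          exact d.X.ne h1.symm
        have hm : (a.1, a'.1) ∈ L2 := List.mem_filter.mpr
          ⟨List.mem_flatMap.mpr ⟨a.1, a.2, List.mem_map.mpr ⟨a'.1, a'.2, rfl⟩⟩, by simp [hne', hanti]⟩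
        exact ⟨Sum.inr (b, b', ⟨_, hm⟩), rfl⟩
  have hA : Nat.card A = 13 := by
    rw [Nat.card_congr (Equiv.subtypeEquivRight fun a => (List.mem_toFinset).symm), Nat.card_eq_finsetCard,
      List.toFinset_card_of_nodup hnd, hlen]
  have hBc : 26 + 4 * Nat.card B = 122 := by
    rw [Nat.card_congr (Equiv.subtypeEquivRight fun a => (List.mem_toFinset).symm), Nat.card_eq_finsetCard,
      List.toFinset_card_of_nodup (List.Nodup.filter _ (by decide +kernel)), ← List.countP_eq_length_filter]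
    have h := chk_P
    rw [show (Z1.countP fun _ => true) = 13 by rw [List.countP_true, hlen]] at h
    omega
  rw [← Nat.card_congr (Equiv.ofBijective f hf), Nat.card_sum, Nat.card_prod, Nat.card_prod, Nat.card_prod, hA,
    show Nat.card Bool = 2 by simp]
  omega

theorem mem_Ct_conj {h : G} (hh : h ∈ d.Ct) : Commute h d.t := d.mem_Ct.mp hh

theorem Zt_orbit {p : G} (hp : d.Zt p) : ∃ h ∈ d.Ct, h * z * h⁻¹ = p := by
  obtain ⟨h, hh, e⟩ := d.to_z hp
  refine ⟨h⁻¹, inv_mem (d.mem_Ct.mpr hh), ?_⟩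
  calc h⁻¹ * z * h⁻¹⁻¹ = h⁻¹ * (h * p * h⁻¹) * h⁻¹⁻¹ := congrArg (fun w => h⁻¹ * w * h⁻¹⁻¹) e.symm
    _ = p := conj_cancel h p

theorem card_even : Nat.card {x : G // d.Zt x ∧ Even (orderOf (z * x))} = 122 := by
  have h1 := card_homog (α := G) d.Ct d.Zt z (fun p x => d.Zt x ∧ Even (orderOf (p * x)))
    (fun h x => h * x * h⁻¹) (fun p hp => d.Zt_orbit hp) conj_cancel
    (fun h hh p x hx => ⟨d.Zt_conj hx.1 (d.mem_Ct_conj hh), by rw [pq_conj, orderOf_conj_eq]; exact hx.2⟩)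
  have h2 := card_homog (α := G × G) d.Ct d.Zt z d.Rz (fun h u => (h * u.1 * h⁻¹, h * u.2 * h⁻¹))
    (fun p hp => d.Zt_orbit hp) (fun h u => by simp only [conj_cancel])
    (fun h hh c u hu => d.Rz_conj (d.mem_Ct_conj hh) hu)
  rw [d.card_Rz] at h2
  have hbij : Nat.card {u : G × (G × G) // d.Zt u.1 ∧ d.Rz u.1 u.2} =
      Nat.card {u : G × G // d.Zt u.1 ∧ d.Zt u.2 ∧ Even (orderOf (u.1 * u.2))} := by
    refine Nat.card_congr (Equiv.ofBijective (fun u => ⟨u.1.2, u.2.2.1, u.2.2.2.1, u.2.2.2.2.1⟩) ⟨?_, ?_⟩)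
    · rintro ⟨⟨c, p⟩, hc, hp⟩ ⟨⟨c', p'⟩, hc', hp'⟩ e
      have e' : p = p' := congrArg Subtype.val e
      subst e'
      have hcc : c = c' := d.Zt_pr_inj hc hc' ((d.pr_eq hc.1 hc'.1).mpr (by
        have := mul_mem hp.2.2.2 (inv_mem hp'.2.2.2)
        rwa [mul_inv_rev, inv_inv, mul_assoc, mul_inv_cancel_left] at this))
      subst hcc
      rfl
    · rintro ⟨⟨p, x⟩, hp, hx, hev⟩
      change Even (orderOf (p * x)) at hev
      change d.Zt p at hp
      change d.Zt x at hx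
      have o1 := order_two_of_conj d.hz hp.2
      have o2 := order_two_of_conj d.hz hx.2
      obtain ⟨hr, c1, c2⟩ := central_spec o1 o2 hev
      have hrt : Commute (pairInvol p x) d.t := (hp.1.mul_left hx.1).pow_left _
      have hsq : d.pr _ hrt * d.pr _ hrt = 1 := by
        rw [d.pr_mul, d.pr_one_iff, show pairInvol p x * pairInvol p x = 1 from sq_of_order_two hr]; exact one_mem _
      have hne : d.pr _ hrt ≠ 1 := by
        intro h
        have hk : d.pr (p * x) (hp.1.mul_left hx.1) ^ (orderOf (p * x) / 2) = 1 := by rw [d.pr_pow]; exact h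
        have hd := orderOf_dvd_of_pow_eq_one hk
        rw [d.Zt_even hp hx hev] at hd
        have hpos := orderOf_pos (p * x)
        obtain ⟨m, hm⟩ := hev
        have := Nat.le_of_dvd (by omega) hd
        omega
      have hD : d.pr _ hrt ∈ d.Db :=
        (d.mem_Db hrt).mpr (((d.Zt_comm_u hp).mul_left (d.Zt_comm_u hx)).pow_left _)
      obtain ⟨c, hc, e⟩ := d.Db_invol hsq hne hD
      exact ⟨⟨(c, (p, x)), hc, hp, hx, hev, (d.pr_eq hc.1 hrt).mp e⟩, rfl⟩
  rw [hbij, h1, d.card_Zt] at h2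
  omega

theorem card_odd : Nat.card {x : G // d.Zt x ∧ Odd (orderOf (z * x))} = 193 := by
  classical
  have h := d.card_Zt
  rw [← Nat.card_congr (Equiv.sumCompl fun x : {x : G // d.Zt x} => Even (orderOf (z * x.1))), Nat.card_sum,
    Nat.card_congr (Equiv.subtypeSubtypeEquivSubtypeInter (fun x : G => d.Zt x) fun x => Even (orderOf (z * x))),
    Nat.card_congr (Equiv.subtypeSubtypeEquivSubtypeInter (fun x : G => d.Zt x) fun x => ¬ Even (orderOf (z * x))),
    d.card_even] at h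
  simp only [Nat.not_even_iff_odd] at h
  omega

theorem pair_t : Nat.card (PairSet z d.t d.t) = 315 * 193 := by
  have h := card_homog (α := G) d.Ct d.Zt z (fun p q => IsConj d.t q ∧ pairInvol p q = d.t)
    (fun h x => h * x * h⁻¹) (fun p hp => d.Zt_orbit hp) conj_cancel
    (fun h hh p q hq => ⟨hq.1.trans (isConj_iff.mpr ⟨h, rfl⟩), by
      rw [pairInvol_conj, hq.2, (d.mem_Ct_conj hh).eq, mul_inv_cancel_right]⟩)
  have hfib : Nat.card {q : G // IsConj d.t q ∧ pairInvol z q = d.t} = 193 := by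
    rw [← d.card_odd]
    refine (Nat.card_congr (Equiv.ofBijective
      (fun x : {x : G // d.Zt x ∧ Odd (orderOf (z * x))} =>
        (⟨d.t * x.1, (d.fibre_t_iff _).mpr ⟨x.1, x.2.1, x.2.2, rfl⟩⟩ :
          {q : G // IsConj d.t q ∧ pairInvol z q = d.t})) ⟨?_, ?_⟩)).symm
    · intro a b e
      exact Subtype.ext (mul_left_cancel (congrArg Subtype.val e :))
    · rintro ⟨q, hq⟩
      obtain ⟨x, hx, ho, rfl⟩ := (d.fibre_t_iff q).mp hq
      exact ⟨⟨x, hx, ho⟩, rfl⟩
  rw [hfib, d.card_Zt] at h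
  rw [← h]
  refine Nat.card_congr
    { toFun := fun u => ⟨u.1, ⟨?_, u.2.1⟩, u.2.2.1, u.2.2.2⟩
      invFun := fun u => ⟨u.1, u.2.1.2, u.2.2.1, u.2.2.2⟩
      left_inv := fun _ => rfl
      right_inv := fun _ => rfl }
  obtain ⟨⟨p, q⟩, hp, hq, he⟩ := u
  have ht2 : orderOf d.t = 2 := order_two_of_mul_self d.t_sq d.t_ne
  obtain ⟨-, c1, -⟩ := central_spec (order_two_of_conj d.hz hp) (order_two_of_conj ht2 hq)
    (even_of_not_conj (order_two_of_conj d.hz hp) (order_two_of_conj ht2 hq) fun e => d.not_conj ((hp.trans e).trans hq.symm))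
  rw [show (p * q) ^ (orderOf (p * q) / 2) = d.t from he] at c1
  exact c1.symm

theorem pair_z' : Nat.card (PairSet z d.t z) = 6480 * 236 := by
  have h := card_homog (α := G) (centralizer ({z} : Set G)) (fun q => Commute q z ∧ IsConj d.t q) d.t
    (fun q p => IsConj z p ∧ Commute p z ∧ pairInvol p q = z) (fun h x => h * x * h⁻¹)
    (fun q hq => by
      obtain ⟨c, hc, e⟩ := d.toSec.T_class hq.1 hq.2
      exact ⟨c, Ctx.mem_C.mpr hc, e⟩)
    conj_cancel
    (fun h hh q p hp => by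
      have hh' : Commute h z := Ctx.mem_C.mp hh
      exact ⟨hp.1.trans (isConj_iff.mpr ⟨h, rfl⟩), (hh'.mul_left hp.2.1).mul_left hh'.inv_left,
        by rw [pairInvol_conj, hp.2.2, hh'.eq, mul_inv_cancel_right]⟩)
  rw [d.toStd.card_fibre, d.toSec.card_T_class] at h
  rw [← h]
  refine Nat.card_congr
    { toFun := fun u => ⟨(u.1.2, u.1.1), ⟨?_, u.2.2.1⟩, u.2.1, ?_, u.2.2.2⟩
      invFun := fun u => ⟨(u.1.2, u.1.1), u.2.2.1, u.2.1.2, u.2.2.2.2⟩
      left_inv := fun _ => rfl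
      right_inv := fun _ => rfl }
  all_goals
    obtain ⟨⟨p, q⟩, hp, hq, he⟩ := u
    have ht2 : orderOf d.t = 2 := order_two_of_mul_self d.t_sq d.t_ne
    obtain ⟨-, c1, c2⟩ := central_spec (order_two_of_conj d.hz hp) (order_two_of_conj ht2 hq)
      (even_of_not_conj (order_two_of_conj d.hz hp) (order_two_of_conj ht2 hq) fun e => d.not_conj ((hp.trans e).trans hq.symm))
    rw [show (p * q) ^ (orderOf (p * q) / 2) = z from he] at c1 c2
  · exact c2.symm
  · exact c1.symm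

theorem G_classes {x : G} (hx : orderOf x = 2) : IsConj z x ∨ IsConj d.t x := by
  have hxx := sq_of_order_two hx
  obtain ⟨g, hg⟩ := d.toPt.involution_into_C hxx
  have h2 : g * x * g⁻¹ * (g * x * g⁻¹) = 1 := by
    rw [show g * x * g⁻¹ * (g * x * g⁻¹) = g * (x * x) * g⁻¹ by group, hxx]; simp
  have hcj : IsConj (g * x * g⁻¹) x := isConj_iff.mpr ⟨g⁻¹, conj_cancel g x⟩
  rcases d.invol_kind hg h2 with ⟨r | r, -⟩ | ⟨h, -⟩ | ⟨h, -⟩
  · exact absurd (conj_eq_one_iff.mp r) (ne_one_of_order_two hx)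
  · exact Or.inl (r ▸ hcj)
  · exact Or.inl (h.trans hcj)
  · exact Or.inr (h.trans hcj)

include d in
theorem card_G : Nat.card G = 448345497600 := by
  rw [two_class_formula d.hz (order_two_of_mul_self d.t_sq d.t_ne) d.not_conj (fun x hx => d.G_classes hx),
    d.pair_z', d.pair_t, show Nat.card ↥(centralizer ({d.t} : Set G)) = 161280 from d.order_Ct, d.toSec.card_C]

end Four

end Cfsg.Lib.SuzukiType
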